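/-
The rank one subgroups at a hyperbolic pair of SU_n.

* `embHom`: a group acting on a nondegenerate subspace, extended by the identity.
* `phi2`: SL₂ of the fixed field on a hyperbolic pair; `phi3`: SU₃ on a pair and the anisotropic vector.
* `te_e_mem2`, `te_f_mem2`, `te_e_mem3`, `te_f_mem3`, `fM_mem3`: the root elements in their ranges.
-/
import Cfsg.Agent.Lib.SUNPresent.OddPar
import Cfsg.Agent.Lib.SUPresent.Three

set_option autoImplicit false
set_option linter.unusedSectionVars false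

open Matrix
open scoped MatrixGroups

namespace Cfsg.Agent.SUMult

open Cfsg.Agent.Unitary Cfsg.Agent.UFus Cfsg.Agent.UnitaryBN Cfsg.Agent.SUNPresent

section Generic

variable {F : Type*} [Field F] [Fintype F] {q n k : ℕ}

/-- A family of vectors paired with its reversal. -/
structure Sub (q : ℕ) (n k : ℕ) (F : Type*) [Field F] where
  v : Fin k → (Fin n → F)
  pair : ∀ i j, Cfsg.hermForm n F q (v i) (v j) = if j = Fin.rev i then 1 else 0

/-- The form in the coordinates of such a family. -/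
def gk (q : ℕ) (a b : Fin k → F) : F := ∑ i, a i * b (Fin.rev i) ^ q

variable (hF : Fintype.card F = q ^ 2) (B : Sub q n k F)
include hF

/-- The coordinates of a vector. -/
def crd (x : Fin n → F) : Fin k → F := fun i => Cfsg.hermForm n F q x (B.v (Fin.rev i))

/-- The vector with given coordinates. -/
def comb (a : Fin k → F) : Fin n → F := ∑ i, a i • B.v i

theorem h_comb_right (x : Fin n → F) (b : Fin k → F) :
    Cfsg.hermForm n F q x (comb B b) = gk q (crd B x) b := by
  have H := hermForm_isHerm hF n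
  rw [comb, H.sum_right hF, gk, ← Equiv.sum_comp Fin.revPerm]
  exact Finset.sum_congr rfl fun i _ => by rw [H.smul_right, mul_comm]; rfl

theorem crd_v (j : Fin k) : crd B (B.v j) = Pi.single j 1 := funext fun i => by
  rw [crd, B.pair, Pi.single_apply]
  exact if_congr Fin.rev_inj rfl rfl

theorem crd_comb (a : Fin k → F) : crd B (comb B a) = a := funext fun i => by
  have H := hermForm_isHerm hF n
  rw [crd, comb, H.sum_left, Finset.sum_eq_single i (fun j _ hj => by
    rw [H.smul_left, B.pair, if_neg (fun e => hj (Fin.rev_inj.1 e).symm), mul_zero]) (by simp), H.smul_left, B.pair,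
    if_pos rfl, mul_one]

theorem comb_add (a b : Fin k → F) : comb B (a + b) = comb B a + comb B b := by
  simp [comb, add_smul, Finset.sum_add_distrib]

/-- The matrix of the extension by the identity. -/
def embMat (C : Matrix (Fin k) (Fin k) F) : Matrix (Fin n) (Fin n) F :=
  1 + (Matrix.of fun (a : Fin n) (i : Fin k) => B.v i a) * (C - 1) *
    (Matrix.of fun (i : Fin k) (a : Fin n) => B.v (Fin.rev i) a ^ q)

theorem crd_eq (x : Fin n → F) : (Matrix.of fun (i : Fin k) (a : Fin n) => B.v (Fin.rev i) a ^ q) *ᵥ x = crd B x :=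
  funext fun i => dot_conj x (B.v (Fin.rev i))

theorem comb_eq (a : Fin k → F) : (Matrix.of fun (b : Fin n) (i : Fin k) => B.v i b) *ᵥ a = comb B a := by
  funext b
  simp [comb, Matrix.mulVec, dotProduct, mul_comm, Finset.sum_apply]

theorem embMat_mulVec (C : Matrix (Fin k) (Fin k) F) (x : Fin n → F) :
    embMat B C *ᵥ x = x + comb B ((C - 1) *ᵥ crd B x) := by
  rw [embMat, Matrix.add_mulVec, Matrix.one_mulVec, ← Matrix.mulVec_mulVec, ← Matrix.mulVec_mulVec, crd_eq hF,
    comb_eq hF]

theorem embMat_det (C : Matrix (Fin k) (Fin k) F) : (embMat B C).det = C.det := by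
  rw [embMat, Matrix.mul_assoc, Matrix.det_one_add_mul_comm, Matrix.mul_assoc,
    show (Matrix.of fun (i : Fin k) (a : Fin n) => B.v (Fin.rev i) a ^ q) *
      (Matrix.of fun (a : Fin n) (i : Fin k) => B.v i a) = 1 from ?_, Matrix.mul_one, add_sub_cancel]
  refine Matrix.ext_iff_mulVec.2 fun a => ?_
  rw [← Matrix.mulVec_mulVec, comb_eq hF, crd_eq hF, crd_comb hF, Matrix.one_mulVec]

theorem embMat_isUnitary {C : Matrix (Fin k) (Fin k) F} (h : ∀ a b, gk q (C *ᵥ a) (C *ᵥ b) = gk q a b) :
    IsUnitary q (embMat B C) := by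
  intro x y
  have H := hermForm_isHerm hF n
  have hl : ∀ (a : Fin k → F) (z : Fin n → F),
      Cfsg.hermForm n F q (comb B a) z = (gk q (crd B z) a) ^ q := fun a z => by
    rw [← h_comb_right hF B z a]; exact (H.conj_symm z (comb B a))
  have hg : ∀ a b : Fin k → F, (gk q a b) ^ q = gk q b a := fun a b => by
    rw [gk, sum_pow_q hF, gk, ← Equiv.sum_comp Fin.revPerm]
    exact Finset.sum_congr rfl fun i _ => by
      rw [mul_pow, pow_q_pow_q hF, Fin.revPerm_apply, Fin.rev_rev, mul_comm]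
  have hadd : ∀ a b c : Fin k → F, gk q (a + b) c = gk q a c + gk q b c := fun a b c => by
    simp [gk, add_mul, Finset.sum_add_distrib]
  have hadd' : ∀ a b c : Fin k → F, gk q a (b + c) = gk q a b + gk q a c := fun a b c => by
    simp [gk, add_pow_q hF, mul_add, Finset.sum_add_distrib]
  rw [embMat_mulVec hF, embMat_mulVec hF, H.add_left, H.add_right hF, H.add_right hF, h_comb_right hF,
    h_comb_right hF, crd_comb hF, hl, hg]
  have hC : ∀ a, C *ᵥ a = a + (C - 1) *ᵥ a := fun a => by
    rw [Matrix.sub_mulVec, Matrix.one_mulVec, add_sub_cancel]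
  have e := h (crd B x) (crd B y)
  rw [hC, hC, hadd, hadd', hadd'] at e
  linear_combination e

variable {Hg : Type*} [Group Hg] (C : Hg →* Matrix (Fin k) (Fin k) F) (hd : ∀ g, (C g).det = 1)
  (hu : ∀ g a b, gk q (C g *ᵥ a) (C g *ᵥ b) = gk q a b)

/-- The element of SU. -/
noncomputable def embEl (g : Hg) : Cfsg.SU n F q :=
  suOfUnitary _ (embMat_isUnitary hF B (hu g)) (by rw [embMat_det hF, hd])

theorem suAct_embEl (g : Hg) (x : Fin n → F) :
    suAct (embEl hF B C hd hu g) x = x + comb B ((C g - 1) *ᵥ crd B x) :=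
  embMat_mulVec hF B (C g) x

/-- The extension by the identity. -/
noncomputable def embHom : Hg →* Cfsg.SU n F q :=
  MonoidHom.mk' (embEl hF B C hd hu) fun g g' => suAct_ext fun x => by
    have hadd : ∀ x y : Fin n → F, crd B (x + y) = crd B x + crd B y := fun x y => funext fun i => by
      simp [crd, (hermForm_isHerm hF n).add_left]
    rw [suAct_mul, suAct_embEl, suAct_embEl, suAct_embEl, hadd, crd_comb hF, Matrix.mulVec_add, comb_add hF,
      map_mul, add_assoc]
    congr 1
    rw [← comb_add hF, ← comb_add hF, Matrix.mulVec_mulVec, ← Matrix.add_mulVec, ← Matrix.add_mulVec]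
    congr 2
    noncomm_ring

theorem suAct_embHom (g : Hg) (x : Fin n → F) :
    suAct (embHom hF B C hd hu g) x = x + comb B ((C g - 1) *ᵥ crd B x) :=
  embMat_mulVec hF B (C g) x

theorem embHom_injective (hC : Function.Injective C) : Function.Injective (embHom hF B C hd hu) := by
  rw [injective_iff_map_eq_one]
  intro g hg
  refine hC ((sub_eq_zero.1 (Matrix.ext_iff_mulVec.2 fun a => ?_)).trans (map_one C).symm)
  have e := suAct_embHom hF B C hd hu g (comb B a)
  rw [hg, suAct_one, left_eq_add, crd_comb hF] at e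
  have e' := congrArg (crd B) e
  rw [crd_comb hF] at e'
  rw [e', Matrix.zero_mulVec]
  funext i
  simp [crd, (hermForm_isHerm hF n).zero_left]

end Generic

section Two

variable {F : Type*} [Field F] [Fintype F] {q n m : ℕ}
variable (hF : Fintype.card F = q ^ 2) (Φ : Frame n F q m) (l : Fin m)
include hF

/-- The hyperbolic pair. -/
def pairSub : Sub q n 2 F where
  v := ![Φ.e l, Φ.f l]
  pair i j := by fin_cases i <;> fin_cases j <;> simp [Φ.ee, Φ.ff, Φ.ef, Φ.fe hF]

/-- The matrices on a pair. -/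
noncomputable def mat2 : SL(2, fixedField hF) →* Matrix (Fin 2) (Fin 2) F where
  toFun A := !![((A.1 0 0 : fixedField hF) : F), skew hF * ((A.1 0 1 : fixedField hF) : F);
    ((A.1 1 0 : fixedField hF) : F) / skew hF, ((A.1 1 1 : fixedField hF) : F)]
  map_one' := by ext i j; fin_cases i <;> fin_cases j <;> simp
  map_mul' A B := by
    have h0 : (skew hF : F) ≠ 0 := skew_ne_zero hF
    ext i j
    fin_cases i <;> fin_cases j <;> simp [Matrix.mul_apply, Fin.sum_univ_two] <;> field_simp

theorem mat2_det (A : SL(2, fixedField hF)) : (mat2 hF A).det = 1 := by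
  have h := A.2
  rw [Matrix.det_fin_two] at h
  have h0 : (skew hF : F) ≠ 0 := skew_ne_zero hF
  have h' : ((A.1 0 0 : fixedField hF) : F) * (A.1 1 1 : fixedField hF) -
      (A.1 0 1 : fixedField hF) * (A.1 1 0 : fixedField hF) = 1 := by
    exact_mod_cast congrArg (fun x : fixedField hF => (x : F)) h
  simp only [mat2, MonoidHom.coe_mk, OneHom.coe_mk, Matrix.det_fin_two_of]
  field_simp
  linear_combination h'

theorem mat2_gk (A : SL(2, fixedField hF)) (a b : Fin 2 → F) :
    gk q (mat2 hF A *ᵥ a) (mat2 hF A *ᵥ b) = gk q a b := by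
  have h := A.2
  rw [Matrix.det_fin_two] at h
  have h0 : (skew hF : F) ≠ 0 := skew_ne_zero hF
  have h' : ((A.1 0 0 : fixedField hF) : F) * (A.1 1 1 : fixedField hF) -
      (A.1 0 1 : fixedField hF) * (A.1 1 0 : fixedField hF) = 1 := by
    exact_mod_cast congrArg (fun x : fixedField hF => (x : F)) h
  have hx : ∀ x : fixedField hF, (x : F) ^ q = (x : F) := fun x => x.2
  simp only [gk, Fin.sum_univ_two, mat2, MonoidHom.coe_mk, OneHom.coe_mk, show Fin.rev (0 : Fin 2) = 1 from rfl,
    show Fin.rev (1 : Fin 2) = 0 from rfl]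
  simp [Matrix.mulVec, dotProduct, Fin.sum_univ_two, add_pow_q hF, mul_pow, div_pow, hx, skew_pow hF]
  field_simp
  linear_combination (skew hF * (a 0 * b 1 ^ q + a 1 * b 0 ^ q)) * h'

theorem mat2_injective : Function.Injective (mat2 hF : SL(2, fixedField hF) → Matrix (Fin 2) (Fin 2) F) := by
  intro A A' h
  have h0 : (skew hF : F) ≠ 0 := skew_ne_zero hF
  have e : ∀ i j, mat2 hF A i j = mat2 hF A' i j := fun i j => by rw [h]
  refine Subtype.ext (Matrix.ext fun i j => Subtype.ext ?_)
  have := e i j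
  fin_cases i <;> fin_cases j <;> simpa [mat2, h0] using this

/-- SL₂ of the fixed field on the pair at `l`. -/
noncomputable def phi2 : SL(2, fixedField hF) →* Cfsg.SU n F q :=
  embHom hF (pairSub hF Φ l) (mat2 hF) (mat2_det hF) (mat2_gk hF)

theorem phi2_act (A : SL(2, fixedField hF)) (x : Fin n → F) :
    suAct (phi2 hF Φ l A) x =
      x + comb (pairSub hF Φ l) ((mat2 hF A - 1) *ᵥ crd (pairSub hF Φ l) x) :=
  suAct_embHom hF _ _ _ _ _ _

theorem phi2_injective : Function.Injective (phi2 hF Φ l) := embHom_injective hF _ _ _ _ (mat2_injective hF)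

theorem te_e_mem2 {d : F} (hd : d ^ q = -d) : te hF (Φ.ee l l) hd ∈ (phi2 hF Φ l).range := by
  have hr : d / skew hF ∈ fixedField hF := by rw [mem_fixedField, div_pow, hd, skew_pow hF, neg_div_neg_eq]
  refine ⟨⟨!![1, ⟨_, hr⟩; 0, 1], by simp [Matrix.det_fin_two_of]⟩, suAct_ext fun x => ?_⟩
  rw [suAct_transEich hF]
  refine (phi2_act hF Φ l _ x).trans ?_
  congr 1
  simp [comb, crd, pairSub, mat2, Matrix.mulVec, dotProduct, Fin.sum_univ_two, Fin.rev,
    mul_div_cancel₀ _ (skew_ne_zero hF : (skew hF : F) ≠ 0)]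

theorem te_f_mem2 {d : F} (hd : d ^ q = -d) : te hF (Φ.ff l l) hd ∈ (phi2 hF Φ l).range := by
  have hr : d * skew hF ∈ fixedField hF := by rw [mem_fixedField, mul_pow, hd, skew_pow hF, neg_mul_neg]
  refine ⟨⟨!![1, 0; ⟨_, hr⟩, 1], by simp [Matrix.det_fin_two_of]⟩, suAct_ext fun x => ?_⟩
  rw [suAct_transEich hF]
  refine (phi2_act hF Φ l _ x).trans ?_
  congr 1
  simp [comb, crd, pairSub, mat2, Matrix.mulVec, dotProduct, Fin.sum_univ_two, Fin.rev,
    mul_div_cancel_right₀ _ (skew_ne_zero hF : (skew hF : F) ≠ 0)]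

end Two

section Three

open Cfsg.Agent.SUPresent Cfsg.Agent.RegUnip.SU3

variable {F : Type*} [Field F] [Fintype F] {q n m : ℕ}
variable {hF : Fintype.card F = q ^ 2} {Φ : Frame n F q m} (O : OConst hF Φ) (l : Fin m)

/-- The pair and the anisotropic vector. -/
def tripleSub : Sub q n 3 F where
  v := ![Φ.e l, Φ.u, Φ.f l]
  pair i j := by fin_cases i <;> fin_cases j <;> simp [Φ.ee, Φ.ff, Φ.ef, Φ.fe hF, Φ.eu, Φ.fu, Φ.ue hF, Φ.uf hF, O.huu]

theorem g3_eq_gk (a b : Fin 3 → F) : g3 (Unitary.conjHom hF) a b = gk q a b := by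
  simp only [g3, gk, Fin.sum_univ_three, conjHom_apply]
  rfl

theorem co_det (g : Cfsg.SU 3 F q) : (co hF g).det = 1 := by
  rw [co, Matrix.det_mul_right_comm, Matrix.nonsing_inv_mul _ (Bm_det (fr hF) hF), Matrix.one_mul,
    Matrix.SpecialLinearGroup.det_coe]

theorem co_gk (g : Cfsg.SU 3 F q) (a b : Fin 3 → F) : gk q (co hF g *ᵥ a) (co hF g *ᵥ b) = gk q a b := by
  have e : ∀ a, vecOf (fr hF) (co hF g *ᵥ a) = suAct g (vecOf (fr hF) a) := fun a => by
    rw [← Bm_mulVec, ← Bm_mulVec, Matrix.mulVec_mulVec, suAct, Matrix.mulVec_mulVec, co, ← Matrix.mul_assoc,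
      ← Matrix.mul_assoc, Matrix.mul_nonsing_inv _ (Bm_det (fr hF) hF), Matrix.one_mul]
  rw [← g3_eq_gk (hF := hF), ← h_vecOf (hF := hF) (fr hF), e, e, suAct_herm, h_vecOf (hF := hF), g3_eq_gk]

/-- The coordinates as a homomorphism. -/
noncomputable def coHom : Cfsg.SU 3 F q →* Matrix (Fin 3) (Fin 3) F where
  toFun := co hF
  map_one' := co_one
  map_mul' := co_mul

/-- SU₃ on the pair at `l` and the anisotropic vector. -/
noncomputable def phi3 : Cfsg.SU 3 F q →* Cfsg.SU n F q :=
  embHom hF (tripleSub O l) (coHom (hF := hF)) co_det co_gk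

theorem phi3_act (g : Cfsg.SU 3 F q) (x : Fin n → F) :
    suAct (phi3 O l g) x = x + comb (tripleSub O l) ((co hF g - 1) *ᵥ crd (tripleSub O l) x) :=
  suAct_embHom hF _ _ _ _ _ _

theorem phi3_injective : Function.Injective (phi3 O l) := embHom_injective hF _ _ _ _ co_injective

theorem phi3_uE {a b : F} (h : b + Unitary.conjHom hF b + a * Unitary.conjHom hF a = 0) (x : Fin n → F) :
    suAct (phi3 O l (uE hF a b)) x = x + (-(a ^ q) * Cfsg.hermForm n F q x Φ.u +
      b * Cfsg.hermForm n F q x (Φ.e l)) • Φ.e l + (a * Cfsg.hermForm n F q x (Φ.e l)) • Φ.u := by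
  rw [phi3_act, add_assoc]
  congr 1
  simp [comb, crd, tripleSub, co_uE h, uu, Matrix.mulVec, dotProduct, Fin.sum_univ_three, Fin.rev,
    conjHom_apply]

theorem te_e_mem3 {d : F} (hd : d ^ q = -d) : te hF (Φ.ee l l) hd ∈ (phi3 O l).range := by
  have h : d + Unitary.conjHom hF d + 0 * Unitary.conjHom hF 0 = 0 := by rw [conjHom_apply, hd]; ring
  refine ⟨uE hF 0 d, suAct_ext fun x => ?_⟩
  rw [phi3_uE O l h, suAct_transEich hF, zero_pow_q hF]
  simp

theorem fM_mem3 (a : F) : O.fM (Pi.single l a) ∈ (phi3 O l).range := by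
  have h : O.b0 * a ^ (q + 1) + Unitary.conjHom hF (O.b0 * a ^ (q + 1)) + -(O.a0 * a ^ q) * Unitary.conjHom hF (-(O.a0 * a ^ q)) = 0 := by
    simp only [conjHom_apply, mul_pow, neg_pow_q hF, pow_q_succ_fixed hF, pow_q_pow_q hF]
    have := O.hab
    rw [pow_succ] at this ⊢
    linear_combination (a ^ q * a) * this
  refine ⟨uE hF (-(O.a0 * a ^ q)) (O.b0 * a ^ (q + 1)), suAct_ext fun x => ?_⟩
  rw [phi3_uE O l h, OConst.fM, suAct_eich, vE_single]
  simp only [(hermForm_isHerm hF n).smul_right, neg_pow_q hF, mul_pow, pow_q_pow_q hF, pow_succ]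
  module

theorem te_f_mem3 {d : F} (hd : d ^ q = -d) : te hF (Φ.ff l l) hd ∈ (phi3 O l).range := by
  obtain ⟨A, hA⟩ := te_f_mem2 hF Φ l hd
  have hσ : Unitary.conjHom hF (skew hF) = -skew hF := skew_pow hF
  refine ⟨emb (hF := hF) (skew_ne_zero hF) hσ A, ?_⟩
  rw [← hA]
  refine suAct_ext fun x => ?_
  rw [phi3_act, phi2_act, co_emb]
  congr 1
  simp [comb, crd, tripleSub, pairSub, co_emb, mat2, Lm, Matrix.mulVec, dotProduct, Fin.sum_univ_three,
    Fin.sum_univ_two, Fin.rev]

end Three

end Cfsg.Agent.SUMult
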