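/-
Central extensions whose kernel has order prime to p: exact lifts of p-elements.

* `IsP`, `hat`: p-elements and their unique p-lifts; `hat_mul`, `hat_conj`, `commute_hat`.
* `commute_of_derived`: an element commuting downstairs with a subgroup commutes with lifts of its derived group.
* `hasCyclic_quotient_center`: the multiplier of a quotient by a cyclic centre.
-/
import Cfsg.Agent.Lib.SLMult.Psl
import Cfsg.Agent.Lib.TwistMult.Kernel
import Mathlib.GroupTheory.Nilpotent
import Mathlib.GroupTheory.Sylow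

set_option autoImplicit false
set_option linter.unusedSectionVars false

open scoped commutatorElement

namespace Cfsg.Agent.SUMult

universe u v

/-- The elements of p-power order. -/
def IsP (p : ℕ) {G : Type*} [Group G] (x : G) : Prop := ∃ k : ℕ, x ^ p ^ k = 1

section Basic

variable {p : ℕ} {G H : Type*} [Group G] [Group H]

theorem IsP.one : IsP p (1 : G) := ⟨0, one_pow _⟩

theorem IsP.conj {x : G} (h : IsP p x) (g : G) : IsP p (g * x * g⁻¹) := by
  obtain ⟨k, hk⟩ := h
  exact ⟨k, by rw [conj_pow, hk, mul_one, mul_inv_cancel]⟩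

theorem IsP.inv {x : G} (h : IsP p x) : IsP p x⁻¹ := by
  obtain ⟨k, hk⟩ := h
  exact ⟨k, by rw [inv_pow, hk, inv_one]⟩

theorem IsP.map {x : G} (h : IsP p x) (f : G →* H) : IsP p (f x) := by
  obtain ⟨k, hk⟩ := h
  exact ⟨k, by rw [← map_pow, hk, map_one]⟩

theorem IsP.of_mem {P : Subgroup G} (hP : IsPGroup p P) {x : G} (hx : x ∈ P) : IsP p x := by
  obtain ⟨k, hk⟩ := hP ⟨x, hx⟩
  exact ⟨k, congrArg Subtype.val hk⟩

theorem IsP.pow_le {x : G} {k l : ℕ} (h : x ^ p ^ k = 1) (hkl : k ≤ l) : x ^ p ^ l = 1 := by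
  obtain ⟨j, rfl⟩ := Nat.exists_eq_add_of_le hkl
  rw [pow_add, pow_mul, h, one_pow]

end Basic

section Coprime

variable {p : ℕ} {Γ : Type u} {M : Type v} [Group Γ] [Group M] {σ : Γ →* M}
  (hc : σ.ker ≤ Subgroup.center Γ) (hco : (Nat.card σ.ker).Coprime p)

include hc in
theorem ker_commute {z : Γ} (h : σ z = 1) (g : Γ) : Commute g z := Subgroup.mem_center_iff.1 (hc h) g

include hco in
theorem ker_eq_one {z : Γ} (h : σ z = 1) {k : ℕ} (hk : z ^ p ^ k = 1) : z = 1 := by
  have hcard : (⟨z, h⟩ : σ.ker) ^ Nat.card σ.ker = 1 := pow_card_eq_one'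
  have h2 := pow_gcd_eq_one.2 ⟨hk, show z ^ Nat.card σ.ker = 1 from congrArg Subtype.val hcard⟩
  rwa [Nat.Coprime.pow_left k hco.symm, pow_one] at h2

include hc hco in
/-- p-elements with the same image are equal. -/
theorem isP_eq {x y : Γ} (hx : IsP p x) (hy : IsP p y) (e : σ x = σ y) : x = y := by
  obtain ⟨k, hk⟩ := hx
  obtain ⟨l, hl⟩ := hy
  have hz : σ (x⁻¹ * y) = 1 := by rw [map_mul, map_inv, e, inv_mul_cancel]
  have hxz : Commute x⁻¹ y := by
    have := (ker_commute hc hz x).inv_left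
    have h2 : Commute x⁻¹ (x * (x⁻¹ * y)) := ((Commute.refl x).inv_left).mul_right this
    rwa [mul_inv_cancel_left] at h2
  have h1 : (x⁻¹ * y) ^ p ^ max k l = 1 := by
    rw [hxz.mul_pow, inv_pow, IsP.pow_le hk (le_max_left k l), IsP.pow_le hl (le_max_right k l), inv_one,
      one_mul]
  exact inv_mul_eq_one.1 (ker_eq_one hco hz h1)

include hc hco in
/-- A p-element in the image has a p-lift. -/
theorem exists_isP {g : Γ} (h : IsP p (σ g)) : ∃ y, IsP p y ∧ σ y = σ g := by
  obtain ⟨k, hk⟩ := h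
  have hcop : (Nat.card σ.ker).Coprime (p ^ k) := hco.pow_right k
  set w : σ.ker := ⟨g ^ p ^ k, by rw [MonoidHom.mem_ker, map_pow, hk]⟩
  obtain ⟨z, hz⟩ := (powCoprime hcop).surjective w
  have hz' : (z : Γ) ^ p ^ k = g ^ p ^ k := congrArg Subtype.val hz
  refine ⟨g * (z : Γ)⁻¹, ⟨k, ?_⟩, by rw [map_mul, map_inv, MonoidHom.mem_ker.1 z.2, inv_one, mul_one]⟩
  rw [(ker_commute hc z.2 g).inv_right.mul_pow, inv_pow, hz', mul_inv_cancel]

open Classical in
/-- The p-lift. -/
noncomputable def hat (σ : Γ →* M) (p : ℕ) (x : M) : Γ :=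
  if h : ∃ y, IsP p y ∧ σ y = x then h.choose else 1

variable (hs : Function.Surjective σ)

include hs hc hco in
theorem hat_spec {x : M} (h : IsP p x) : IsP p (hat σ p x) ∧ σ (hat σ p x) = x := by
  obtain ⟨g, rfl⟩ := hs x
  rw [hat, dif_pos (exists_isP hc hco h)]
  exact (exists_isP hc hco h).choose_spec

include hs hc hco in
theorem isP_hat {x : M} (h : IsP p x) : IsP p (hat σ p x) := (hat_spec hc hco hs h).1

include hs hc hco in
theorem σ_hat {x : M} (h : IsP p x) : σ (hat σ p x) = x := (hat_spec hc hco hs h).2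

include hs hc hco in
theorem hat_eq {y : Γ} (hy : IsP p y) {x : M} (e : σ y = x) : hat σ p x = y := by
  subst e
  exact isP_eq hc hco (isP_hat hc hco hs (hy.map σ)) hy (σ_hat hc hco hs (hy.map σ))

include hs hc hco in
theorem hat_one : hat σ p 1 = 1 := hat_eq hc hco hs IsP.one (map_one σ)

include hs hc hco in
theorem hat_inv {x : M} (h : IsP p x) : hat σ p x⁻¹ = (hat σ p x)⁻¹ :=
  hat_eq hc hco hs (isP_hat hc hco hs h).inv (by rw [map_inv, σ_hat hc hco hs h])

include hs hc hco in
theorem hat_conj (g : Γ) {x : M} (h : IsP p x) :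
    g * hat σ p x * g⁻¹ = hat σ p (σ g * x * (σ g)⁻¹) :=
  (hat_eq hc hco hs ((isP_hat hc hco hs h).conj g) (by rw [map_mul, map_mul, map_inv, σ_hat hc hco hs h])).symm

include hs hc hco in
/-- An element commuting downstairs with a p-element commutes with its p-lift. -/
theorem commute_hat {g : Γ} {x : M} (h : IsP p x) (e : Commute (σ g) x) : Commute g (hat σ p x) := by
  have := hat_conj hc hco hs g h
  rw [e.eq, mul_inv_cancel_right] at this
  exact mul_inv_eq_iff_eq_mul.1 this

include hs hc hco in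
/-- The p-lift is multiplicative on p-subgroups. -/
theorem hat_mul [Finite Γ] [Fact p.Prime] {P : Subgroup M} (hP : IsPGroup p P) {x y : M} (hx : x ∈ P)
    (hy : y ∈ P) : hat σ p (x * y) = hat σ p x * hat σ p y := by
  haveI : Finite M := Finite.of_surjective σ hs
  haveI : Group.IsNilpotent P := hP.isNilpotent
  haveI : Finite (P.comap σ) := inferInstance
  let f : P.comap σ →* P := σ.subgroupComap P
  have hf : f.ker ≤ Subgroup.center (P.comap σ) := fun z hz => Subgroup.mem_center_iff.2 fun g =>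
    Subtype.ext (Subgroup.mem_center_iff.1 (hc (show (z : Γ) ∈ σ.ker from congrArg Subtype.val hz)) g)
  haveI : Group.IsNilpotent (P.comap σ) := Subgroup.isNilpotent_of_ker_le_center f hf
  obtain ⟨S⟩ : Nonempty (Sylow p (P.comap σ)) := inferInstance
  have hmem : ∀ {a : M}, a ∈ P → ∃ ha : hat σ p a ∈ P.comap σ, (⟨_, ha⟩ : P.comap σ) ∈ S := by
    intro a ha
    have hp := IsP.of_mem hP ha
    have hm : hat σ p a ∈ P.comap σ := by rw [Subgroup.mem_comap, σ_hat hc hco hs hp]; exact ha
    refine ⟨hm, ?_⟩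
    obtain ⟨k, hk⟩ := isP_hat hc hco hs hp
    have hz : IsPGroup p (Subgroup.zpowers (⟨_, hm⟩ : P.comap σ)) := by
      rintro ⟨w, hw⟩
      obtain ⟨i, rfl⟩ := hw
      refine ⟨k, Subtype.ext (Subtype.ext ?_)⟩
      show (((⟨_, hm⟩ : P.comap σ) : Γ) ^ i) ^ p ^ k = 1
      rw [← zpow_natCast, ← zpow_mul, mul_comm, zpow_mul, zpow_natCast, hk, one_zpow]
    obtain ⟨T, hT⟩ := hz.exists_le_sylow
    haveI := Sylow.unique_of_normal S inferInstance
    rw [Subsingleton.elim T S] at hT
    exact hT (Subgroup.mem_zpowers _)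
  obtain ⟨h1, k1⟩ := hmem hx
  obtain ⟨h2, k2⟩ := hmem hy
  refine hat_eq hc hco hs ?_ (by
    rw [map_mul, σ_hat hc hco hs (IsP.of_mem hP hx), σ_hat hc hco hs (IsP.of_mem hP hy)])
  exact (IsP.of_mem S.isPGroup' (mul_mem k1 k2)).map (P.comap σ).subtype

theorem IsP.mul_of_commute {p : ℕ} {G : Type*} [Group G] {x y : G} (hx : IsP p x) (hy : IsP p y) (h : Commute x y) :
    IsP p (x * y) := by
  obtain ⟨k, hk⟩ := hx
  obtain ⟨l, hl⟩ := hy
  exact ⟨max k l, by rw [h.mul_pow, IsP.pow_le hk (le_max_left k l), IsP.pow_le hl (le_max_right k l), one_mul]⟩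

include hs hc hco in
/-- The p-lifts of commuting p-elements commute. -/
theorem hat_commute {x y : M} (hx : IsP p x) (hy : IsP p y) (h : Commute x y) :
    Commute (hat σ p x) (hat σ p y) :=
  commute_hat hc hco hs hy (by rw [σ_hat hc hco hs hx]; exact h)

include hs hc hco in
/-- The p-lift is multiplicative on commuting p-elements. -/
theorem hat_mul_of_commute {x y : M} (hx : IsP p x) (hy : IsP p y) (h : Commute x y) :
    hat σ p (x * y) = hat σ p x * hat σ p y :=
  hat_eq hc hco hs ((isP_hat hc hco hs hx).mul_of_commute (isP_hat hc hco hs hy) (hat_commute hc hco hs hx hy h))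
    (by rw [map_mul, σ_hat hc hco hs hx, σ_hat hc hco hs hy])

include hs hc hco in
/-- The p-lift of a commutator in an abelian situation. -/
theorem hat_bracket {x y z : M} (hx : IsP p x) (hy : IsP p y) (hz : IsP p z) (e : ⁅x, y⁆ = z) (h : Commute z y) :
    ⁅hat σ p x, hat σ p y⁆ = hat σ p z := by
  rw [commutatorElement_def, hat_conj hc hco hs _ hy, σ_hat hc hco hs hx, show x * y * x⁻¹ = z * y by
    rw [← e, commutatorElement_def]; group, hat_mul_of_commute hc hco hs hz hy h, mul_inv_cancel_right]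

end Coprime

section Derived

variable {Γ : Type u} {M : Type v} [Group Γ] [Group M] {σ : Γ →* M} (hc : σ.ker ≤ Subgroup.center Γ)
  (hs : Function.Surjective σ)

include hc in
/-- Elements with images commuting with a given one. -/
theorem commute_bracket {X A B : Γ} (hA : Commute (σ X) (σ A)) (hB : Commute (σ X) (σ B)) :
    Commute X ⁅A, B⁆ := by
  have e : X * ⁅A, B⁆ * X⁻¹ = ⁅A, B⁆ := by
    rw [conjugate_commutatorElement]
    exact TwistMult.bracket_congr hc (by rw [map_mul, map_mul, map_inv, hA.eq, mul_inv_cancel_right])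
      (by rw [map_mul, map_mul, map_inv, hB.eq, mul_inv_cancel_right])
  exact mul_inv_eq_iff_eq_mul.1 e

include hc hs in
/-- An element commuting downstairs with a subgroup commutes with all lifts of its derived group. -/
theorem commute_of_derived {X : Γ} {K : Subgroup M} (hK : ∀ a ∈ K, Commute (σ X) a) {y : Γ}
    (hy : σ y ∈ ⁅K, K⁆) : Commute X y := by
  have key : ⁅K.comap σ, K.comap σ⁆ ≤ Subgroup.centralizer {X} := by
    rw [Subgroup.commutator_le]
    intro A hA B hB
    exact Subgroup.mem_centralizer_singleton_iff.2 (commute_bracket hc (hK _ hA) (hK _ hB)).eq.symm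
  rw [← Subgroup.map_comap_eq_self_of_surjective hs K, ← Subgroup.map_commutator] at hy
  obtain ⟨w, hw, e⟩ := hy
  have h1 : Commute X w := (Subgroup.mem_centralizer_singleton_iff.1 (key hw)).symm
  have h2 : Commute X (w⁻¹ * y) := ker_commute hc (by rw [map_mul, map_inv, e, inv_mul_cancel]) X
  have := h1.mul_right h2
  rwa [mul_inv_cancel_left] at this

include hc hs in
/-- An element commuting downstairs with a perfect subgroup's lift. -/
theorem commute_of_perfect {X : Γ} {K : Subgroup M} (hp : ⁅K, K⁆ = K) (hK : ∀ a ∈ K, Commute (σ X) a) {y : Γ}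
    (hy : σ y ∈ K) : Commute X y := commute_of_derived hc hs hK (hp.symm ▸ hy)

end Derived

section Quotient

/-- The multiplier of the quotient of a perfect group with trivial multiplier by its cyclic centre. -/
theorem hasCyclic_quotient_center {S : Type u} [Group S] [Finite S] (hS : commutator S = ⊤)
    (hm : Cfsg.HasCyclicSchurMultiplier S 1) (hcyc : IsCyclic (Subgroup.center S)) {g : ℕ}
    (hg : Nat.card (Subgroup.center S) = g) :
    Cfsg.HasCyclicSchurMultiplier (S ⧸ Subgroup.center S) g := by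
  subst hg
  let ρ : S →* S ⧸ Subgroup.center S := QuotientGroup.mk' _
  have hρ : Function.Surjective ρ := QuotientGroup.mk'_surjective _
  have hker : ρ.ker = Subgroup.center S := QuotientGroup.ker_mk' _
  let e : Multiplicative (ZMod (Nat.card (Subgroup.center S))) ≃* Subgroup.center S := zmodCyclicMulEquiv hcyc
  refine ⟨⟨S, inferInstance, inferInstance, ρ, ⟨hρ, hker.le, by rw [hS]; exact le_top⟩,
    ⟨(MulEquiv.subgroupCongr hker).trans e.symm⟩⟩, ?_⟩
  intro Γ _ _ σ ⟨hσ, hcσ, hdσ⟩
  obtain ⟨τ, hτ⟩ := TwistMult.exists_section (σ := σ) hS hm hcσ ρ fun x => hσ (ρ x)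
  have hsur : Function.Surjective τ := SLMult.surjective_of_comp hS hcσ hdσ (by rw [hτ]; exact hρ)
  let f : Subgroup.center S →* σ.ker := (τ.comp (Subgroup.center S).subtype).codRestrict σ.ker fun z => by
    rw [MonoidHom.mem_ker, ← MonoidHom.comp_apply, ← MonoidHom.comp_assoc, hτ]
    exact (QuotientGroup.eq_one_iff _).2 z.2
  have hf : Function.Surjective f := by
    rintro ⟨x, hx⟩
    obtain ⟨s, rfl⟩ := hsur x
    refine ⟨⟨s, ?_⟩, rfl⟩
    rw [← hker, MonoidHom.mem_ker, ← hτ]
    exact MonoidHom.mem_ker.1 hx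
  exact ⟨f.comp e.toMonoidHom, hf.comp e.surjective⟩

end Quotient

end Cfsg.Agent.SUMult
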