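/-
Lifts of SL_m to central extensions whose kernel has order prime to the characteristic.

* `hom_ext_tv`, `section_hat`: such a lift is unique and is the p-lift on p-elements.
* `eq_one_sl2`, `exists_section_sl`: existence, for every m ≥ 2 and every field.
-/
import Cfsg.Agent.Lib.SUMult.Tools
import Cfsg.Agent.Lib.Linear.SLn
import Cfsg.Agent.Lib.GLOrder.Torus
import Cfsg.Agent.S2401

set_option autoImplicit false
set_option linter.unusedSectionVars false
set_option linter.style.haveILetI false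

open scoped commutatorElement

namespace Cfsg.Agent.SUMult

universe u v w

local notation "tv" => Matrix.SpecialLinearGroup.transvection

variable {K : Type w} [Field K] [Fintype K] {p : ℕ} [Fact p.Prime] [CharP K p]
variable {Γ : Type u} {M : Type v} [Group Γ] [Group M] {σ : Γ →* M}
  (hc : σ.ker ≤ Subgroup.center Γ) (hco : (Nat.card σ.ker).Coprime p) (hs : Function.Surjective σ)

theorem isP_tv {m : ℕ} {i j : Fin m} (h : i ≠ j) (t : K) :
    IsP p (tv h t : Matrix.SpecialLinearGroup (Fin m) K) :=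
  ⟨1, by rw [pow_one, SLMult.tv_pow, CharP.cast_eq_zero, zero_mul, SLMult.tv_zero]⟩

include hc hco hs in
/-- A lift of a homomorphism is the p-lift on p-elements. -/
theorem section_hat {G : Type*} [Group G] {φ : G →* M} {ψ : G →* Γ} (h : ∀ a, σ (ψ a) = φ a) {x : G}
    (hx : IsP p x) : ψ x = hat σ p (φ x) :=
  (hat_eq hc hco hs (hx.map ψ) (h x)).symm

include hc hco in
/-- Lifts of SL_m are unique. -/
theorem hom_ext_tv {m : ℕ} {ψ ψ' : Matrix.SpecialLinearGroup (Fin m) K →* Γ}
    (h : ∀ a, σ (ψ a) = σ (ψ' a)) : ψ = ψ' :=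
  MonoidHom.eq_of_eqOn_dense (Linear.closure_slTvSet (ι := Fin m) (F := K)) (by
    rintro _ ⟨i, j, hij, t, rfl⟩
    exact isP_eq hc hco ((isP_tv hij t).map ψ) ((isP_tv hij t).map ψ') (h _))

section Two

open Matrix SLTwoMult
open scoped MatrixGroups

/-- Central extensions of SL₂ with kernel of order prime to p generated by p-elements are trivial. -/
theorem eq_one_sl2 {E : Type*} [Group E] [Finite E] (π : E →* SL(2, K)) (hπ : Function.Surjective π)
    (hK : π.ker ≤ Subgroup.center E) (hKco : (Nat.card π.ker).Coprime p) {S : Set E}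
    (hS : Subgroup.closure S = ⊤) (hSp : ∀ x ∈ S, IsP p x) {z : E} (hz : π z = 1) : z = 1 := by
  have key : ∀ r : ℕ, r.Prime → ∀ z ∈ π.ker, z ^ r = 1 → z = 1 := by
    intro r hr z hz hzr
    by_contra hz1
    haveI := Fact.mk hr
    have hord : orderOf z = r := orderOf_eq_prime hzr hz1
    have hrp : r ≠ p := by
      have hdvd : r ∣ Nat.card π.ker := by
        rw [← hord, show orderOf z = orderOf (⟨z, hz⟩ : π.ker) from (Subgroup.orderOf_mk _ _).symm]
        exact orderOf_dvd_natCard _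
      intro e
      exact (Fact.out : p.Prime).one_lt.ne' (Nat.eq_one_of_dvd_coprimes hKco (e ▸ hdvd) dvd_rfl)
    -- abelian quotients are p-groups
    have hzD : z ∈ commutator E := by
      rw [← Abelianization.ker_of, MonoidHom.mem_ker]
      have hP : IsP p (Abelianization.of z) := by
        have hmem : z ∈ Subgroup.closure S := hS ▸ Subgroup.mem_top z
        clear hz hzr hz1 hord
        induction hmem using Subgroup.closure_induction with
        | mem x hx => exact (hSp x hx).map _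
        | one => rw [map_one]; exact IsP.one
        | mul a b _ _ ha hb => rw [map_mul]; exact ha.mul_of_commute hb (Commute.all _ _)
        | inv a _ ha => rw [map_inv]; exact ha.inv
      obtain ⟨k, hk⟩ := hP
      have h2 := pow_gcd_eq_one.2 ⟨hk, show Abelianization.of z ^ r = 1 by rw [← map_pow, hzr, map_one]⟩
      rwa [Nat.Coprime.pow_left k ((Nat.coprime_primes Fact.out hr).2 hrp.symm), pow_one] at h2
    have hpz : IsPGroup r (Subgroup.zpowers z) :=
      IsPGroup.of_card (n := 1) (by rw [Nat.card_zpowers, pow_one, hord])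
    obtain ⟨P, hP⟩ := hpz.exists_le_sylow
    let z' : (P : Subgroup E) := ⟨z, hP (Subgroup.mem_zpowers z)⟩
    refine hz1 (show z = 1 from congrArg Subtype.val (?_ : z' = 1))
    have hzc : z' ∈ commutator (P : Subgroup E) := mem_commutator_sylow P z' (hK hz) hzD (Subtype.ext hzr)
    let R : Sylow r SL(2, K) := P.mapSurjective hπ
    let f : (P : Subgroup E) →* (R : Subgroup SL(2, K)) := π.subgroupMap (P : Subgroup E)
    have hfsurj : Function.Surjective f := π.subgroupMap_surjective _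
    have hfker : f.ker ≤ Subgroup.center (P : Subgroup E) := fun x hx =>
      Subgroup.mem_center_iff.mpr fun g =>
        Subtype.ext (Subgroup.mem_center_iff.mp (hK (congrArg Subtype.val hx)) g)
    have hzf : f z' = 1 := Subtype.ext hz
    by_cases hr2 : r = 2
    · subst hr2
      have hodd : Odd (Nat.card K) := by
        obtain ⟨e, hpp, hf⟩ := FiniteField.card K p
        rw [Nat.card_eq_fintype_card, hf]
        exact (hpp.odd_of_ne_two (Ne.symm hrp)).pow
      obtain ⟨k, -, ⟨e⟩⟩ := GLOrder.sylow_two_SL_two hodd R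
      haveI : NeZero (2 ^ k) := ⟨pow_ne_zero _ two_ne_zero⟩
      refine eq_one_of_quaternion (e.toMonoidHom.comp f) (e.surjective.comp hfsurj) ?_ hzc ?_
      · intro x hx
        exact hfker (e.injective ((hx : e (f x) = 1).trans e.map_one.symm))
      · show e (f z') = 1
        rw [hzf, map_one]
    · haveI : IsCyclic (R : Subgroup SL(2, K)) := GLOrder.isCyclic_sylow_SL_two p r hr2 hrp R
      refine eq_one_of_commute (fun x y => ?_) hzc
      exact commutative_of_cyclic_center_quotient f hfker x y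
  by_contra hne
  have h1 : orderOf z ≠ 1 := fun h => hne (orderOf_eq_one_iff.1 h)
  have hd := Nat.minFac_dvd (orderOf z)
  have ho : orderOf (z ^ (orderOf z / (orderOf z).minFac)) = (orderOf z).minFac :=
    orderOf_pow_orderOf_div (orderOf_pos z).ne' hd
  have := key _ (Nat.minFac_prime h1) _ (Subgroup.pow_mem _ (show z ∈ π.ker from hz) _)
    (by conv_lhs => arg 2; rw [← ho]
        exact pow_orderOf_eq_one _)
  rw [this, orderOf_one] at ho
  exact (Nat.minFac_prime h1).ne_one ho.symm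

include hc hco hs in
theorem exists_section_two [Finite Γ] (φ : SL(2, K) →* M) :
    ∃ ψ : SL(2, K) →* Γ, ∀ a, σ (ψ a) = φ a := by
  classical
  let P : Subgroup (SL(2, K) × Γ) := (φ.comp (MonoidHom.fst _ Γ)).eqLocus (σ.comp (MonoidHom.snd _ Γ))
  haveI : Finite P := inferInstance
  let π : P →* SL(2, K) := (MonoidHom.fst _ Γ).comp P.subtype
  have hπ : Function.Surjective π := fun a => by
    obtain ⟨g, hg⟩ := hs (φ a)
    exact ⟨⟨(a, g), hg.symm⟩, rfl⟩
  have hker : ∀ x : P, π x = 1 → σ (x : SL(2, K) × Γ).2 = 1 := fun x hx => by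
    rw [show σ (x : SL(2, K) × Γ).2 = φ (π x) from x.2.symm, hx, map_one]
  have hπc : π.ker ≤ Subgroup.center P := fun x hx => Subgroup.mem_center_iff.2 fun y => by
    have h1 : (x : SL(2, K) × Γ).1 = 1 := hx
    refine Subtype.ext (Prod.ext ?_ (Subgroup.mem_center_iff.1 (hc (hker x hx)) _))
    show (y : SL(2, K) × Γ).1 * (x : SL(2, K) × Γ).1 = (x : SL(2, K) × Γ).1 * (y : SL(2, K) × Γ).1
    rw [h1, mul_one, one_mul]
  let ι : π.ker →* σ.ker :=
    (((MonoidHom.snd _ Γ).comp P.subtype).comp π.ker.subtype).codRestrict σ.ker fun x => hker _ x.2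
  have hι : Function.Injective ι := fun x y e => by
    refine Subtype.ext (Subtype.ext (Prod.ext ((x.2 : _ = (1 : SL(2, K))).trans y.2.symm) ?_))
    exact congrArg Subtype.val e
  have hπco : (Nat.card π.ker).Coprime p :=
    hco.coprime_dvd_left (Subgroup.card_dvd_of_injective ι hι)
  let S : Set P := hat π p '' Linear.slTvSet (Fin 2) K
  let E : Subgroup P := Subgroup.closure S
  have hSp : ∀ x ∈ S, IsP p x := by
    rintro _ ⟨_, ⟨i, j, hij, t, rfl⟩, rfl⟩
    exact isP_hat hπc hπco hπ (isP_tv hij t)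
  let πE : E →* SL(2, K) := π.comp E.subtype
  have hπE : Function.Surjective πE := by
    rw [← MonoidHom.range_eq_top, eq_top_iff, ← Linear.closure_slTvSet (ι := Fin 2) (F := K), Subgroup.closure_le]
    rintro x ⟨i, j, hij, t, rfl⟩
    exact ⟨⟨_, Subgroup.subset_closure ⟨_, ⟨i, j, hij, t, rfl⟩, rfl⟩⟩, σ_hat hπc hπco hπ (isP_tv hij t)⟩
  have hinj : Function.Injective πE := by
    rw [injective_iff_map_eq_one]
    intro x hx
    refine eq_one_sl2 (p := p) πE hπE (fun y hy => Subgroup.mem_center_iff.2 fun g =>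
      Subtype.ext (Subgroup.mem_center_iff.1 (hπc (show (y : P) ∈ π.ker from hy)) g))
      (hπco.coprime_dvd_left (Subgroup.card_dvd_of_injective
        ((E.subtype.comp πE.ker.subtype).codRestrict π.ker fun y => y.2) fun a b e =>
          Subtype.ext (Subtype.ext (congrArg Subtype.val e :))))
      (S := (Subtype.val : E → P) ⁻¹' S) (Subgroup.closure_preimage_eq_top S) ?_ hx
    intro y hy
    obtain ⟨k, hk⟩ := hSp _ hy
    exact ⟨k, Subtype.ext hk⟩
  let e : E ≃* SL(2, K) := MulEquiv.ofBijective πE ⟨hinj, hπE⟩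
  refine ⟨((MonoidHom.snd _ Γ).comp (P.subtype.comp E.subtype)).comp e.symm.toMonoidHom, fun a => ?_⟩
  show σ ((e.symm a : P) : SL(2, K) × Γ).2 = φ a
  have h1 : π (e.symm a : P) = a := e.apply_symm_apply a
  conv_rhs => rw [← h1]
  exact (e.symm a : P).2.symm

end Two

include hc hco hs in
theorem exists_section_three {m : ℕ} (hm : 3 ≤ m) (φ : Matrix.SpecialLinearGroup (Fin m) K →* M) :
    ∃ ψ : Matrix.SpecialLinearGroup (Fin m) K →* Γ, ∀ a, σ (ψ a) = φ a := by
  classical
  obtain ⟨e, he⟩ := S2401.result (K := K) m hm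
  let g : {ij : Fin m × Fin m // ij.1 ≠ ij.2} × K → Γ := fun a => hat σ p (φ (tv a.1.2 a.2))
  have hP : ∀ {i j : Fin m} (h : i ≠ j) (t : K), IsP p (φ (tv h t)) := fun h t => (isP_tv h t).map φ
  have key : ∀ (a b : {ij : Fin m × Fin m // ij.1 ≠ ij.2}) (t u : K),
      (a.1.1 ≠ b.1.2 ∧ a.1.2 ≠ b.1.1 → ⁅g (a, t), g (b, u)⁆ = 1) ∧
      (∀ h : a.1.1 ≠ b.1.2, a.1.2 = b.1.1 → ⁅g (a, t), g (b, u)⁆ = g (⟨(a.1.1, b.1.2), h⟩, t * u)) := by
    rintro ⟨⟨i, j⟩, hij⟩ ⟨⟨i', l⟩, hil⟩ t u
    refine ⟨fun ⟨h1, h2⟩ => ?_, fun h h2 => ?_⟩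
    · rw [commutatorElement_eq_one_iff_commute]
      exact hat_commute hc hco hs (hP hij t) (hP hil u) ((SLMult.tv_commute hij hil h1 h2 t u).map φ)
    · obtain rfl : j = i' := h2
      refine hat_bracket hc hco hs (hP hij t) (hP hil u) (hP h (t * u)) ?_ ?_
      · rw [← map_commutatorElement, Linear.transvection_mul_comm hij hil h]
      · exact (SLMult.tv_commute h hil h (Ne.symm hil) (t * u) u).map φ
  let f : PresentedGroup _ →* Γ := PresentedGroup.toGroup (f := g) (rels :=
        ({g : FreeGroup ({ij : Fin m × Fin m // ij.1 ≠ ij.2} × K) | ∃ (a : {ij : Fin m × Fin m // ij.1 ≠ ij.2}) (t u : K),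
            g = FreeGroup.of (a, t) * FreeGroup.of (a, u) * (FreeGroup.of (a, t + u))⁻¹} ∪
          {g | ∃ (a b : {ij : Fin m × Fin m // ij.1 ≠ ij.2}) (t u : K), a.1.1 ≠ b.1.2 ∧ a.1.2 ≠ b.1.1 ∧
            g = FreeGroup.of (a, t) * FreeGroup.of (b, u) * (FreeGroup.of (a, t))⁻¹ * (FreeGroup.of (b, u))⁻¹} ∪
          {g | ∃ (a b : {ij : Fin m × Fin m // ij.1 ≠ ij.2}) (h : a.1.1 ≠ b.1.2) (t u : K), a.1.2 = b.1.1 ∧
            g = FreeGroup.of (a, t) * FreeGroup.of (b, u) * (FreeGroup.of (a, t))⁻¹ * (FreeGroup.of (b, u))⁻¹ *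
              (FreeGroup.of (⟨(a.1.1, b.1.2), h⟩, t * u))⁻¹})) (by
    rintro r ((⟨a, t, u, rfl⟩ | ⟨a, b, t, u, h1, h2, rfl⟩) | ⟨a, b, h, t, u, h1, rfl⟩) <;>
      simp only [map_mul, map_inv, FreeGroup.lift_apply_of]
    · rw [mul_inv_eq_one]
      show _ = hat σ p (φ (tv a.2 (t + u)))
      rw [Matrix.SpecialLinearGroup.transvection_add, map_mul]
      exact (hat_mul_of_commute hc hco hs (hP a.2 t) (hP a.2 u)
        ((SLMult.tv_commute a.2 a.2 a.2 (Ne.symm a.2) t u).map φ)).symm
    · rw [← commutatorElement_def]; exact (key a b t u).1 ⟨h1, h2⟩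
    · rw [mul_inv_eq_one, ← commutatorElement_def]; exact (key a b t u).2 h h1)
  refine ⟨f.comp e.symm.toMonoidHom, fun a => ?_⟩
  have h : σ.comp (f.comp e.symm.toMonoidHom) = φ :=
    MonoidHom.eq_of_eqOn_dense (Linear.closure_slTvSet (ι := Fin m) (F := K)) (by
      rintro _ ⟨i, j, hij, t, rfl⟩
      have h1 : e (PresentedGroup.of (⟨(i, j), hij⟩, t)) = tv hij t := Subtype.ext (he ⟨(i, j), hij⟩ t)
      show σ (f (e.symm (tv hij t))) = φ (tv hij t)
      rw [← h1, e.symm_apply_apply, h1]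
      exact (congrArg σ (PresentedGroup.toGroup.of (f := g) _)).trans (σ_hat hc hco hs (hP hij t)))
  exact DFunLike.congr_fun h a

include hc hco hs in
/-- Lifts of SL_m exist. -/
theorem exists_section_sl [Finite Γ] {m : ℕ} (hm : 2 ≤ m) (φ : Matrix.SpecialLinearGroup (Fin m) K →* M) :
    ∃ ψ : Matrix.SpecialLinearGroup (Fin m) K →* Γ, ∀ a, σ (ψ a) = φ a := by
  rcases hm.eq_or_lt with h | h
  · subst h; exact exists_section_two hc hco hs φ
  · exact exists_section_three hc hco hs h φ

end Cfsg.Agent.SUMult
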