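/-
SU_n, n ≥ 4: central extensions with kernel of order prime to the characteristic.

* `isP_eich`, `mem_unip_of_fix`: the p-elements that occur.
* `RankRange`: lifts in the range of a lifted rank one group.
* `coprime_even`, `coprime_odd`: a perfect extension of this kind is trivial.
-/
import Cfsg.Agent.Lib.SUMult.SLCoprime
import Cfsg.Agent.Lib.SUMult.RankOne
import Cfsg.Agent.Lib.SUNPresent.Assemble

set_option autoImplicit false
set_option linter.unusedSectionVars false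
set_option linter.style.haveILetI false

open Matrix
open scoped commutatorElement MatrixGroups

namespace Cfsg.Agent.SUMult

open Cfsg.Agent.Unitary Cfsg.Agent.UFus Cfsg.Agent.UnitaryBN Cfsg.Agent.SUNPresent

universe u v

section Model

variable {F : Type*} [Field F] [Fintype F] {q n m p : ℕ} [Fact p.Prime] [CharP F p]
variable (hF : Fintype.card F = q ^ 2)

include hF

theorem isP_eich {v w : Fin n → F} {c : F} (h : Ok q v w c) : IsP p (eich hF h) :=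
  ⟨2, by rw [sq]; exact eich_pow_sq hF h p⟩

theorem isP_te {a : Fin n → F} (ha : Cfsg.hermForm n F q a a = 0) {d : F} (hd : d ^ q = -d) :
    IsP p (te hF ha hd) := isP_eich hF _

variable (Φ : Frame n F q m)

theorem isP_cM (v : Fin m → F) : IsP p (cM hF Φ v) := isP_te hF _ _

theorem isP_fM (O : OConst hF Φ) (v : Fin m → F) : IsP p (O.fM v) := isP_eich hF _

omit hF in
theorem isP_colE (l : Fin m) (w : Fin m → F) : IsP p (colE l w) := by
  refine ⟨1, ?_⟩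
  have e : ∀ k : ℕ, colE l w ^ k = colE l ((k : F) • w) := fun k => by
    induction k with
    | zero => rw [pow_zero, Nat.cast_zero, zero_smul, colE_zero]
    | succ k ih => rw [pow_succ, ih, ← colE_add, Nat.cast_succ, add_smul, one_smul]
  rw [pow_one, e, CharP.cast_eq_zero, zero_smul, colE_zero]

/-- An element fixing every `e i` and moving `u` into their span is in the unipotent radical. -/
theorem mem_unip_of_fix {g : Cfsg.SU n F q} (he : ∀ i, suAct g (Φ.e i) = Φ.e i)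
    {w : Fin m → F} (hu : suAct g Φ.u = Φ.u + vE Φ w) : g ∈ Φ.unip hF := by
  rw [Φ.mem_unip_iff hF]
  refine ⟨fun i => ?_, ?_⟩
  · show suAct g (Φ.e i) - Φ.e i ∈ _
    rw [he, sub_self]; exact Submodule.zero_mem _
  · show suAct g Φ.u - Φ.u ∈ _
    rw [hu, add_sub_cancel_left]
    exact ⟨fun i => h_ve hF Φ i w, h_vu hF Φ w, fun i hi => absurd i.isLt (not_lt.2 hi)⟩

theorem cM_mem_unip (v : Fin m → F) : cM hF Φ v ∈ Φ.unip hF :=
  mem_unip_of_fix hF Φ (cM_e hF Φ v) (w := 0) (by rw [cM_u, vE_zero, add_zero])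

theorem fM_mem_unip (O : OConst hF Φ) (v : Fin m → F) : O.fM v ∈ Φ.unip hF :=
  mem_unip_of_fix hF Φ (O.fM_e v) (by rw [O.fM_u, ← vE_smul])

/-- The conjugate of a column transvection, as a product of transvections. -/
theorem M0_eq {l : Fin m} {w : Fin m → F} (hw : w l = 0) :
    (t0 hF Φ l)⁻¹ * psi0 hF Φ (colE l w) * t0 hF Φ l =
      (cM hF Φ (Pi.single l 1))⁻¹ * cM hF Φ (Pi.single l 1 + w) * (cM hF Φ w)⁻¹ := by
  rw [cM_pair hF Φ l hw]; group

end Model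

section Range

variable {F : Type*} [Field F] [Fintype F] {q n : ℕ} {p : ℕ} [Fact p.Prime]
variable {Γ : Type u} [Group Γ] {σ : Γ →* Cfsg.SU n F q}
  (hc : σ.ker ≤ Subgroup.center Γ) (hco : (Nat.card σ.ker).Coprime p) (hs : Function.Surjective σ)
  {H : Type*} [Group H] {φ : H →* Cfsg.SU n F q} (hinj : Function.Injective φ)
  {ψr : H →* Γ} (hψr : ∀ a, σ (ψr a) = φ a)

include hc hco hs hinj hψr in
theorem hat_mem_range {g : Cfsg.SU n F q} (hg : g ∈ φ.range) (hp : IsP p g) : hat σ p g ∈ ψr.range := by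
  obtain ⟨h, rfl⟩ := hg
  obtain ⟨k, hk⟩ := hp
  exact ⟨h, section_hat hc hco hs hψr ⟨k, hinj (by rw [map_pow, hk, map_one])⟩⟩

include hinj hψr in
theorem eq_of_range {y y' : Γ} (hy : y ∈ ψr.range) (hy' : y' ∈ ψr.range) (e : σ y = σ y') : y = y' := by
  obtain ⟨a, rfl⟩ := hy
  obtain ⟨b, rfl⟩ := hy'
  rw [hψr, hψr] at e
  rw [hinj e]

end Range

section Lifted

variable {F : Type v} [Field F] [Fintype F] {q n m p : ℕ} [Fact p.Prime] [CharP F p]
variable (hF : Fintype.card F = q ^ 2) (Φ : Frame n F q m) {l k : Fin m} (hlk : l ≠ k)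
variable {Γ : Type u} [Group Γ] {σ : Γ →* Cfsg.SU n F q}
  (hc : σ.ker ≤ Subgroup.center Γ) (hco : (Nat.card σ.ker).Coprime p) (hs : Function.Surjective σ)
  {ψ : Matrix.SpecialLinearGroup (Fin m) F →* Γ} (hψ : ∀ a, σ (ψ a) = psi0 hF Φ a)

/-- The lift of the flip. -/
noncomputable def tH (σ : Γ →* Cfsg.SU n F q) (p : ℕ) (l : Fin m) : Γ :=
  hat σ p (te hF (Φ.ee l l) (skew_pow hF)) * hat σ p (te hF (Φ.ff l l) (neg_inv_skew (skew_pow hF) hF)) *
    hat σ p (te hF (Φ.ee l l) (skew_pow hF))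

include hF hc hco hs

theorem σ_tH : σ (tH hF Φ σ p l) = t0 hF Φ l := by
  rw [tH, map_mul, map_mul, σ_hat hc hco hs (isP_te hF _ _), σ_hat hc hco hs (isP_te hF _ _)]
  rfl

theorem commute_tH {y : Γ}
    (h1 : Commute (σ y) (te hF (Φ.ee l l) (skew_pow hF)))
    (h2 : Commute (σ y) (te hF (Φ.ff l l) (neg_inv_skew (skew_pow hF) hF))) : Commute y (tH hF Φ σ p l) :=
  ((commute_hat hc hco hs (isP_te hF _ _) h1).mul_right (commute_hat hc hco hs (isP_te hF _ _) h2)).mul_right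
    (commute_hat hc hco hs (isP_te hF _ _) h1)

omit hc hco hs in
theorem commute_te_of_fix {g : Cfsg.SU n F q} {a : Fin n → F} (ha : Cfsg.hermForm n F q a a = 0) {d : F}
    (hd : d ^ q = -d) (h : suAct g a = a) : Commute g (te hF ha hd) := by
  refine mul_inv_eq_iff_eq_mul.1 ?_
  rw [conj_te hF]
  exact te_congr hF _ _ _ _ h rfl

include hψ

theorem tH_fix : ∀ g ∈ Fix1 l, Commute (tH hF Φ σ p l) (ψ g) := fun g hg => by
  obtain ⟨h1, h2⟩ := psi0_fix1 hF Φ hg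
  exact (commute_tH hF Φ hc hco hs (by rw [hψ]; exact commute_te_of_fix hF _ _ h1)
    (by rw [hψ]; exact commute_te_of_fix hF _ _ h2)).symm

/-- The conjugates of a lifted root element. -/
theorem cvF_hat {X : (Fin m → F) → Cfsg.SU n F q} (hX : ∀ v, IsP p (X v)) (h0 : X 0 = 1)
    (hconj : ∀ g v, psi0 hF Φ g * X v * (psi0 hF Φ g)⁻¹ = X (ap g v)) :
    (∀ g, ap g (Pi.single l 1) = Pi.single l 1 → Commute (ψ g) (hat σ p (X (Pi.single l 1)))) ∧
      ∀ v, cvF hlk ψ (hat σ p (X (Pi.single l 1))) v = hat σ p (X v) := by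
  have hst : ∀ g, ap g (Pi.single l 1) = Pi.single l 1 → Commute (ψ g) (hat σ p (X (Pi.single l 1))) :=
    fun g hg => commute_hat hc hco hs (hX _) (mul_inv_eq_iff_eq_mul.1 (by rw [hψ, hconj, hg]))
  refine ⟨hst, fun v => ?_⟩
  rcases eq_or_ne v 0 with rfl | hv
  · rw [h0, hat_one hc hco hs]; simp [cvF]
  obtain ⟨g, rfl⟩ := exists_first hlk hv
  rw [cvF_eq hlk ψ _ hst rfl, hat_conj hc hco hs _ (hX _), hψ, hconj]

theorem MF_hat (w : Fin m → F) : MF l ψ (tH hF Φ σ p l) w =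
    hat σ p ((t0 hF Φ l)⁻¹ * psi0 hF Φ (colE l w) * t0 hF Φ l) := by
  have e := hat_conj hc hco hs (tH hF Φ σ p l)⁻¹ ((isP_colE (p := p) l w).map (psi0 hF Φ))
  rw [inv_inv, map_inv, σ_tH hF Φ hc hco hs, inv_inv, ← section_hat hc hco hs hψ (isP_colE l w)] at e
  exact e

theorem hat_pair [Finite Γ] {w : Fin m → F} (hw : w l = 0) :
    hat σ p (cM hF Φ (Pi.single l 1 + w)) =
      hat σ p (cM hF Φ (Pi.single l 1)) * MF l ψ (tH hF Φ σ p l) w * hat σ p (cM hF Φ w) := by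
  have hM : (t0 hF Φ l)⁻¹ * psi0 hF Φ (colE l w) * t0 hF Φ l ∈ Φ.unip hF := by
    rw [M0_eq hF Φ hw]
    exact mul_mem (mul_mem (inv_mem (cM_mem_unip hF Φ _)) (cM_mem_unip hF Φ _)) (inv_mem (cM_mem_unip hF Φ _))
  rw [MF_hat hF Φ hc hco hs hψ, ← hat_mul hc hco hs (Φ.isPGroup_unip hF p) (cM_mem_unip hF Φ _) hM,
    ← hat_mul hc hco hs (Φ.isPGroup_unip hF p) (mul_mem (cM_mem_unip hF Φ _) hM) (cM_mem_unip hF Φ _),
    ← cM_pair hF Φ l hw]

include hlk in
theorem tH_tt (j : Fin m) (hj : j ≠ l) : Commute (tH hF Φ σ p l) (tjF hlk ψ (tH hF Φ σ p l) j) := by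
  have hg := (exists_isMono (F := F) hlk j 1).choose_spec
  obtain ⟨g1, g2⟩ := psi0_mono hF Φ hg
  rw [tjF]
  set g := (exists_isMono (F := F) hlk j 1).choose
  have hcj : ∀ {a : Fin n → F} (ha : Cfsg.hermForm n F q a a = 0) {d : F} (hd : d ^ q = -d),
      suAct (t0 hF Φ l) (suAct (psi0 hF Φ g) a) = suAct (psi0 hF Φ g) a →
      Commute (tH hF Φ σ p l) (ψ g * hat σ p (te hF ha hd) * (ψ g)⁻¹) := fun {a} ha {d} hd h => by
    rw [hat_conj hc hco hs _ (isP_te hF _ _), hψ, conj_te hF]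
    exact commute_hat hc hco hs (isP_te hF _ _) (by rw [σ_tH hF Φ hc hco hs]; exact commute_te_of_fix hF _ _ h)
  have h1 := hcj (Φ.ee l l) (skew_pow hF) (by
    rw [g1, suAct_smul, (t0_of hF Φ l hj).1])
  have h2 := hcj (Φ.ff l l) (neg_inv_skew (skew_pow hF) hF) (by
    rw [g2, suAct_smul, (t0_of hF Φ l hj).2])
  rw [show ∀ A : Γ, A * tH hF Φ σ p l * A⁻¹ =
      (A * hat σ p (te hF (Φ.ee l l) (skew_pow hF)) * A⁻¹) *
        (A * hat σ p (te hF (Φ.ff l l) (neg_inv_skew (skew_pow hF) hF)) * A⁻¹) *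
        (A * hat σ p (te hF (Φ.ee l l) (skew_pow hF)) * A⁻¹) from fun A => by rw [tH]; group]
  exact (h1.mul_right h2).mul_right h1

omit hψ in
theorem tH_R1 : tH hF Φ σ p l * hat σ p (cM hF Φ (Pi.single l 1)) * (tH hF Φ σ p l)⁻¹ =
    (hat σ p (cM hF Φ (Pi.single l 1)))⁻¹ * tH hF Φ σ p l * (hat σ p (cM hF Φ (Pi.single l 1)))⁻¹ := by
  have ec : cM hF Φ (Pi.single l 1) = te hF (Φ.ee l l) (skew_pow hF) := te_congr hF _ _ _ _ (vE_one Φ l) rfl
  have e := t0_rankOne hF Φ l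
  rw [hat_conj hc hco hs _ (isP_cM hF Φ _), σ_tH hF Φ hc hco hs, e, ec]
  conv_lhs => rw [show (te hF (Φ.ee l l) (skew_pow hF))⁻¹ * t0 hF Φ l * (te hF (Φ.ee l l) (skew_pow hF))⁻¹ =
    te hF (Φ.ff l l) (neg_inv_skew (skew_pow hF) hF) by rw [t0, flipEl]; group]
  rw [tH]; group

omit hψ in
/-- The lift of the flip is in the range of a rank one lift. -/
theorem tH_mem {H : Type*} [Group H] {φ : H →* Cfsg.SU n F q} (hinj : Function.Injective φ) {ψr : H →* Γ}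
    (hψr : ∀ a, σ (ψr a) = φ a)
    (he : ∀ {d : F} (hd : d ^ q = -d), te hF (Φ.ee l l) hd ∈ φ.range)
    (hf : ∀ {d : F} (hd : d ^ q = -d), te hF (Φ.ff l l) hd ∈ φ.range) : tH hF Φ σ p l ∈ ψr.range :=
  mul_mem (mul_mem (hat_mem_range hc hco hs hinj hψr (he _) (isP_te hF _ _))
    (hat_mem_range hc hco hs hinj hψr (hf _) (isP_te hF _ _)))
    (hat_mem_range hc hco hs hinj hψr (he _) (isP_te hF _ _))

include hlk in
/-- The commutator of the flip with a torus element is in the range of a rank one lift. -/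
theorem dE_mem_range {H : Type*} [Group H] {φ : H →* Cfsg.SU n F q} (hinj : Function.Injective φ) {ψr : H →* Γ}
    (hψr : ∀ a, σ (ψr a) = φ a)
    (he : ∀ {d : F} (hd : d ^ q = -d), te hF (Φ.ee l l) hd ∈ φ.range)
    (hf : ∀ {d : F} (hd : d ^ q = -d), te hF (Φ.ff l l) hd ∈ φ.range) (θ : Fˣ) :
    dE (ψ (hd hlk θ)) (tH hF Φ σ p l) ∈ ψr.range := by
  have hinv : (ψ (hd hlk θ))⁻¹ = ψ (hd hlk θ⁻¹) := by rw [← map_inv, ← hdHom_apply hlk, ← map_inv, hdHom_apply]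
  obtain ⟨⟨a, ha0, ha⟩, hb⟩ := torus_act hF Φ (psi0_hd_torus hF Φ hlk θ⁻¹) l
  have hskew : ∀ {d : F}, d ^ q = -d → ∀ γ : F, (d * γ ^ (q + 1)) ^ q = -(d * γ ^ (q + 1)) := fun hd γ => by
    rw [mul_pow, hd, pow_q_succ_fixed hF, neg_mul]
  have H0 := hermForm_isHerm hF n
  have key1 : ψ (hd hlk θ⁻¹) * hat σ p (te hF (Φ.ee l l) (skew_pow hF)) * (ψ (hd hlk θ⁻¹))⁻¹ ∈ ψr.range := by
    rw [hat_conj hc hco hs _ (isP_te hF _ _), hψ, conj_te hF,
      te_congr hF _ (show Cfsg.hermForm n F q (a • Φ.e l) (a • Φ.e l) = 0 by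
        simp [H0.smul_left, H0.smul_right, Φ.ee]) _ (skew_pow hF) ha rfl,
      te_smul hF (Φ.ee l l) (skew_pow hF) a _ (hskew (skew_pow hF) a)]
    exact hat_mem_range hc hco hs hinj hψr (he _) (isP_te hF _ _)
  have key2 : ψ (hd hlk θ⁻¹) * hat σ p (te hF (Φ.ff l l) (neg_inv_skew (skew_pow hF) hF)) * (ψ (hd hlk θ⁻¹))⁻¹ ∈
      ψr.range := by
    rw [hat_conj hc hco hs _ (isP_te hF _ _), hψ, conj_te hF,
      te_congr hF _ (show Cfsg.hermForm n F q ((a ^ q)⁻¹ • Φ.f l) ((a ^ q)⁻¹ • Φ.f l) = 0 by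
        simp [H0.smul_left, H0.smul_right, Φ.ff]) _ (neg_inv_skew (skew_pow hF) hF) (hb a ha) rfl,
      te_smul hF (Φ.ff l l) (neg_inv_skew (skew_pow hF) hF) _ _ (hskew (neg_inv_skew (skew_pow hF) hF) _)]
    exact hat_mem_range hc hco hs hinj hψr (hf _) (isP_te hF _ _)
  rw [dE, hinv, show ψ (hd hlk θ⁻¹) * tH hF Φ σ p l * ψ (hd hlk θ) =
    (ψ (hd hlk θ⁻¹) * hat σ p (te hF (Φ.ee l l) (skew_pow hF)) * (ψ (hd hlk θ⁻¹))⁻¹) *
      (ψ (hd hlk θ⁻¹) * hat σ p (te hF (Φ.ff l l) (neg_inv_skew (skew_pow hF) hF)) * (ψ (hd hlk θ⁻¹))⁻¹) *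
      (ψ (hd hlk θ⁻¹) * hat σ p (te hF (Φ.ee l l) (skew_pow hF)) * (ψ (hd hlk θ⁻¹))⁻¹) by
    rw [tH, ← hinv, inv_inv]; group]
  exact mul_mem (mul_mem (mul_mem key1 key2) key1) (inv_mem (tH_mem hF Φ hc hco hs hinj hψr he hf))

end Lifted

section Main

variable {F : Type v} [Field F] [Fintype F] {q n m p : ℕ} [Fact p.Prime] [CharP F p]
variable (hF : Fintype.card F = q ^ 2) (Φ : Frame n F q m)
variable {Γ : Type u} [Group Γ] [Finite Γ] {σ : Γ →* Cfsg.SU n F q}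
  (hc : σ.ker ≤ Subgroup.center Γ) (hco : (Nat.card σ.ker).Coprime p) (hs : Function.Surjective σ)
  (hperf : commutator Γ = ⊤)

include hF hc hco hs hperf

/-- No anisotropic vector. -/
theorem coprime_even (hm : 2 ≤ m) (hu : Φ.u = 0) : Function.Injective σ := by
  classical
  let l : Fin m := ⟨0, by omega⟩
  let k : Fin m := ⟨1, by omega⟩
  have hlk : l ≠ k := Fin.ne_of_val_ne (by simp [l, k])
  obtain ⟨θ, hθ⟩ := IsCyclic.exists_generator (α := Fˣ)
  obtain ⟨J, hJ⟩ := exists_J hF θ hθ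
  obtain ⟨ψ, hψ⟩ := exists_section_sl hc hco hs hm (psi0 hF Φ)
  haveI : Fintype (fixedField hF) := Fintype.ofFinite _
  haveI : CharP (fixedField hF) p := RingHom.charP (fixedField hF).subtype Subtype.val_injective p
  obtain ⟨ψ2, hψ2⟩ := exists_section_two (p := p) hc hco hs (phi2 hF Φ l)
  set c := hat σ p (cM hF Φ (Pi.single l 1)) with hcdef
  set t := tH hF Φ σ p l with htdef
  obtain ⟨hst, hcv⟩ := cvF_hat hF Φ hlk hc hco hs hψ (isP_cM (p := p) hF Φ) (cM_zero hF Φ) (psi0_cM hF Φ)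
  have σc : σ c = cM hF Φ (Pi.single l 1) := σ_hat hc hco hs (isP_cM hF Φ _)
  have σt : σ t = t0 hF Φ l := σ_tH hF Φ hc hco hs
  obtain ⟨hdt, hde⟩ := dE_model hF Φ hlk θ
  have σd : σ (dE (ψ (hd hlk θ)) t) = dE (psi0 hF Φ (hd hlk θ)) (t0 hF Φ l) := by rw [map_dE, hψ, σt]
  let S := evenSys hF Φ hlk ψ c t σ θ J hθ hψ σt σc (tH_fix hF Φ hc hco hs hψ) hst
    (commute_hat hc hco hs (isP_cM hF Φ _) (mul_inv_eq_iff_eq_mul.1 (by
      rw [hψ, psi0_cM, ap_hd_single, if_pos rfl, mul_one, single_smul_one l]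
      refine cM_smul hF Φ _ ?_ _
      rw [← Units.val_pow_eq_pow_val, ← zpow_natCast, ← _root_.zpow_mul, Nat.cast_add, Nat.cast_one,
        orderOf_dvd_iff_zpow_eq_one.1 (by rw [orderOf_gen hF hθ]), Units.val_one])))
    (fun w _ => by
      rw [hcdef, hcv]
      exact hat_commute hc hco hs (isP_cM hF Φ _) (isP_cM hF Φ _) (cM_comm hF Φ _ _))
    (fun w hw => by rw [hcdef, hcv, hcv]; exact hat_pair hF Φ hc hco hs hψ hw)
    (fun w hw => by
      rw [hcdef, hcv]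
      exact commute_hat hc hco hs (isP_cM hF Φ _) (by rw [σt]; exact t0_cM hF Φ l hw))
    (fun a => DFunLike.congr_fun (hom_ext_tv (p := p) hc hco (ψ := (MulAut.conj (dE (ψ (hd hlk θ)) t)).toMonoidHom.comp ψ)
      (ψ' := ψ.comp (cjDHom l (αE q θ))) fun a => by
        show σ (dE (ψ (hd hlk θ)) t * ψ a * (dE (ψ (hd hlk θ)) t)⁻¹) = σ (ψ (cjD l (αE q θ) a))
        rw [map_mul, map_mul, map_inv, σd, hψ, hψ]
        exact psi0_cjD hF Φ hdt l _ hde _) a)
    (by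
      rw [hcdef, hat_conj hc hco hs _ (isP_cM hF Φ _), hat_conj hc hco hs _ (isP_cM hF Φ _), σd, hψ,
        torus_cM hF Φ hde, psi0_cM, ap_hd_single, Dl_single, if_pos rfl, if_pos rfl])
    (eq_of_range (phi2_injective hF Φ l) hψ2
      (mul_mem (tH_mem hF Φ hc hco hs (phi2_injective hF Φ l) hψ2 (te_e_mem2 hF Φ l) (te_f_mem2 hF Φ l))
        (tH_mem hF Φ hc hco hs (phi2_injective hF Φ l) hψ2 (te_e_mem2 hF Φ l) (te_f_mem2 hF Φ l)))
      (pow_mem (dE_mem_range hF Φ hlk hc hco hs hψ (phi2_injective hF Φ l) hψ2 (te_e_mem2 hF Φ l)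
        (te_f_mem2 hF Φ l) θ) J)
      (by
        rw [map_mul, map_pow, σt, σd]
        obtain ⟨h1, h2⟩ := t0_sq_torus hF Φ l
        refine torus_ext hF Φ l h1 (pow_mem hdt J) fun i => ?_
        rw [h2, torus_pow hF Φ hde]
        by_cases hi : i = l
        · rw [if_pos hi, if_pos hi, ← Units.val_pow_eq_pow_val, hJ]
        · rw [if_neg hi, if_neg hi]))
    (tH_R1 hF Φ hc hco hs) (tH_tt hF Φ hlk hc hco hs hψ)
  refine S.inj (TwistMult.eq_top_of_map hc hperf fun g => ?_)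
  have htop := hgen_even hF Φ hu hlk hθ
    ((Subgroup.closure (Set.range S.ψ ∪ (S.toSys.R : Set Γ) ∪ {S.t})).map σ)
    (fun a => ⟨ψ a, Subgroup.subset_closure (Or.inl (Or.inl ⟨a, rfl⟩)), hψ a⟩)
    ⟨c, Subgroup.subset_closure (Or.inl (Or.inr (by
      show c ∈ S.toSys.R
      rw [show c = S.toSys.cv (Pi.single l 1) from S.toSys.cv_l.symm]; exact S.toSys.cv_mem _))), σc⟩
    ⟨t, Subgroup.subset_closure (Or.inr rfl), σt⟩
  obtain ⟨s, hs1, hs2⟩ := htop.ge (Subgroup.mem_top (σ g))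
  exact ⟨s, hs1, hs2.symm⟩

/-- With an anisotropic vector, given a lift of SU₃. -/
theorem coprime_odd (hm : 2 ≤ m) (hu : Cfsg.hermForm n F q Φ.u Φ.u = 1)
    (h3 : ∀ φ : Cfsg.SU 3 F q →* Cfsg.SU n F q, ∃ ψ : Cfsg.SU 3 F q →* Γ, ∀ a, σ (ψ a) = φ a) :
    Function.Injective σ := by
  classical
  let l : Fin m := ⟨0, by omega⟩
  let k : Fin m := ⟨1, by omega⟩
  have hlk : l ≠ k := Fin.ne_of_val_ne (by simp [l, k])
  obtain ⟨P⟩ := exists_opar hF Φ hu
  obtain ⟨J, hJ⟩ := P.exists_J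
  obtain ⟨ψ, hψ⟩ := exists_section_sl hc hco hs hm (psi0 hF Φ)
  obtain ⟨ψ3, hψ3⟩ := h3 (phi3 P.O l)
  have hinj := phi3_injective P.O l
  set u := hat σ p (P.O.fM (Pi.single l 1)) with hudef
  set t := tH hF Φ σ p l with htdef
  obtain ⟨hst, huv⟩ := cvF_hat hF Φ hlk hc hco hs hψ (isP_fM (p := p) hF Φ P.O) P.O.fM_zero P.O.psi0_fM
  obtain ⟨-, hcv⟩ := cvF_hat hF Φ hlk hc hco hs hψ (isP_cM (p := p) hF Φ) (cM_zero hF Φ) (psi0_cM hF Φ)
  have σu : σ u = P.O.fM (Pi.single l 1) := σ_hat hc hco hs (isP_fM hF Φ P.O _)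
  have σt : σ t = t0 hF Φ l := σ_tH hF Φ hc hco hs
  have hconjU : ∀ a : Fˣ, ψ (hd hlk a) * u * (ψ (hd hlk a))⁻¹ = hat σ p (P.O.fM (Pi.single l (a : F))) := fun a => by
    rw [hudef, hat_conj hc hco hs _ (isP_fM hF Φ P.O _), hψ, OConst.psi0_fM, ap_hd_single, if_pos rfl, mul_one]
  have ec : cW P hlk ψ u = hat σ p (cM hF Φ (Pi.single l 1)) := by
    rw [cW, ← MulAut.conj_apply, map_commutatorElement, MulAut.conj_apply, MulAut.conj_apply, hconjU, hconjU,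
      hat_conj hc hco hs _ (isP_fM hF Φ P.O _), hψ, OConst.psi0_fM, ap_hd_single, if_pos rfl]
    exact hat_bracket hc hco hs (isP_fM hF Φ P.O _) (isP_fM hF Φ P.O _) (isP_cM hF Φ _) (P.fM_commutator l)
      (P.cM_fM_comm _ _)
  have hmemc : ∀ x : F, hat σ p (cM hF Φ (Pi.single l x)) ∈ ψ3.range := fun x => by
    refine hat_mem_range hc hco hs hinj hψ3 ?_ (isP_cM hF Φ _)
    have hd : (skew hF * x ^ (q + 1)) ^ q = -(skew hF * x ^ (q + 1)) := by
      rw [mul_pow, skew_pow hF, pow_q_succ_fixed hF, neg_mul]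
    rw [cM, te_congr hF _ (show Cfsg.hermForm n F q (x • Φ.e l) (x • Φ.e l) = 0 by
      simp [(hermForm_isHerm hF n).smul_left, (hermForm_isHerm hF n).smul_right, Φ.ee]) _ (skew_pow hF)
      (vE_single Φ l x) rfl, te_smul hF (Φ.ee l l) (skew_pow hF) x _ hd]
    exact te_e_mem3 P.O l hd
  have hmemu : ∀ x : F, hat σ p (P.O.fM (Pi.single l x)) ∈ ψ3.range := fun x =>
    hat_mem_range hc hco hs hinj hψ3 (fM_mem3 P.O l x) (isP_fM hF Φ P.O _)
  have htmem : t ∈ ψ3.range := tH_mem hF Φ hc hco hs hinj hψ3 (te_e_mem3 P.O l) (te_f_mem3 P.O l)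
  have hyW : ∀ a, yW P hlk ψ u a ∈ ψ3.range := fun a => by
    rw [yW, hconjU, ec, hat_conj hc hco hs _ (isP_cM hF Φ _), hψ, psi0_cM, ap_hd_single, if_pos rfl, mul_one]
    exact mul_mem (hmemu _) (hmemc _)
  have hdmem : dW P hlk ψ u t ∈ ψ3.range :=
    mul_mem (mul_mem (mul_mem (inv_mem (hyW _))
      (mul_mem (mul_mem htmem (hmemu _)) (inv_mem htmem))) (inv_mem (hyW _))) (inv_mem htmem)
  obtain ⟨hdt, hde, -, -⟩ := dO_model P l
  have σd : σ (dW P hlk ψ u t) = dO P l := by rw [map_dW, funext hψ, σu, σt, dW_model]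
  let S := oddSys P hlk ψ (π := σ) (u := u) (t := t) (J := J) hψ σt σu (tH_fix hF Φ hc hco hs hψ) hst
    (by
      rw [ec]
      refine commute_hat hc hco hs (isP_cM hF Φ _) (mul_inv_eq_iff_eq_mul.1 ?_)
      rw [hψ, psi0_cM, ap_hd_single, if_pos rfl, mul_one, single_smul_one l]
      exact cM_smul hF Φ _ (θO_zeta P) _)
    (fun w _ => by
      rw [ec, hudef, huv]
      exact hat_commute hc hco hs (isP_cM hF Φ _) (isP_fM hF Φ P.O _) (P.cM_fM_comm _ _))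
    (fun w hw => by rw [ec, hcv, hcv]; exact hat_pair hF Φ hc hco hs hψ hw)
    (fun w hw => by
      have hw' : ((P.θ : F) • w) l = 0 := by simp [hw]
      refine ⟨MF l ψ t ((P.θ : F) • w), ?_, ?_⟩
      · have e := hat_pair (p := p) hF Φ hc hco hs hψ hw'
        rw [show MF l ψ t ((P.θ : F) • w) = (hat σ p (cM hF Φ (Pi.single l 1)))⁻¹ *
          hat σ p (cM hF Φ (Pi.single l 1 + (P.θ : F) • w)) * (hat σ p (cM hF Φ ((P.θ : F) • w)))⁻¹ by rw [e, htdef]; group]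
        rw [ec]
        exact mul_mem (mul_mem (inv_mem (Subgroup.subset_closure ⟨_, hcv _⟩)) (Subgroup.subset_closure ⟨_, hcv _⟩))
          (inv_mem (Subgroup.subset_closure ⟨_, hcv _⟩))
      · rw [hudef, huv, huv, MF_hat hF Φ hc hco hs hψ]
        have hM : (t0 hF Φ l)⁻¹ * psi0 hF Φ (colE l ((P.θ : F) • w)) * t0 hF Φ l ∈ Φ.unip hF := by
          rw [M0_eq hF Φ hw']
          exact mul_mem (mul_mem (inv_mem (cM_mem_unip hF Φ _)) (cM_mem_unip hF Φ _))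
            (inv_mem (cM_mem_unip hF Φ _))
        rw [← hat_mul hc hco hs (Φ.isPGroup_unip hF p) (fM_mem_unip hF Φ P.O _) (fM_mem_unip hF Φ P.O _),
          ← hat_mul hc hco hs (Φ.isPGroup_unip hF p) (mul_mem (fM_mem_unip hF Φ P.O _) (fM_mem_unip hF Φ P.O _)) hM,
          P.fM_pair l hw])
    (fun w hw => by
      rw [hudef, huv]
      exact commute_hat hc hco hs (isP_fM hF Φ P.O _) (by rw [σt]; exact P.t0_fM hw))
    (fun a => DFunLike.congr_fun (hom_ext_tv (p := p) hc hco (ψ := (MulAut.conj (dW P hlk ψ u t)).toMonoidHom.comp ψ)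
      (ψ' := ψ.comp (cjDHom l P.αO)) fun a => by
        show σ (dW P hlk ψ u t * ψ a * (dW P hlk ψ u t)⁻¹) = σ (ψ (cjD l P.αO a))
        rw [map_mul, map_mul, map_inv, σd, hψ, hψ]
        exact psi0_cjD hF Φ hdt l _ hde _) a)
    (by rw [hconjU, hudef, hat_conj hc hco hs _ (isP_fM hF Φ P.O _), ← hudef, σd, dO_fM])
    (eq_of_range hinj hψ3 (mul_mem htmem htmem) (pow_mem hdmem J) (by
      rw [map_mul, map_pow, σt, σd]
      obtain ⟨h1, h2⟩ := t0_sq_torus hF Φ l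
      refine torus_ext hF Φ l h1 (pow_mem hdt J) fun i => ?_
      rw [h2, torus_pow hF Φ hde]
      by_cases hi : i = l
      · rw [if_pos hi, if_pos hi, ← Units.val_pow_eq_pow_val, hJ]
      · rw [if_neg hi, if_neg hi]))
    (eq_of_range hinj hψ3 (mul_mem (mul_mem htmem hdmem) (inv_mem htmem)) (inv_mem (pow_mem hdmem q)) (by
      rw [map_mul, map_mul, map_inv, map_inv, map_pow, σt, σd]
      obtain ⟨h1, h2⟩ := t0_conj_torus hF Φ hdt l
      rw [← mul_inv_eq_one, inv_inv]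
      refine torus_ext hF Φ l (mul_mem h1 (pow_mem hdt q)) (one_mem _) fun i => ?_
      rw [suAct_mul, torus_pow hF Φ hde, suAct_smul, h2 _ hde, smul_smul, suAct_one]
      by_cases hi : i = l
      · rw [if_pos hi, if_pos hi, if_pos hi, mul_inv_cancel₀ (pow_ne_zero q P.αO.ne_zero), one_smul]
      · rw [if_neg hi, if_neg hi, if_neg hi, one_mul, one_smul]))
    (by
      suffices e : dE (ψ (hd hlk P.αO)) t = (dW P hlk ψ u t ^ (q + 1))⁻¹ by rw [dE_spec, e]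
      refine eq_of_range hinj hψ3
        (dE_mem_range hF Φ hlk hc hco hs hψ hinj hψ3 (te_e_mem3 P.O l) (te_f_mem3 P.O l) _)
        (inv_mem (pow_mem hdmem _)) ?_
      rw [map_dE, map_inv, map_pow, hψ, σt, σd]
      obtain ⟨h1, h2⟩ := dE_model hF Φ hlk P.αO
      refine torus_ext hF Φ l h1 (inv_mem (pow_mem hdt _)) fun i => ?_
      rw [h2]
      refine suAct_inj (dO P l ^ (q + 1)) ?_
      rw [suAct_suAct_inv, suAct_smul, torus_pow hF Φ hde, smul_smul]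
      by_cases hi : i = l
      · rw [if_pos hi, if_pos hi, αE, _root_.zpow_neg, show ((q : ℤ) + 1) = ((q + 1 : ℕ) : ℤ) by push_cast; rfl,
          zpow_natCast, Units.val_inv_eq_inv_val, Units.val_pow_eq_pow_val,
          inv_mul_cancel₀ (pow_ne_zero _ P.αO.ne_zero), one_smul]
      · rw [if_neg hi, if_neg hi, one_mul, one_smul])
    (by rw [ec]; exact tH_R1 hF Φ hc hco hs) (tH_tt hF Φ hlk hc hco hs hψ)
  refine S.inj (TwistMult.eq_top_of_map hc hperf fun g => ?_)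
  have htop := hgen_odd hF Φ hlk P
    ((Subgroup.closure (Set.range S.ψ ∪ (S.Q : Set Γ) ∪ {S.t})).map σ)
    (fun a => ⟨ψ a, Subgroup.subset_closure (Or.inl (Or.inl ⟨a, rfl⟩)), hψ a⟩)
    ⟨u, Subgroup.subset_closure (Or.inl (Or.inr (by
      show u ∈ S.Q
      rw [show u = S.fv (Pi.single l 1) from S.fv_l.symm]; exact S.fv_mem_Q _))), σu⟩
    ⟨t, Subgroup.subset_closure (Or.inr rfl), σt⟩
  obtain ⟨s, hs1, hs2⟩ := htop.ge (Subgroup.mem_top (σ g))
  exact ⟨s, hs1, hs2.symm⟩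

end Main

end Cfsg.Agent.SUMult
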