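/-
The stabiliser of an isotropic point of SU_{r+2}: the radical and a copy of SU_r.

* `pad`: `A ↦ diag(A, 1)`.
* `Pt`: a hyperbolic pair with the orthogonal complement; `exists_pt`: the standard one.
* `qel`: the elements of the radical; product, commutator, conjugation, uniqueness.
* `Pt.J`, `Pt.not_dvd_index`: the product has index prime to p.
-/
import Cfsg.Agent.Lib.Unitary.Count
import Cfsg.Agent.Lib.Unitary.Block
import Cfsg.Agent.Lib.Linear.UnitaryTorus

set_option autoImplicit false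
set_option linter.unusedSectionVars false

open Matrix
open scoped commutatorElement

namespace Cfsg.Agent.SUMult

open Cfsg.Agent.Unitary Cfsg.Agent.UFus

universe v

variable {F : Type v} [Field F] {q k r n : ℕ}

/-- A vector extended by zero. -/
def padV (w : Fin k → F) : Fin (k + 1) → F := Fin.append w (0 : Fin 1 → F)

/-- The new basis vector. -/
def lastV (k : ℕ) (F : Type v) [Field F] : Fin (k + 1) → F := Fin.append (0 : Fin k → F) (1 : Fin 1 → F)

theorem append_eq (x : Fin (k + 1) → F) :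
    ∃ (w : Fin k → F) (a : F), x = padV w + a • lastV k F := by
  refine ⟨fun i => x (Fin.castAdd 1 i), x (Fin.natAdd k 0), funext fun i => ?_⟩
  induction i using Fin.addCases with
  | left i => simp [padV, lastV]
  | right i => simp [padV, lastV, Subsingleton.elim i 0]

theorem padV_add (u w : Fin k → F) : padV (u + w) = padV u + padV w := funext fun i => by
  induction i using Fin.addCases <;> simp [padV]

theorem padV_smul (c : F) (w : Fin k → F) : padV (c • w) = c • padV w := funext fun i => by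
  induction i using Fin.addCases <;> simp [padV]

variable [Fintype F] (hF : Fintype.card F = q ^ 2)
include hF

theorem h_padV (u w : Fin k → F) : Cfsg.hermForm (k + 1) F q (padV u) (padV w) = Cfsg.hermForm k F q u w := by
  rw [padV, padV, hermForm_append, (hermForm_isHerm hF 1).zero_left, add_zero]

theorem h_padV_last (u : Fin k → F) : Cfsg.hermForm (k + 1) F q (padV u) (lastV k F) = 0 := by
  rw [padV, lastV, hermForm_append, (hermForm_isHerm hF 1).zero_left, (hermForm_isHerm hF k).zero_right hF,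
    add_zero]

theorem h_last : Cfsg.hermForm (k + 1) F q (lastV k F) (lastV k F) = 1 := by
  rw [lastV, hermForm_append, (hermForm_isHerm hF k).zero_left, zero_add]
  simp [Cfsg.hermForm]

variable (k) in
/-- `A ↦ diag(A, 1)`. -/
noncomputable def pad : Cfsg.SU k F q →* Cfsg.SU (k + 1) F q :=
  MonoidHom.mk' (fun A => suOfUnitary (blockMatrix ((A : Matrix.SpecialLinearGroup (Fin k) F) :
      Matrix (Fin k) (Fin k) F) (1 : Matrix (Fin 1) (Fin 1) F))
      (isUnitary_block A.2 IsUnitary.one) (by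
        have e : (blockMatrix ((A : Matrix.SpecialLinearGroup (Fin k) F) : Matrix (Fin k) (Fin k) F)
            (1 : Matrix (Fin 1) (Fin 1) F)).submatrix finSumFinEquiv finSumFinEquiv =
            Matrix.fromBlocks ((A : Matrix.SpecialLinearGroup (Fin k) F) : Matrix (Fin k) (Fin k) F) 0 0 1 := by
          ext (i | i) (j | j) <;> simp [blockMatrix]
        rw [← Matrix.det_submatrix_equiv_self finSumFinEquiv, e, Matrix.det_fromBlocks_zero₁₂,
          Matrix.det_one, mul_one]
        exact (A : Matrix.SpecialLinearGroup (Fin k) F).2))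
    fun A B => Subtype.ext (Subtype.ext (by
      show _ = blockMatrix _ _ * blockMatrix _ _
      rw [← blockMatrix_mul, one_mul]
      rfl))

theorem suAct_pad (A : Cfsg.SU k F q) (w : Fin k → F) : suAct (pad k A) (padV w) = padV (suAct A w) := by
  show blockMatrix _ _ *ᵥ Fin.append _ _ = _
  rw [blockMatrix_mulVec, Matrix.mulVec_zero]; rfl

theorem suAct_pad_last (A : Cfsg.SU k F q) : suAct (pad k A) (lastV k F) = lastV k F := by
  show blockMatrix _ _ *ᵥ Fin.append _ _ = _
  rw [blockMatrix_mulVec, Matrix.mulVec_zero, Matrix.one_mulVec]; rfl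

theorem pad_injective : Function.Injective (pad k : Cfsg.SU k F q → Cfsg.SU (k + 1) F q) := by
  intro A B e
  refine suAct_ext fun w => ?_
  have h := congrArg (fun g => suAct g (padV w)) e
  simp only [suAct_pad hF] at h
  exact funext fun i => by simpa [padV] using congrFun h (Fin.castAdd 1 i)

omit hF in
/-- A hyperbolic pair with its complement, and the group on the complement. -/
structure Pt (q n r : ℕ) (F : Type v) [Field F] where
  e : Fin n → F
  f : Fin n → F
  io : (Fin r → F) →ₗ[F] (Fin n → F)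
  pr : (Fin n → F) →ₗ[F] (Fin r → F)
  L : Cfsg.SU r F q →* Cfsg.SU n F q
  ee : Cfsg.hermForm n F q e e = 0
  ff : Cfsg.hermForm n F q f f = 0
  ef : Cfsg.hermForm n F q e f = 1
  io_e : ∀ w, Cfsg.hermForm n F q (io w) e = 0
  io_f : ∀ w, Cfsg.hermForm n F q (io w) f = 0
  io_io : ∀ u w, Cfsg.hermForm n F q (io u) (io w) = Cfsg.hermForm r F q u w
  pr_io : ∀ w, pr (io w) = w
  pr_e : pr e = 0
  pr_f : pr f = 0
  split : ∀ x, x = io (pr x) + Cfsg.hermForm n F q x f • e + Cfsg.hermForm n F q x e • f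
  L_io : ∀ A w, suAct (L A) (io w) = io (suAct A w)
  L_e : ∀ A, suAct (L A) e = e
  L_f : ∀ A, suAct (L A) f = f

/-- The standard one, with the group inside a copy of SU_{r+1} and the diagonal elements. -/
theorem exists_pt (r : ℕ) : ∃ (P : Pt q (r + 1 + 1) r F) (φ : Cfsg.SU (r + 1) F q →* Cfsg.SU (r + 1 + 1) F q),
    Function.Injective φ ∧ Function.Injective P.L ∧ P.L.range ≤ φ.range ∧
      ∀ (d : Fin r → F) (a : F), (∀ i, d i ^ (q + 1) = 1) → a ^ (q + 1) = 1 → (∏ i, d i) * (a * a) = 1 →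
        ∃ g : Cfsg.SU (r + 1 + 1) F q, suAct g P.e = a • P.e ∧ suAct g P.f = a • P.f ∧ ∀ w, suAct g (P.io w) = P.io (d * w) := by
  obtain ⟨α, hα⟩ := exists_norm_eq hF (c := (-1 : F)) (by rw [neg_pow_q hF, one_pow])
  obtain ⟨μ, hμ1, hμ⟩ : ∃ μ : F, μ ≠ 1 ∧ μ ^ (q + 1) = 1 := by
    classical
    have h1 := card_norm_one hF
    have : Nontrivial {x : F // x ^ (q + 1) = 1} := by
      rw [← Finite.one_lt_card_iff_nontrivial, h1]
      have := two_le_q hF
      omega
    obtain ⟨⟨x, hx⟩, hne⟩ := exists_ne (⟨1, one_pow _⟩ : {x : F // x ^ (q + 1) = 1})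
    exact ⟨x, fun e => hne (Subtype.ext e), hx⟩
  have hα0 : α ≠ 0 := by
    rintro rfl
    rw [zero_pow (by omega)] at hα
    exact one_ne_zero (neg_eq_zero.1 hα.symm)
  set β := μ * α
  have hβ : β ^ (q + 1) = -1 := by rw [mul_pow, hμ, hα, one_mul]
  have hαβ : α * β ^ q ≠ -1 := fun e => by
    have h : α * β ^ (q + 1) = -β := by rw [pow_succ, ← mul_assoc, e, neg_one_mul]
    rw [hβ, mul_neg, mul_one, neg_inj] at h
    exact hμ1 ((mul_eq_right₀ hα0).1 h.symm)
  set c := (1 + α * β ^ q)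
  have hc : c ≠ 0 := fun e => hαβ (by linear_combination e)
  set E0 : Fin (r + 1 + 1) → F := padV (lastV r F)
  set E1 : Fin (r + 1 + 1) → F := lastV (r + 1) F
  let io : (Fin r → F) →ₗ[F] (Fin (r + 1 + 1) → F) :=
    { toFun := fun w => padV (padV w)
      map_add' := fun u w => by rw [padV_add, padV_add]
      map_smul' := fun c w => by rw [padV_smul, padV_smul]; rfl }
  let pr : (Fin (r + 1 + 1) → F) →ₗ[F] (Fin r → F) :=
    LinearMap.funLeft F F fun i => Fin.castAdd 1 (Fin.castAdd 1 i)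
  have H := hermForm_isHerm hF (r + 1 + 1)
  have h00 : Cfsg.hermForm _ F q E0 E0 = 1 := by rw [h_padV hF, h_last hF]
  have h11 : Cfsg.hermForm _ F q E1 E1 = 1 := h_last hF
  have h01 : Cfsg.hermForm _ F q E0 E1 = 0 := h_padV_last hF _
  have h10 : Cfsg.hermForm _ F q E1 E0 = 0 := (H.eq_zero_symm hF).1 h01
  have hw0 : ∀ w, Cfsg.hermForm _ F q (io w) E0 = 0 := fun w =>
    (h_padV hF _ _).trans (h_padV_last hF _)
  have hw1 : ∀ w, Cfsg.hermForm _ F q (io w) E1 = 0 := fun w => h_padV_last hF _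
  have hpio : ∀ w, pr (io w) = w := fun w => funext fun i => by simp [pr, io, padV, LinearMap.funLeft]
  have hp0 : pr E0 = 0 := funext fun i => by simp [pr, E0, padV, lastV, LinearMap.funLeft]
  have hp1 : pr E1 = 0 := funext fun i => by simp [pr, E1, lastV, LinearMap.funLeft]
  have hd : c ^ q ≠ 0 := fun e => hc ((pow_q_eq_zero hF).1 e)
  let e := E0 + α • E1
  let f := (c ^ q)⁻¹ • (E0 + β • E1)
  refine ⟨{ e := e, f := f, io := io, pr := pr, L := (pad (r + 1)).comp (pad r),
            ee := ?_, ff := ?_, ef := ?_, io_e := ?_, io_f := ?_, io_io := ?_, pr_io := hpio,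
            pr_e := ?_, pr_f := ?_, split := ?_, L_io := ?_, L_e := ?_, L_f := ?_ },
    pad (r + 1), pad_injective hF, (pad_injective hF).comp (pad_injective hF), ?_, ?_⟩
  · simp only [e, H.add_left, H.add_right hF, H.smul_left, H.smul_right, h00, h11, h01, h10]
    rw [mul_one, ← pow_succ', hα]; ring
  · simp only [f, H.add_left, H.add_right hF, H.smul_left, H.smul_right, h00, h11, h01, h10]
    have : β ^ q * β = -1 := by rw [← pow_succ, hβ]
    linear_combination ((c ^ q)⁻¹ ^ q * (c ^ q)⁻¹) * this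
  · simp only [e, f, H.add_left, H.add_right hF, H.smul_left, H.smul_right, h00, h11, h01, h10]
    rw [inv_pow, pow_q_pow_q hF]
    field_simp
    ring
  · intro w; simp only [e, H.add_right hF, H.smul_right, hw0, hw1, mul_zero, add_zero]
  · intro w; simp only [f, H.add_right hF, H.smul_right, hw0, hw1, mul_zero, add_zero]
  · intro u w; exact (h_padV hF _ _).trans (h_padV hF _ _)
  · simp [e, hp0, hp1]
  · simp [f, hp0, hp1]
  · intro x
    obtain ⟨y, a1, rfl⟩ := append_eq x
    obtain ⟨w, a0, rfl⟩ := append_eq y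
    have hx : padV (padV w + a0 • lastV r F) + a1 • E1 = io w + a0 • E0 + a1 • E1 := by
      rw [padV_add, padV_smul]; rfl
    rw [hx]
    simp only [map_add, map_smul, hpio, hp0, hp1, smul_zero, add_zero, e, f, H.add_left, H.add_right hF,
      H.smul_left, H.smul_right, hw0, hw1, h00, h01, h10, h11, mul_zero, zero_add, mul_one, inv_pow,
      pow_q_pow_q hF]
    have hd' : 1 + α ^ q * β ≠ 0 := fun e => hd (by
      rw [add_pow_q hF, one_pow, mul_pow, pow_q_pow_q hF]; exact e)
    have hcq : c ^ q = 1 + α ^ q * β := by rw [add_pow_q hF, one_pow, mul_pow, pow_q_pow_q hF]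
    have hc' : (1 : F) + α * β ^ q ≠ 0 := hc
    have hα' : α ^ q * α = -1 := by rw [← pow_succ, hα]
    have hβ' : β ^ q * β = -1 := by rw [← pow_succ, hβ]
    rw [hcq]
    match_scalars <;> field_simp <;> simp only [c]
    · linear_combination a0 * (β ^ q * β) * hα' - a0 * hβ' - a1 * α ^ q * hβ' - a1 * β ^ q * hα'
    · linear_combination a1 * hβ' - a1 * (β ^ q * β) * hα' - a0 * α * hβ' - a0 * β * hα'
  · intro A w
    show suAct (pad (r + 1) (pad r A)) (padV (padV w)) = _
    rw [suAct_pad hF, suAct_pad hF]; rfl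
  · intro A
    show suAct (pad (r + 1) (pad r A)) e = e
    rw [suAct_add, suAct_smul, suAct_pad_last hF, suAct_pad hF, suAct_pad_last hF]
  · intro A
    show suAct (pad (r + 1) (pad r A)) f = f
    rw [suAct_smul, suAct_add, suAct_smul, suAct_pad_last hF, suAct_pad hF, suAct_pad_last hF]
  · rintro _ ⟨A, rfl⟩; exact ⟨_, rfl⟩
  · intro d a hd ha hprod
    let D : Fin (r + 1 + 1) → F := Fin.append (Fin.append d fun _ : Fin 1 => a) fun _ : Fin 1 => a
    have hD : ∀ i, D i ^ (q + 1) = 1 := by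
      intro i
      induction i using Fin.addCases with
      | left i =>
        induction i using Fin.addCases with
        | left i => simpa [D] using hd i
        | right i => simpa [D] using ha
      | right i => simpa [D] using ha
    have hdet : (Matrix.diagonal D).det = 1 := by
      rw [Matrix.det_diagonal, Fin.prod_univ_add, Fin.prod_univ_add]
      simpa [D, mul_assoc] using hprod
    refine ⟨suOfUnitary _ (isUnitary_diagonal hF hD) hdet, ?_, ?_, fun w => ?_⟩
    all_goals
      show Matrix.diagonal D *ᵥ _ = _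
      funext i
      rw [Matrix.mulVec_diagonal]
      induction i using Fin.addCases with
      | left i =>
        induction i using Fin.addCases with
        | left i => simp [D, e, f, E0, E1, io, padV, lastV]
        | right i => simp [D, e, f, E0, E1, io, padV, lastV]
      | right i => simp [D, e, f, E0, E1, io, padV, lastV]

namespace Pt

variable (P : Pt q n r F)

theorem e_io (w : Fin r → F) : Cfsg.hermForm n F q P.e (P.io w) = 0 :=
  ((hermForm_isHerm hF n).eq_zero_symm hF).1 (P.io_e w)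

theorem f_io (w : Fin r → F) : Cfsg.hermForm n F q P.f (P.io w) = 0 :=
  ((hermForm_isHerm hF n).eq_zero_symm hF).1 (P.io_f w)

theorem fe : Cfsg.hermForm n F q P.f P.e = 1 := by
  rw [(hermForm_isHerm hF n).conj_symm P.e P.f, P.ef, one_pow]

omit hF in
theorem io_inj {u w : Fin r → F} (e : P.io u = P.io w) : u = w := by rw [← P.pr_io u, e, P.pr_io]

theorem L_injective : Function.Injective P.L := by
  intro A B e
  refine suAct_ext fun w => P.io_inj ?_
  rw [← P.L_io, e, P.L_io]

theorem ok {w : Fin r → F} {c : F} (h : c + c ^ q = -Cfsg.hermForm r F q w w) : Ok q P.e (P.io w) c :=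
  ⟨P.ee, P.io_e w, by rw [h, P.io_io]⟩

/-- An element of the radical. -/
def qel {w : Fin r → F} {c : F} (h : c + c ^ q = -Cfsg.hermForm r F q w w) : Cfsg.SU n F q :=
  eich hF (P.ok hF h)

/-- The radical. -/
def Qe : Subgroup (Cfsg.SU n F q) := eichGroup hF P.e P.ee

theorem qel_mem {w : Fin r → F} {c : F} (h : c + c ^ q = -Cfsg.hermForm r F q w w) : P.qel hF h ∈ P.Qe hF :=
  ⟨_, _, P.ok hF h, rfl⟩

theorem exists_qel {g : Cfsg.SU n F q} (hg : g ∈ P.Qe hF) :
    ∃ (w : Fin r → F) (c : F) (h : c + c ^ q = -Cfsg.hermForm r F q w w), g = P.qel hF h := by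
  obtain ⟨v, c, hv, rfl⟩ := hg
  have H := hermForm_isHerm hF n
  obtain ⟨w, a, rfl⟩ : ∃ w a, v = P.io w + a • P.e := by
    refine ⟨P.pr v, Cfsg.hermForm n F q v P.f, ?_⟩
    conv_lhs => rw [P.split v, hv.orth, zero_smul, add_zero]
  have h2 : c - a + a ^ q + (c - a + a ^ q) ^ q = -Cfsg.hermForm r F q w w := by
    have := hv.trace
    simp only [H.add_left, H.add_right hF, H.smul_left, H.smul_right, P.io_io, P.io_e, P.e_io hF, P.ee,
      mul_zero, add_zero] at this
    rw [add_pow_q hF, sub_pow_q hF, pow_q_pow_q hF]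
    linear_combination this
  refine ⟨w, _, h2, ?_⟩
  refine suAct_ext fun x => ?_
  simp only [qel, suAct_eich, H.add_right hF, H.smul_right]
  module

theorem suAct_qel_f {w : Fin r → F} {c : F} (h : c + c ^ q = -Cfsg.hermForm r F q w w) :
    suAct (P.qel hF h) P.f = P.f + c • P.e - P.io w := by
  rw [qel, suAct_eich, P.f_io hF, P.fe hF, mul_one, zero_add, one_smul]

theorem suAct_qel_e {w : Fin r → F} {c : F} (h : c + c ^ q = -Cfsg.hermForm r F q w w) :
    suAct (P.qel hF h) P.e = P.e := by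
  rw [qel, suAct_eich, P.e_io hF, P.ee]
  simp

theorem qel_inj {w w' : Fin r → F} {c c' : F} (h : c + c ^ q = -Cfsg.hermForm r F q w w)
    (h' : c' + c' ^ q = -Cfsg.hermForm r F q w' w') (e : P.qel hF h = P.qel hF h') : w = w' ∧ c = c' := by
  have H := hermForm_isHerm hF n
  have e1 := congrArg (fun g => suAct g P.f) e
  simp only [P.suAct_qel_f hF] at e1
  have e2 := congrArg P.pr e1
  simp only [map_sub, map_add, map_smul, P.pr_f, P.pr_e, P.pr_io, smul_zero, zero_add, zero_sub,
    neg_inj] at e2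
  refine ⟨e2, ?_⟩
  have e3 := congrArg (fun x => Cfsg.hermForm n F q x P.f) e1
  simpa [H.add_left, H.sub_left, H.smul_left, P.ff, P.ef, P.io_f] using e3

theorem qel_congr {w w' : Fin r → F} {c c' : F} (h : c + c ^ q = -Cfsg.hermForm r F q w w)
    (h' : c' + c' ^ q = -Cfsg.hermForm r F q w' w') (ew : w = w') (ec : c = c') :
    P.qel hF h = P.qel hF h' := by subst ew ec; rfl

theorem ok_add' {w w' : Fin r → F} {c c' : F} (h : c + c ^ q = -Cfsg.hermForm r F q w w)
    (h' : c' + c' ^ q = -Cfsg.hermForm r F q w' w') :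
    c + c' - Cfsg.hermForm r F q w' w + (c + c' - Cfsg.hermForm r F q w' w) ^ q =
      -Cfsg.hermForm r F q (w + w') (w + w') := by
  have H := hermForm_isHerm hF r
  rw [H.add_left, H.add_right hF, H.add_right hF, sub_pow_q hF, add_pow_q hF, H.conj_symm w' w]
  linear_combination h + h'

theorem qel_mul {w w' : Fin r → F} {c c' : F} (h : c + c ^ q = -Cfsg.hermForm r F q w w)
    (h' : c' + c' ^ q = -Cfsg.hermForm r F q w' w') :
    P.qel hF h * P.qel hF h' = P.qel hF (ok_add' hF h h') := by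
  rw [qel, qel, qel, eich_mul]
  exact eich_congr hF _ _ rfl (map_add _ _ _).symm (by rw [P.io_io])

theorem qel_bracket {w w' : Fin r → F} {c c' : F} (h : c + c ^ q = -Cfsg.hermForm r F q w w)
    (h' : c' + c' ^ q = -Cfsg.hermForm r F q w' w') :
    ∃ h0, ⁅P.qel hF h, P.qel hF h'⁆ =
      P.qel hF (w := 0) (c := Cfsg.hermForm r F q w w' - Cfsg.hermForm r F q w' w) h0 := by
  have H := hermForm_isHerm hF r
  have h0 : Cfsg.hermForm r F q w w' - Cfsg.hermForm r F q w' w +
      (Cfsg.hermForm r F q w w' - Cfsg.hermForm r F q w' w) ^ q = -Cfsg.hermForm r F q 0 0 := by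
    rw [H.zero_left, sub_pow_q hF, ← H.conj_symm, ← H.conj_symm]; ring
  refine ⟨h0, ?_⟩
  rw [commutatorElement_def, mul_inv_eq_iff_eq_mul, mul_inv_eq_iff_eq_mul, mul_assoc, P.qel_mul hF h h',
    P.qel_mul hF h' h, P.qel_mul hF h0]
  refine P.qel_congr hF _ _ (by rw [zero_add, add_comm]) ?_
  rw [H.zero_right hF]
  ring

theorem qel_conj {g : Cfsg.SU n F q} {κ : F} {B : (Fin r → F) → (Fin r → F)} (he : suAct g P.e = κ • P.e)
    (hB : ∀ w, suAct g (P.io w) = P.io (B w)) {w : Fin r → F} {c : F}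
    (h : c + c ^ q = -Cfsg.hermForm r F q w w) :
    ∃ h', g * P.qel hF h * g⁻¹ = P.qel hF (w := κ ^ q • B w) (c := c * κ ^ (q + 1)) h' := by
  have H := hermForm_isHerm hF n
  have h1 : Ok q (κ • P.e) (P.io (B w)) c :=
    eich_congr_ok (ok_conj hF (P.ok hF h) g) he (hB w)
  have h' : c * κ ^ (q + 1) + (c * κ ^ (q + 1)) ^ q = -Cfsg.hermForm r F q (κ ^ q • B w) (κ ^ q • B w) := by
    rw [← P.io_io, map_smul, H.smul_left, H.smul_right, pow_q_pow_q hF, mul_pow, pow_q_succ_fixed hF]
    linear_combination (κ ^ (q + 1)) * h1.trace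
  refine ⟨h', ?_⟩
  have h2 : Ok q P.e (κ ^ q • P.io (B w)) (c * κ ^ (q + 1)) := by
    have := P.ok hF h'
    rwa [map_smul] at this
  rw [qel, qel, eich_conj hF (P.ok hF h), eich_congr hF _ h1 he (hB w) rfl, eich_smul_left hF h1 h2]
  exact eich_congr hF _ _ rfl (map_smul _ _ _).symm rfl
where
  eich_congr_ok {v v' w w' : Fin n → F} {c : F} (h : Ok q v w c) (hv : v = v') (hw : w = w') :
      Ok q v' w' c := by subst hv hw; exact h

theorem L_conj (A : Cfsg.SU r F q) {w : Fin r → F} {c : F} (h : c + c ^ q = -Cfsg.hermForm r F q w w) :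
    ∃ h', P.L A * P.qel hF h * (P.L A)⁻¹ = P.qel hF (w := suAct A w) (c := c) h' := by
  obtain ⟨h', e⟩ := P.qel_conj hF (g := P.L A) (κ := 1) (B := suAct A)
    (by rw [P.L_e, one_smul]) (P.L_io A) h
  refine ⟨by rw [suAct_herm]; exact h, e.trans (P.qel_congr hF _ _ (by rw [one_pow, one_smul])
    (by rw [one_pow, mul_one]))⟩

theorem L_normalizes : P.L.range ≤ Subgroup.normalizer (P.Qe hF : Set (Cfsg.SU n F q)) := by
  rintro _ ⟨A, rfl⟩
  rw [Subgroup.mem_normalizer_iff]
  intro g
  constructor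
  · intro hg
    obtain ⟨w, c, h, rfl⟩ := P.exists_qel hF hg
    obtain ⟨h', e⟩ := P.L_conj hF A h
    exact e ▸ P.qel_mem hF h'
  · intro hg
    obtain ⟨w, c, h, e⟩ := P.exists_qel hF hg
    obtain ⟨h', e'⟩ := P.L_conj hF A⁻¹ h
    rw [← e, map_inv, inv_inv,
      show (P.L A)⁻¹ * (P.L A * g * (P.L A)⁻¹) * P.L A = g by group] at e'
    exact e' ▸ P.qel_mem hF h'

theorem inf_eq_one {g : Cfsg.SU n F q} (hg : g ∈ P.Qe hF) (hL : g ∈ P.L.range) : g = 1 := by
  obtain ⟨A, rfl⟩ := hL
  obtain ⟨w, c, h, e⟩ := P.exists_qel hF hg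
  have h0 : (0 : F) + 0 ^ q = -Cfsg.hermForm r F q 0 0 := by
    rw [zero_pow_q hF, (hermForm_isHerm hF r).zero_left]; simp
  have h1 : P.qel hF h0 = 1 := suAct_ext fun x => by
    rw [qel, suAct_eich, suAct_one, map_zero, (hermForm_isHerm hF n).zero_right hF]; simp
  have e1 := congrArg (fun g => suAct g P.f) e
  simp only [P.L_f, P.suAct_qel_f hF] at e1
  have e2 := congrArg P.pr e1
  simp only [map_sub, map_add, map_smul, P.pr_f, P.pr_e, P.pr_io, smul_zero, zero_add, zero_sub,
    zero_eq_neg] at e2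
  have e3 := congrArg (fun x => Cfsg.hermForm n F q x P.f) e1
  have H := hermForm_isHerm hF n
  simp only [H.add_left, H.sub_left, H.smul_left, P.ff, P.ef, P.io_f, zero_add, mul_one, sub_zero] at e3
  rw [e, P.qel_congr hF h h0 e2 e3.symm, h1]

/-- The radical and the complement group. -/
def J : Subgroup (Cfsg.SU n F q) := P.Qe hF ⊔ P.L.range

theorem mem_J {g : Cfsg.SU n F q} : g ∈ P.J hF ↔ ∃ x ∈ P.Qe hF, ∃ l ∈ P.L.range, x * l = g := by
  rw [J, ← SetLike.mem_coe, Subgroup.coe_mul_of_right_le_normalizer_left _ _ (P.L_normalizes hF)]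
  rfl

theorem card_Qe : Nat.card (P.Qe hF) = q ^ (2 * r + 1) := by
  classical
  have H := hermForm_isHerm hF r
  have hb : ∀ w : Fin r → F, ∃ c : F, c + c ^ q = -Cfsg.hermForm r F q w w := fun w =>
    exists_trace_eq hF (by rw [neg_pow_q hF, ← H.conj_symm])
  choose b hb using hb
  let S : Type v := {x : F // x + x ^ q = 0}
  have hok : ∀ (w : Fin r → F) (s : S), b w + s.1 + (b w + s.1) ^ q = -Cfsg.hermForm r F q w w := fun w s => by
    rw [add_pow_q hF]
    linear_combination hb w + s.2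
  let f : (Fin r → F) × S → P.Qe hF := fun x => ⟨P.qel hF (hok x.1 x.2), P.qel_mem hF _⟩
  have hf : Function.Bijective f := by
    constructor
    · rintro ⟨w, s⟩ ⟨w', s'⟩ e
      obtain ⟨h1, h2⟩ := P.qel_inj hF (hok w s) (hok w' s') (congrArg Subtype.val e)
      subst h1
      rw [Subtype.ext (add_left_cancel h2)]
    · rintro ⟨g, hg⟩
      obtain ⟨w, c, h, rfl⟩ := P.exists_qel hF hg
      have hS : c - b w + (c - b w) ^ q = 0 := by
        rw [sub_pow_q hF]
        linear_combination h - hb w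
      exact ⟨(w, ⟨c - b w, hS⟩), Subtype.ext
        (P.qel_congr hF (hok w ⟨c - b w, hS⟩) h rfl (add_sub_cancel _ _))⟩
  rw [← Nat.card_eq_of_bijective f hf, Nat.card_prod, card_trace_zero hF, Nat.card_fun, Nat.card_fin,
    Nat.card_eq_fintype_card, hF, ← pow_mul, ← pow_succ]

theorem isPGroup_Qe (p : ℕ) [CharP F p] : IsPGroup p (P.Qe hF) := by
  rintro ⟨g, hg⟩
  obtain ⟨w, c, h, rfl⟩ := P.exists_qel hF hg
  exact ⟨2, Subtype.ext (by rw [pow_two]; exact eich_pow_sq hF (P.ok hF h) p)⟩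

theorem card_J : Nat.card (P.J hF) = Nat.card (P.Qe hF) * Nat.card (Cfsg.SU r F q) := by
  let f : P.Qe hF × Cfsg.SU r F q → P.J hF := fun x =>
    ⟨x.1 * P.L x.2, (P.mem_J hF).2 ⟨_, x.1.2, _, ⟨_, rfl⟩, rfl⟩⟩
  have hf : Function.Bijective f := by
    constructor
    · rintro ⟨⟨g, hg⟩, A⟩ ⟨⟨g', hg'⟩, A'⟩ e
      have e' : g * P.L A = g' * P.L A' := congrArg Subtype.val e
      have h1 : g'⁻¹ * g = P.L (A' * A⁻¹) := by
        rw [map_mul, map_inv, eq_mul_inv_iff_mul_eq, mul_assoc, e', inv_mul_cancel_left]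
      have h2 := P.inf_eq_one hF (mul_mem (inv_mem hg') hg) ⟨_, h1.symm⟩
      obtain rfl := inv_mul_eq_one.1 h2
      rw [P.L_injective hF (mul_left_cancel e')]
    · rintro ⟨g, hg⟩
      obtain ⟨x, hx, _, ⟨A, rfl⟩, rfl⟩ := (P.mem_J hF).1 hg
      exact ⟨(⟨x, hx⟩, A), rfl⟩
  rw [← Nat.card_eq_of_bijective f hf, Nat.card_prod]

theorem not_dvd_index {p : ℕ} [Fact p.Prime] [CharP F p] (hr : 1 ≤ r) (hn : n = r + 1 + 1) :
    ¬p ∣ (P.J hF).index := by
  obtain ⟨p', m, hp', hchar, hqp, hm⟩ := exists_prime_pow hF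
  obtain rfl : p = p' := CharP.eq F ‹CharP F p› hchar
  subst hn
  have hq := two_le_q hF
  have hmul := Subgroup.card_mul_index (P.J hF)
  rw [P.card_J hF, P.card_Qe hF] at hmul
  have hr' := card_SU hF r hr
  have hn' := card_SU hF (r + 1 + 1) (by omega)
  have hexp : (r + 1 + 1) * (r + 1 + 1 - 1) / 2 = 2 * r + 1 + r * (r - 1) / 2 := by
    obtain ⟨s, rfl⟩ : ∃ s, r = s + 1 := ⟨r - 1, by omega⟩
    rw [show (s + 1 + 1 + 1) * (s + 1 + 1 + 1 - 1) = 2 * (2 * (s + 1) + 1) + (s + 1) * (s + 1 - 1) by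
      simp only [Nat.add_sub_cancel]; ring, Nat.mul_add_div (by norm_num)]
  set Pn := ∏ i ∈ Finset.range (r + 1 + 1), (if Even i then q ^ (i + 1) + 1 else q ^ (i + 1) - 1) with hPn
  set Pr := ∏ i ∈ Finset.range r, (if Even i then q ^ (i + 1) + 1 else q ^ (i + 1) - 1)
  have key : Pr * (P.J hF).index = Pn := by
    refine Nat.eq_of_mul_eq_mul_left (pow_pos (by omega : 0 < q) ((r + 1 + 1) * (r + 1 + 1 - 1) / 2)) ?_
    rw [← hn', ← hmul, hexp, pow_add]
    calc q ^ (2 * r + 1) * q ^ (r * (r - 1) / 2) * (Pr * (P.J hF).index)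
        = q ^ (2 * r + 1) * (q ^ (r * (r - 1) / 2) * Pr) * (P.J hF).index := by ring
      _ = _ := by rw [← hr']; ring
  intro hd
  have hd' : p ∣ Pn := key ▸ hd.mul_left Pr
  obtain ⟨i, -, hi⟩ := (hp'.prime.dvd_finsetProd_iff _).1 hd'
  have h2 : p ∣ q ^ (i + 1) := dvd_pow (hqp ▸ dvd_pow_self p (by omega)) (by omega)
  split_ifs at hi
  · exact hp'.one_lt.ne' (Nat.dvd_one.1 ((Nat.dvd_add_right h2).1 hi))
  · have h1 : 1 ≤ q ^ (i + 1) := Nat.one_le_pow _ _ (by omega)
    have := (Nat.dvd_add_right hi).1 (show p ∣ q ^ (i + 1) - 1 + 1 by rwa [Nat.sub_add_cancel h1])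
    exact hp'.one_lt.ne' (Nat.dvd_one.1 this)

end Pt

end Cfsg.Agent.SUMult
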