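/-
Central extensions with kernel a p-group: tools for the descent along point stabilisers.

* `Triv`, `Triv.transport`: every central element of the derived group in the kernel is trivial.
* `mem_bracket_of_index`: transfer to a subgroup of index prime to p.
* `bracket_eq_one_of_pow`: an element of order prime to p centralises exactly on lifts.
* `CPair`: a subgroup with central commutators; `br`, its biadditivity.
* `brSub`: the commutators with a fixed element on an abelian subgroup.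
-/
import Cfsg.Agent.Lib.SUMult.Tools
import Cfsg.Agent.Lib.Schur.Basic

set_option autoImplicit false
set_option linter.unusedSectionVars false

open scoped commutatorElement

namespace Cfsg.Agent.SUMult

universe u v

/-- Every extension of `SU_n` by a central p-group meets the derived group trivially. -/
def Triv (n : ℕ) (F : Type v) [Field F] (q p : ℕ) : Prop :=
  ∀ (Γ : Type u) [Group Γ] [Finite Γ] (π : Γ →* Cfsg.SU n F q), Function.Surjective π →
    π.ker ≤ Subgroup.center Γ → IsPGroup p π.ker → ∀ z ∈ commutator Γ, π z = 1 → z = 1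

section Descent

variable {Γ : Type u} [Group Γ] {M : Type v} [Group M] {π : Γ →* M}

theorem isP_of_ker {p : ℕ} (hp : IsPGroup p π.ker) {z : Γ} (h : π z = 1) : IsP p z :=
  IsP.of_mem hp (show z ∈ π.ker from h)

/-- Transfer to the preimage of a subgroup of index prime to p. -/
theorem mem_bracket_of_index [Finite Γ] {p : ℕ} [Fact p.Prime] (hs : Function.Surjective π)
    (hc : π.ker ≤ Subgroup.center Γ) (hp : IsPGroup p π.ker) {H : Subgroup M} (hH : ¬p ∣ H.index)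
    {z : Γ} (hz : z ∈ commutator Γ) (h1 : π z = 1) : z ∈ ⁅H.comap π, H.comap π⁆ := by
  obtain ⟨k, hk⟩ := isP_of_ker hp h1
  have hzH : z ∈ H.comap π := by rw [Subgroup.mem_comap, h1]; exact one_mem _
  have h := Schur.mem_commutator_of_not_dvd_index (Fact.out (p := p.Prime)) (H.comap π)
    (by rwa [Subgroup.index_comap_of_surjective H hs]) hzH (hc h1) hz hk
  rw [← Subgroup.map_subtype_commutator]
  exact ⟨_, h, rfl⟩

/-- The triviality transports along embeddings. -/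
theorem Triv.transport {n : ℕ} {F : Type v} [Field F] {q p : ℕ} (hT : Triv.{u} n F q p) [Finite Γ]
    (hc : π.ker ≤ Subgroup.center Γ) (hs : Function.Surjective π) (hp : IsPGroup p π.ker)
    {φ : Cfsg.SU n F q →* M} (hφ : Function.Injective φ) {z : Γ}
    (hz : z ∈ ⁅φ.range.comap π, φ.range.comap π⁆) (h1 : π z = 1) : z = 1 := by
  set G : Subgroup Γ := φ.range.comap π
  let e : Cfsg.SU n F q ≃* φ.range := MonoidHom.ofInjective hφ
  let π' : G →* Cfsg.SU n F q := e.symm.toMonoidHom.comp (π.subgroupComap φ.range)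
  have hπ' : ∀ x : G, φ (π' x) = π (x : Γ) := fun x => congrArg Subtype.val (e.apply_symm_apply _)
  have hker : ∀ x : G, π' x = 1 → π (x : Γ) = 1 := fun x hx => by rw [← hπ', hx, map_one]
  have hs' : Function.Surjective π' := fun a => by
    obtain ⟨g, hg⟩ := hs (φ a)
    exact ⟨⟨g, ⟨a, hg.symm⟩⟩, hφ ((hπ' _).trans hg)⟩
  have hc' : π'.ker ≤ Subgroup.center G := fun x hx =>
    Subgroup.mem_center_iff.2 fun g => Subtype.ext (Subgroup.mem_center_iff.1 (hc (hker x hx)) g)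
  have hp' : IsPGroup p π'.ker := by
    rintro ⟨x, hx⟩
    obtain ⟨k, hk⟩ := isP_of_ker hp (hker x hx)
    exact ⟨k, Subtype.ext (Subtype.ext hk)⟩
  rw [← Subgroup.map_subtype_commutator] at hz
  obtain ⟨x, hx, rfl⟩ := hz
  have := hT G π' hs' hc' hp' x hx (hφ ((hπ' x).trans (h1.trans (map_one φ).symm)))
  rw [this]; rfl

/-- An element of order prime to p that fixes an element downstairs fixes it upstairs. -/
theorem bracket_eq_one_of_pow {p N : ℕ} [Fact p.Prime] (hc : π.ker ≤ Subgroup.center Γ)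
    (hp : IsPGroup p π.ker) (hN : ¬p ∣ N) {g x : Γ} (hg : π g ^ N = 1) (hx : Commute (π g) (π x)) :
    ⁅g, x⁆ = 1 := by
  have hz : π ⁅g, x⁆ = 1 := by rw [map_commutatorElement, commutatorElement_eq_one_iff_commute]; exact hx
  set z := ⁅g, x⁆ with hzdef
  have hzc : ∀ a, Commute a z := fun a => ker_commute hc hz a
  have he : g * x * g⁻¹ = z * x := by rw [hzdef, commutatorElement_def]; group
  have key : ∀ k : ℕ, g ^ k * x * (g ^ k)⁻¹ = z ^ k * x := by
    intro k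
    induction k with
    | zero => simp
    | succ k ih =>
      rw [pow_succ', show g * g ^ k * x * (g * g ^ k)⁻¹ = g * (g ^ k * x * (g ^ k)⁻¹) * g⁻¹ by group, ih,
        show g * (z ^ k * x) * g⁻¹ = g * z ^ k * g⁻¹ * (g * x * g⁻¹) by group, he,
        ((hzc g).pow_right k).eq, mul_inv_cancel_right, ← mul_assoc, ← pow_succ]
  have hgN : Commute (g ^ N) x := (ker_commute hc (show π (g ^ N) = 1 by rw [map_pow, hg]) x).symm
  have hzN : z ^ N = 1 := by
    have := key N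
    rw [hgN.eq, mul_inv_cancel_right] at this
    exact mul_eq_right.1 this.symm
  obtain ⟨k, hk⟩ := isP_of_ker hp hz
  have h := pow_gcd_eq_one.2 ⟨hk, hzN⟩
  rwa [Nat.Coprime.pow_left k ((Fact.out (p := p.Prime)).coprime_iff_not_dvd.2 hN), pow_one] at h

theorem map_eq_one_iff_bracket (g x : Γ) : π ⁅g, x⁆ = 1 ↔ Commute (π g) (π x) := by
  rw [map_commutatorElement, commutatorElement_eq_one_iff_commute]

end Descent

section Pair

variable {Γ : Type u} [Group Γ]

/-- A subgroup whose commutators lie in a central subgroup. -/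
structure CPair (Q A : Subgroup Γ) : Prop where
  le : A ≤ Q
  cent : ∀ a ∈ A, ∀ x ∈ Q, Commute a x
  br : ∀ x ∈ Q, ∀ y ∈ Q, ⁅x, y⁆ ∈ A

namespace CPair

variable {Q A : Subgroup Γ} (h : CPair Q A)
include h

theorem conj_br {x y w : Γ} (hx : x ∈ Q) (hy : y ∈ Q) (hw : w ∈ Q) : w * ⁅x, y⁆ * w⁻¹ = ⁅x, y⁆ := by
  rw [← (h.cent _ (h.br x hx y hy) w hw).eq, mul_inv_cancel_right]

theorem mul_left {x x' y : Γ} (hx : x ∈ Q) (hx' : x' ∈ Q) (hy : y ∈ Q) :
    ⁅x * x', y⁆ = ⁅x, y⁆ * ⁅x', y⁆ := by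
  rw [show ⁅x * x', y⁆ = x * ⁅x', y⁆ * x⁻¹ * ⁅x, y⁆ by simp only [commutatorElement_def]; group,
    h.conj_br hx' hy hx, (h.cent _ (h.br x' hx' y hy) _ (h.le (h.br x hx y hy))).eq]

theorem mul_right {x y y' : Γ} (hx : x ∈ Q) (hy : y ∈ Q) (hy' : y' ∈ Q) :
    ⁅x, y * y'⁆ = ⁅x, y⁆ * ⁅x, y'⁆ := by
  rw [show ⁅x, y * y'⁆ = ⁅x, y⁆ * (y * ⁅x, y'⁆ * y⁻¹) by simp only [commutatorElement_def]; group,
    h.conj_br hx hy' hy]

theorem one_of_mem {a y : Γ} (ha : a ∈ A) (hy : y ∈ Q) : ⁅a, y⁆ = 1 :=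
  commutatorElement_eq_one_iff_commute.2 (h.cent a ha y hy)

theorem one_of_mem' {a y : Γ} (ha : a ∈ A) (hy : y ∈ Q) : ⁅y, a⁆ = 1 :=
  commutatorElement_eq_one_iff_commute.2 (h.cent a ha y hy).symm

theorem congr {x x' y y' : Γ} (hx : x ∈ Q) (hy : y ∈ Q) (hy' : y' ∈ Q) (e : x⁻¹ * x' ∈ A)
    (e' : y⁻¹ * y' ∈ A) : ⁅x', y'⁆ = ⁅x, y⁆ := by
  calc ⁅x', y'⁆ = ⁅x * (x⁻¹ * x'), y'⁆ := by rw [mul_inv_cancel_left]
    _ = ⁅x, y * (y⁻¹ * y')⁆ := by rw [h.mul_left hx (h.le e) hy', h.one_of_mem e hy', mul_one, mul_inv_cancel_left]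
    _ = _ := by rw [h.mul_right hx hy (h.le e'), h.one_of_mem' e' hx, mul_one]

/-- Commutators of generators control all commutators. -/
theorem br_mem_of_gen {C : Subgroup Γ} {S : Set Γ} (hSQ : ∀ s ∈ S, s ∈ Q)
    (hgen : Q ≤ Subgroup.closure (S ∪ A)) (hS : ∀ s ∈ S, ∀ t ∈ S, ⁅s, t⁆ ∈ C) :
    ⁅Q, Q⁆ ≤ C := by
  have hmem : ∀ s ∈ S ∪ (A : Set Γ), s ∈ Q := by
    rintro s (hs | hs)
    · exact hSQ s hs
    · exact h.le hs
  have h1 : ∀ s ∈ S, ∀ y ∈ Q, ⁅s, y⁆ ∈ C := by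
    intro s hs y hy
    let K : Subgroup Γ :=
      { carrier := {w | w ∈ Q ∧ ⁅s, w⁆ ∈ C}
        one_mem' := ⟨one_mem _, by rw [commutatorElement_one_right]; exact one_mem _⟩
        mul_mem' := by
          rintro a b ⟨ha, ha'⟩ ⟨hb, hb'⟩
          exact ⟨mul_mem ha hb, by rw [h.mul_right (hSQ s hs) ha hb]; exact mul_mem ha' hb'⟩
        inv_mem' := by
          rintro a ⟨ha, ha'⟩
          refine ⟨inv_mem ha, ?_⟩
          have := h.mul_right (hSQ s hs) ha (inv_mem ha)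
          rw [mul_inv_cancel, commutatorElement_one_right] at this
          rw [eq_inv_of_mul_eq_one_right this.symm]
          exact inv_mem ha' }
    refine ((Subgroup.closure_le K).2 ?_ (hgen hy)).2
    rintro w (hw | hw)
    · exact ⟨hSQ w hw, hS s hs w hw⟩
    · exact ⟨h.le hw, by rw [h.one_of_mem' hw (hSQ s hs)]; exact one_mem _⟩
  rw [Subgroup.commutator_le]
  intro x hx y hy
  let K : Subgroup Γ :=
    { carrier := {w | w ∈ Q ∧ ⁅w, y⁆ ∈ C}
      one_mem' := ⟨one_mem _, by rw [commutatorElement_one_left]; exact one_mem _⟩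
      mul_mem' := by
        rintro a b ⟨ha, ha'⟩ ⟨hb, hb'⟩
        exact ⟨mul_mem ha hb, by rw [h.mul_left ha hb hy]; exact mul_mem ha' hb'⟩
      inv_mem' := by
        rintro a ⟨ha, ha'⟩
        refine ⟨inv_mem ha, ?_⟩
        have := h.mul_left ha (inv_mem ha) hy
        rw [mul_inv_cancel, commutatorElement_one_left] at this
        rw [eq_inv_of_mul_eq_one_right this.symm]
        exact inv_mem ha' }
  refine ((Subgroup.closure_le K).2 ?_ (hgen hx)).2
  rintro w (hw | hw)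
  · exact ⟨hSQ w hw, h1 w hw y hy⟩
  · exact ⟨h.le hw, by rw [h.one_of_mem hw hy]; exact one_mem _⟩

end CPair

/-- The commutators with `g` on an abelian subgroup normalised by `g`. -/
def brSub (g : Γ) (A : Subgroup Γ) (hA : ∀ a ∈ A, ∀ b ∈ A, Commute a b)
    (hg : ∀ a ∈ A, ⁅g, a⁆ ∈ A) : Subgroup Γ where
  carrier := {w | ∃ a ∈ A, w = ⁅g, a⁆}
  one_mem' := ⟨1, one_mem _, (commutatorElement_one_right _).symm⟩
  mul_mem' := by
    rintro _ _ ⟨a, ha, rfl⟩ ⟨b, hb, rfl⟩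
    refine ⟨a * b, mul_mem ha hb, ?_⟩
    rw [show ⁅g, a * b⁆ = ⁅g, a⁆ * (a * ⁅g, b⁆ * a⁻¹) by simp only [commutatorElement_def]; group,
      (hA a ha _ (hg b hb)).eq, mul_inv_cancel_right]
  inv_mem' := by
    rintro _ ⟨a, ha, rfl⟩
    refine ⟨a⁻¹, inv_mem ha, ?_⟩
    rw [show ⁅g, a⁻¹⁆ = a⁻¹ * ⁅g, a⁆⁻¹ * a by simp only [commutatorElement_def]; group,
      mul_assoc, ((hA a ha _ (inv_mem (hg a ha))).symm).eq, inv_mul_cancel_left]

theorem mem_brSub {g : Γ} {A : Subgroup Γ} {hA : ∀ a ∈ A, ∀ b ∈ A, Commute a b}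
    {hg : ∀ a ∈ A, ⁅g, a⁆ ∈ A} {w : Γ} : w ∈ brSub g A hA hg ↔ ∃ a ∈ A, w = ⁅g, a⁆ := Iff.rfl

variable {M : Type v} [Group M] {π : Γ →* M}

/-- If the commutators with `g` cover the image, everything normalising them has its commutators in them. -/
theorem bracket_mem_brSub (hc : π.ker ≤ Subgroup.center Γ) {g X : Γ} {A : Subgroup Γ}
    {hA : ∀ a ∈ A, ∀ b ∈ A, Commute a b} {hg : ∀ a ∈ A, ⁅g, a⁆ ∈ A}
    (hcov : ∀ a ∈ A, ∃ b ∈ A, π a = π ⁅g, b⁆) (hX : ∀ a ∈ A, X * a * X⁻¹ ∈ A)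
    (hXg : Commute (π X) (π g)) : ∀ a ∈ A, ⁅X, a⁆ ∈ brSub g A hA hg := by
  intro a ha
  obtain ⟨b, hb, e⟩ := hcov a ha
  rw [TwistMult.bracket_congr hc (rfl : π X = π X) e, commutatorElement_def]
  refine mul_mem ⟨X * b * X⁻¹, hX b hb, ?_⟩ (inv_mem ⟨b, hb, rfl⟩)
  rw [show X * ⁅g, b⁆ * X⁻¹ = ⁅X * g * X⁻¹, X * b * X⁻¹⁆ by simp only [commutatorElement_def]; group]
  exact TwistMult.bracket_congr hc (by rw [map_mul, map_mul, map_inv, hXg.eq, mul_inv_cancel_right]) rfl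

end Pair

end Cfsg.Agent.SUMult
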