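/-
Central p-extensions on the radical of the stabiliser of an isotropic point.

* `Pt.exists_tor`: the hyperbolic torus.
* `Pt.wp`, `Pt.Ze`: the coordinate on the complement and the root group.
* `commute_te_lift`: lifts of transvections of the complement centralise the root group.
* `cpair_pt`, `bracket_le_pt`: the derived group of the preimage meets the kernel trivially.
-/
import Cfsg.Agent.Lib.SUMult.PtTools
import Cfsg.Agent.Lib.SUMult.PtModel
import Cfsg.Agent.Lib.SUMult.PtForm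
import Cfsg.Agent.Lib.SUMult.RankOne
import Cfsg.Agent.Lib.UnitaryBN.Simple

set_option autoImplicit false
set_option linter.unusedSectionVars false
set_option linter.style.haveILetI false

open Matrix
open scoped commutatorElement

namespace Cfsg.Agent.SUMult

open Cfsg.Agent.Unitary Cfsg.Agent.UFus Cfsg.Agent.UnitaryBN

universe u v

variable {F : Type v} [Field F] [Fintype F] {q n r : ℕ} (hF : Fintype.card F = q ^ 2)
include hF

/-- A transvection of dimension at least three is a commutator. -/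
theorem te_mem_commutator (hr : 3 ≤ r) {v : Fin r → F} (hv : Cfsg.hermForm r F q v v = 0) {d : F}
    (hd : d ^ q = -d) : ∃ A B : Cfsg.SU r F q, ⁅A, B⁆ = te hF hv hd := by
  have H := hermForm_isHerm hF r
  rcases eq_or_ne v 0 with rfl | hv0
  · refine ⟨1, 1, ?_⟩
    rw [commutatorElement_one_left]
    exact suAct_ext fun x => by rw [suAct_one, suAct_transEich, smul_zero, add_zero]
  obtain ⟨u, huv, huu⟩ := exists_aniso hF hr hv0 hv
  obtain ⟨t, ht⟩ := exists_trace_eq hF (c := (1 : F)) (one_pow q)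
  set N := Cfsg.hermForm r F q u u with hN
  set β := -(d / N) * t with hβ
  obtain ⟨c, hc⟩ := exists_trace_eq hF (c := -Cfsg.hermForm r F q u u) (by rw [neg_pow_q hF, H.self_fixed])
  obtain ⟨c', hc'⟩ := exists_trace_eq hF (c := -Cfsg.hermForm r F q (β • u) (β • u))
    (by rw [neg_pow_q hF, H.self_fixed])
  have ok1 : Ok q v u c := ⟨hv, huv, hc⟩
  have ok2 : Ok q v (β • u) c' := ⟨hv, by rw [H.smul_left, huv, mul_zero], hc'⟩
  refine ⟨eich hF ok1, eich hF ok2, ?_⟩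
  have hv' : Cfsg.hermForm r F q v u = 0 := (H.eq_zero_symm hF).1 huv
  rw [commutatorElement_def, mul_inv_eq_iff_eq_mul, mul_inv_eq_iff_eq_mul, mul_assoc, eich_mul, eich_mul, te,
    eich_mul]
  refine eich_congr hF _ _ rfl (by rw [zero_add, add_comm]) ?_
  rw [H.zero_right hF, H.smul_left, H.smul_right]
  have hdN : (d / N) ^ q = -(d / N) := by rw [div_pow, hd, hN, H.self_fixed, neg_div]
  have hβq : β ^ q = d / N * t ^ q := by rw [hβ, mul_pow, neg_pow_q hF, hdN, neg_neg]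
  rw [hβq, hβ, ← hN]
  linear_combination d / N * N * ht + div_mul_cancel₀ d huu

namespace Pt

variable (P : Pt q n r F)

omit hF in
theorem ext_split {g g' : Cfsg.SU n F q} (hio : ∀ w, suAct g (P.io w) = suAct g' (P.io w))
    (he : suAct g P.e = suAct g' P.e) (hf : suAct g P.f = suAct g' P.f) : g = g' := by
  refine suAct_ext fun x => ?_
  rw [P.split x]
  simp only [suAct_add, suAct_smul, hio, he, hf]

/-- The hyperbolic torus. -/
theorem exists_tor {k : F} (hk : k ^ q = k) (hk0 : k ≠ 0) : ∃ g : Cfsg.SU n F q,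
    suAct g P.e = k • P.e ∧ (∀ w, suAct g (P.io w) = P.io w) ∧ suAct g P.f = k⁻¹ • P.f ∧
      ∀ A, Commute g (P.L A) := by
  let B : Sub q n 2 F :=
    { v := ![P.e, P.f]
      pair := fun i j => by
        fin_cases i <;> fin_cases j <;> simp [P.ee, P.ff, P.ef, P.fe hF, Fin.rev] }
  let C : (fixedField hF)ˣ →* Matrix (Fin 2) (Fin 2) F :=
    { toFun := fun u => Matrix.diagonal ![((u : fixedField hF) : F), ((u : fixedField hF) : F)⁻¹]
      map_one' := by
        rw [← Matrix.diagonal_one]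
        congr 1
        funext i
        fin_cases i <;> simp
      map_mul' := fun u w => by
        rw [Matrix.diagonal_mul_diagonal]
        congr 1
        funext i
        fin_cases i <;> simp [mul_comm] }
  have hne : ∀ u : (fixedField hF)ˣ, ((u : fixedField hF) : F) ≠ 0 := fun u e => u.ne_zero (Subtype.ext e)
  have hd : ∀ u, (C u).det = 1 := fun u => by
    show (Matrix.diagonal _).det = 1
    rw [Matrix.det_diagonal, Fin.prod_univ_two]
    simp [hne u]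
  have hu : ∀ u a b, gk q (C u *ᵥ a) (C u *ᵥ b) = gk q a b := fun u a b => by
    have hs : ((u : fixedField hF) : F) ^ q = ((u : fixedField hF) : F) := (u : fixedField hF).2
    have := hne u
    show gk q (Matrix.diagonal _ *ᵥ a) (Matrix.diagonal _ *ᵥ b) = _
    simp [gk, Fin.sum_univ_two, Matrix.mulVec_diagonal, Fin.rev, mul_pow, inv_pow, hs]
    field_simp
  let u : (fixedField hF)ˣ := Units.mk0 ⟨k, hk⟩ fun e => hk0 (congrArg Subtype.val e)
  have hact : ∀ x, suAct (embHom hF B C hd hu u) x =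
      x + ((k - 1) * Cfsg.hermForm n F q x P.f) • P.e + ((k⁻¹ - 1) * Cfsg.hermForm n F q x P.e) • P.f := by
    intro x
    rw [suAct_embHom hF B C hd hu u x, add_assoc]
    congr 1
    show comb B ((Matrix.diagonal ![k, k⁻¹] - 1) *ᵥ crd B x) = _
    rw [Matrix.sub_mulVec, Matrix.one_mulVec, comb, Fin.sum_univ_two]
    simp [B, crd, Fin.rev, sub_mul]
  set g := embHom hF B C hd hu u
  have he : suAct g P.e = k • P.e := by rw [hact, P.ef, P.ee]; module
  have hf : suAct g P.f = k⁻¹ • P.f := by rw [hact, P.fe hF, P.ff]; module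
  have hio : ∀ w, suAct g (P.io w) = P.io w := fun w => by rw [hact, P.io_e, P.io_f]; module
  refine ⟨g, he, hio, hf, fun A => P.ext_split (fun w => ?_) ?_ ?_⟩
  · rw [suAct_mul, suAct_mul, P.L_io, hio, hio, P.L_io]
  · rw [suAct_mul, suAct_mul, P.L_e, he, suAct_smul, P.L_e]
  · rw [suAct_mul, suAct_mul, P.L_f, hf, suAct_smul, P.L_f]

omit hF in
/-- The coordinate of an element of the radical. -/
def wp (g : Cfsg.SU n F q) : Fin r → F := -P.pr (suAct g P.f)

theorem wp_qel {w : Fin r → F} {c : F} (h : c + c ^ q = -Cfsg.hermForm r F q w w) : P.wp (P.qel hF h) = w := by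
  rw [wp, P.suAct_qel_f hF, map_sub, map_add, map_smul, P.pr_f, P.pr_e, P.pr_io]; simp

theorem wp_mul {g g' : Cfsg.SU n F q} (hg : g ∈ P.Qe hF) (hg' : g' ∈ P.Qe hF) :
    P.wp (g * g') = P.wp g + P.wp g' := by
  obtain ⟨w, c, h, rfl⟩ := P.exists_qel hF hg
  obtain ⟨w', c', h', rfl⟩ := P.exists_qel hF hg'
  rw [P.qel_mul hF h h', P.wp_qel hF, P.wp_qel hF, P.wp_qel hF]

theorem wp_one : P.wp 1 = 0 := by rw [wp, suAct_one, P.pr_f, neg_zero]

theorem wp_inv {g : Cfsg.SU n F q} (hg : g ∈ P.Qe hF) : P.wp g⁻¹ = -P.wp g := by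
  have := P.wp_mul hF hg (inv_mem hg)
  rw [mul_inv_cancel, P.wp_one hF] at this
  exact eq_neg_of_add_eq_zero_right this.symm

theorem qel_eq_one (h : (0 : F) + 0 ^ q = -Cfsg.hermForm r F q 0 0) : P.qel hF h = 1 :=
  suAct_ext fun x => by
    rw [qel, suAct_eich, suAct_one, map_zero, (hermForm_isHerm hF n).zero_right hF]; simp

theorem wp_conj {g x : Cfsg.SU n F q} {κ : F} {B : (Fin r → F) → (Fin r → F)} (he : suAct g P.e = κ • P.e)
    (hB : ∀ w, suAct g (P.io w) = P.io (B w)) (hx : x ∈ P.Qe hF) :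
    g * x * g⁻¹ ∈ P.Qe hF ∧ P.wp (g * x * g⁻¹) = κ ^ q • B (P.wp x) := by
  obtain ⟨w, c, h, rfl⟩ := P.exists_qel hF hx
  obtain ⟨h', e⟩ := P.qel_conj hF he hB h
  rw [e, P.wp_qel hF, P.wp_qel hF]
  exact ⟨P.qel_mem hF h', rfl⟩

theorem wp_L_conj (A : Cfsg.SU r F q) {x : Cfsg.SU n F q} (hx : x ∈ P.Qe hF) :
    P.L A * x * (P.L A)⁻¹ ∈ P.Qe hF ∧ P.wp (P.L A * x * (P.L A)⁻¹) = suAct A (P.wp x) := by
  obtain ⟨h1, h2⟩ := P.wp_conj hF (g := P.L A) (κ := 1) (B := suAct A) (by rw [P.L_e, one_smul]) (P.L_io A) hx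
  exact ⟨h1, by rw [h2, one_pow, one_smul]⟩

/-- The root group. -/
def Ze : Subgroup (Cfsg.SU n F q) where
  carrier := {g | g ∈ P.Qe hF ∧ P.wp g = 0}
  one_mem' := ⟨one_mem _, P.wp_one hF⟩
  mul_mem' := fun ha hb => ⟨mul_mem ha.1 hb.1, by rw [P.wp_mul hF ha.1 hb.1, ha.2, hb.2, add_zero]⟩
  inv_mem' := fun ha => ⟨inv_mem ha.1, by rw [P.wp_inv hF ha.1, ha.2, neg_zero]⟩

theorem exists_Ze {g : Cfsg.SU n F q} (hg : g ∈ P.Ze hF) :
    ∃ (c : F) (h : c + c ^ q = -Cfsg.hermForm r F q 0 0), g = P.qel hF h := by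
  obtain ⟨hQ, hw⟩ := hg
  obtain ⟨w, c, h, rfl⟩ := P.exists_qel hF hQ
  rw [P.wp_qel hF] at hw
  subst hw
  exact ⟨c, h, rfl⟩

theorem commute_Ze {g x : Cfsg.SU n F q} (hg : g ∈ P.Ze hF) (hx : x ∈ P.Qe hF) : Commute g x := by
  obtain ⟨c, h, rfl⟩ := P.exists_Ze hF hg
  obtain ⟨w, c', h', rfl⟩ := P.exists_qel hF hx
  obtain ⟨h0, e⟩ := P.qel_bracket hF h h'
  refine commutatorElement_eq_one_iff_commute.1 (e.trans ?_)
  have H := hermForm_isHerm hF r
  have hz : (0 : F) + 0 ^ q = -Cfsg.hermForm r F q 0 0 := by rw [zero_pow_q hF, H.zero_left]; simp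
  rw [P.qel_congr hF h0 hz rfl (by rw [H.zero_left, H.zero_right hF, sub_zero]), P.qel_eq_one hF]

theorem commute_L_Ze (A : Cfsg.SU r F q) {g : Cfsg.SU n F q} (hg : g ∈ P.Ze hF) : Commute (P.L A) g := by
  obtain ⟨c, h, rfl⟩ := P.exists_Ze hF hg
  obtain ⟨h', e⟩ := P.L_conj hF A h
  rw [P.qel_congr hF h' h (suAct_zero A) rfl] at e
  exact mul_inv_eq_iff_eq_mul.1 e

theorem exists_qel_bracket {g : Cfsg.SU n F q} {x y : Cfsg.SU n F q} (hx : x ∈ P.Qe hF) (hy : y ∈ P.Qe hF)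
    (hg : g = ⁅x, y⁆) : ∃ h, g = P.qel hF (w := 0)
      (c := Cfsg.hermForm r F q (P.wp x) (P.wp y) - Cfsg.hermForm r F q (P.wp y) (P.wp x)) h := by
  obtain ⟨w, c, h, rfl⟩ := P.exists_qel hF hx
  obtain ⟨w', c', h', rfl⟩ := P.exists_qel hF hy
  rw [P.wp_qel hF, P.wp_qel hF]
  obtain ⟨h0, e⟩ := P.qel_bracket hF h h'
  exact ⟨h0, hg.trans e⟩

theorem bracket_mem_Ze {x y : Cfsg.SU n F q} (hx : x ∈ P.Qe hF) (hy : y ∈ P.Qe hF) : ⁅x, y⁆ ∈ P.Ze hF := by
  obtain ⟨h, e⟩ := P.exists_qel_bracket hF hx hy rfl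
  rw [e]
  exact ⟨P.qel_mem hF h, P.wp_qel hF h⟩

theorem exists_wp (w : Fin r → F) : ∃ x ∈ P.Qe hF, P.wp x = w := by
  obtain ⟨c, hc⟩ := exists_trace_eq hF (c := -Cfsg.hermForm r F q w w)
    (by rw [neg_pow_q hF, (hermForm_isHerm hF r).self_fixed])
  exact ⟨_, P.qel_mem hF hc, P.wp_qel hF hc⟩

/-- Commutators cover the root group. -/
theorem exists_bracket (hr : 1 ≤ r) {g : Cfsg.SU n F q} (hg : g ∈ P.Ze hF) :
    ∃ u w : Fin r → F, ∀ x ∈ P.Qe hF, ∀ y ∈ P.Qe hF, P.wp x = u → P.wp y = w → ⁅x, y⁆ = g := by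
  obtain ⟨c, hc, rfl⟩ := P.exists_Ze hF hg
  have H := hermForm_isHerm hF r
  obtain ⟨t, ht⟩ := exists_trace_eq hF (c := (1 : F)) (one_pow q)
  have hc' : c ^ q = -c := by
    have h2 := hc
    rw [H.zero_left, neg_zero] at h2
    linear_combination h2
  refine ⟨(c * t) • Pi.single ⟨0, hr⟩ 1, Pi.single ⟨0, hr⟩ 1, fun x hx y hy ex ey => ?_⟩
  obtain ⟨h, e⟩ := P.exists_qel_bracket hF hx hy rfl
  refine e.trans (P.qel_congr hF h hc rfl ?_)
  rw [ex, ey, H.smul_left, H.smul_right, (single_orthonormal hF r).1, mul_pow, hc']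
  linear_combination c * ht

end Pt

section Ext

variable {Γ : Type u} [Group Γ] {π : Γ →* Cfsg.SU n F q} {p : ℕ} [Fact p.Prime] [CharP F p]
  (P : Pt q n r F) (hc : π.ker ≤ Subgroup.center Γ) (hs : Function.Surjective π) (hp : IsPGroup p π.ker)

theorem conj_mem_Ze {g : Γ} {κ : F} {B : (Fin r → F) → (Fin r → F)} (he : suAct (π g) P.e = κ • P.e)
    (hB : ∀ w, suAct (π g) (P.io w) = P.io (B w)) (hB0 : B 0 = 0) {a : Γ} (ha : a ∈ (P.Ze hF).comap π) :
    g * a * g⁻¹ ∈ (P.Ze hF).comap π := by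
  show π _ ∈ P.Ze hF
  obtain ⟨h1, h2⟩ := P.wp_conj hF he hB (Subgroup.mem_comap.1 ha).1
  rw [map_mul, map_mul, map_inv]
  refine ⟨h1, ?_⟩
  rw [h2, (Subgroup.mem_comap.1 ha).2, hB0, smul_zero]

include hc hs

/-- Lifts of transvections centralise the lifted root group. -/
theorem commute_te_lift (hr : 3 ≤ r ∨ (r = 2 ∧ 4 ≤ q)) {v : Fin r → F} (hv : Cfsg.hermForm r F q v v = 0)
    {d : F} (hd : d ^ q = -d) {T : Γ} (hT : π T = P.L (te hF hv hd)) :
    ∀ a ∈ (P.Ze hF).comap π, Commute T a := by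
  intro a ha
  rcases hr with hr | ⟨rfl, hq⟩
  · refine (commute_of_derived hc hs (K := P.L.range) ?_ ?_).symm
    · rintro _ ⟨A, rfl⟩; exact (P.commute_L_Ze hF A ha).symm
    · obtain ⟨A, B, e⟩ := te_mem_commutator hF hr hv hd
      rw [hT, ← e, map_commutatorElement]
      exact Subgroup.commutator_mem_commutator ⟨A, rfl⟩ ⟨B, rfl⟩
  · obtain ⟨θ, hθ⟩ := IsCyclic.exists_generator (α := (fixedField hF)ˣ)
    have hcardK : Nat.card (fixedField hF)ˣ = q - 1 := by rw [Nat.card_units, card_fixedField]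
    set k : F := ((θ : fixedField hF) : F) with hkdef
    have hk : k ^ q = k := (θ : fixedField hF).2
    have hk0 : k ≠ 0 := fun e => θ.ne_zero (Subtype.ext e)
    have hk2 : k * k ≠ 1 := by
      intro e
      have h2 : θ ^ 2 = 1 := Units.ext (Subtype.ext (by simpa [sq] using e))
      have := Nat.le_of_dvd (by norm_num) (orderOf_dvd_of_pow_eq_one h2)
      rw [orderOf_eq_card_of_forall_mem_zpowers hθ, hcardK] at this
      omega
    obtain ⟨g₀, hge, hgio, -, hgL⟩ := P.exists_tor hF hk hk0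
    obtain ⟨g, rfl⟩ := hs g₀
    have hbr : ∀ b ∈ (P.Ze hF).comap π, π ⁅T, b⁆ = 1 := fun b hb => by
      rw [map_eq_one_iff_bracket, hT]; exact P.commute_L_Ze hF _ hb
    obtain ⟨c, hc0, ec⟩ := P.exists_Ze hF (Subgroup.mem_comap.1 ha)
    have hk21 : k * k - 1 ≠ 0 := sub_ne_zero.2 hk2
    have H := hermForm_isHerm hF 2
    have hc1 : c / (k * k - 1) + (c / (k * k - 1)) ^ q = -Cfsg.hermForm 2 F q 0 0 := by
      have h2 := hc0
      rw [H.zero_left, neg_zero] at h2 ⊢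
      rw [div_pow, sub_pow_q hF, mul_pow, hk, one_pow, ← add_div, h2, zero_div]
    obtain ⟨b, hb⟩ := hs (P.qel hF hc1)
    have hbA : b ∈ (P.Ze hF).comap π := by
      show π b ∈ P.Ze hF
      rw [hb]; exact ⟨P.qel_mem hF hc1, P.wp_qel hF hc1⟩
    have e1 : π (g * b * g⁻¹) = π (a * b) := by
      obtain ⟨h', e⟩ := P.qel_conj hF (B := id) hge hgio hc1
      rw [map_mul, map_mul, map_inv, map_mul, hb, e, ec, P.qel_mul hF hc0 hc1]
      refine P.qel_congr hF h' (Pt.ok_add' hF hc0 hc1) (by simp) ?_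
      rw [H.zero_left, sub_zero, pow_succ, hk]
      linear_combination div_mul_cancel₀ c hk21
    have e2 : ⁅T, g * b * g⁻¹⁆ = ⁅T, b⁆ := by
      have h1 : g * T * g⁻¹ = T * (T⁻¹ * (g * T * g⁻¹)) := by group
      have hk1 : π (T⁻¹ * (g * T * g⁻¹)) = 1 := by
        rw [map_mul, map_mul, map_mul, map_inv, map_inv, hT, (hgL _).eq, mul_inv_cancel_right, inv_mul_cancel]
      calc ⁅T, g * b * g⁻¹⁆ = ⁅g * T * g⁻¹, g * b * g⁻¹⁆ :=
            TwistMult.bracket_congr hc (by rw [h1, map_mul, hk1, mul_one]) rfl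
        _ = g * ⁅T, b⁆ * g⁻¹ := by simp only [commutatorElement_def]; group
        _ = _ := by rw [(ker_commute hc (hbr b hbA) g).eq, mul_inv_cancel_right]
    rw [TwistMult.bracket_congr hc rfl e1] at e2
    rw [show ⁅T, a * b⁆ = ⁅T, a⁆ * (a * ⁅T, b⁆ * a⁻¹) by simp only [commutatorElement_def]; group,
      (ker_commute hc (hbr b hbA) a).eq, mul_inv_cancel_right, mul_eq_right] at e2
    exact commutatorElement_eq_one_iff_commute.1 e2

/-- The root group is central in the preimage of the radical. -/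
theorem cpair_pt (hr : 3 ≤ r ∨ (r = 2 ∧ 4 ≤ q)) : CPair ((P.Qe hF).comap π) ((P.Ze hF).comap π) := by
  have hr2 : 2 ≤ r := by omega
  refine ⟨fun x hx => (Subgroup.mem_comap.1 hx).1, fun a ha => ?_, fun x hx y hy => ?_⟩
  swap
  · show π _ ∈ P.Ze hF
    rw [map_commutatorElement]
    exact P.bracket_mem_Ze hF hx hy
  set C : Subgroup Γ := Subgroup.centralizer {a} ⊓ (P.Qe hF).comap π
  have hmem : ∀ x, x ∈ C → Commute x a := fun x hx => Subgroup.mem_centralizer_singleton_iff.1 hx.1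
  have H := hermForm_isHerm hF r
  let U : AddSubgroup (Fin r → F) :=
    { carrier := {w | ∃ x ∈ C, P.wp (π x) = w}
      zero_mem' := ⟨1, one_mem _, by rw [map_one, P.wp_one hF]⟩
      add_mem' := by
        rintro _ _ ⟨x, hx, rfl⟩ ⟨y, hy, rfl⟩
        exact ⟨x * y, mul_mem hx hy, by rw [map_mul, P.wp_mul hF hx.2 hy.2]⟩
      neg_mem' := by
        rintro _ ⟨x, hx, rfl⟩
        exact ⟨x⁻¹, inv_mem hx, by rw [map_inv, P.wp_inv hF hx.2]⟩ }
  have hiso : ∀ v, Cfsg.hermForm r F q v v = 0 → v ∈ U := by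
    intro v hv
    rcases eq_or_ne v 0 with rfl | hv0
    · exact zero_mem _
    obtain ⟨d, hd0, hd⟩ := exists_skew hF
    obtain ⟨T, hT⟩ := hs (P.L (te hF hv hd))
    have hTa := commute_te_lift hF P hc hs hr hv hd hT a ha
    obtain ⟨y, hy⟩ := not_forall.1 (mt (hermForm_nondeg hF r v) hv0)
    have hy' : Cfsg.hermForm r F q y v ≠ 0 := fun e => hy ((H.eq_zero_symm hF).1 e)
    obtain ⟨x₀, hx₀, hxw⟩ := P.exists_wp hF ((d * Cfsg.hermForm r F q y v)⁻¹ • y)
    obtain ⟨x, rfl⟩ := hs x₀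
    have hk : π ⁅x, a⁆ = 1 := (map_eq_one_iff_bracket x a).2 (P.commute_Ze hF ha hx₀).symm
    obtain ⟨hTQ, hTw⟩ := P.wp_L_conj hF (te hF hv hd) hx₀
    have hTa' : T * a * T⁻¹ = a := by rw [hTa.eq, mul_inv_cancel_right]
    have e : T * x * T⁻¹ * a * (T * x * T⁻¹)⁻¹ = x * a * x⁻¹ := by
      rw [show T * x * T⁻¹ * a * (T * x * T⁻¹)⁻¹ = T * (x * (T⁻¹ * a * T) * x⁻¹) * T⁻¹ by group,
        show T⁻¹ * a * T = a by rw [mul_assoc, ← hTa.eq, inv_mul_cancel_left],
        show x * a * x⁻¹ = ⁅x, a⁆ * a by simp only [commutatorElement_def]; group,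
        show T * (⁅x, a⁆ * a) * T⁻¹ = T * ⁅x, a⁆ * T⁻¹ * (T * a * T⁻¹) by group, hTa',
        (ker_commute hc hk T).eq, mul_inv_cancel_right]
    refine ⟨x⁻¹ * (T * x * T⁻¹), ⟨Subgroup.mem_centralizer_singleton_iff.2 ?_, ?_⟩, ?_⟩
    · calc x⁻¹ * (T * x * T⁻¹) * a = x⁻¹ * (T * x * T⁻¹ * a * (T * x * T⁻¹)⁻¹) * (T * x * T⁻¹) := by group
        _ = _ := by rw [e]; group
    · show π _ ∈ P.Qe hF
      rw [map_mul, map_mul, map_mul, map_inv, map_inv, hT]
      exact mul_mem (inv_mem hx₀) hTQ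
    · rw [map_mul, map_mul, map_mul, map_inv, map_inv, hT, P.wp_mul hF (inv_mem hx₀) hTQ, P.wp_inv hF hx₀,
        hTw, hxw, suAct_transEich, neg_add_cancel_left, H.smul_left, ← mul_assoc, mul_comm d, mul_assoc,
        inv_mul_cancel₀ (mul_ne_zero hd0 hy'), one_smul]
  obtain ⟨v0, v1, h00, h11, h01⟩ := exists_pair hF hr2
  have hall : ∀ w, w ∈ U := fun w => by
    obtain ⟨w1, w2, w3, rfl, e1, e2, e3⟩ := iso_sum hF h00 h11 h01 w
    exact add_mem (add_mem (hiso _ e1) (hiso _ e2)) (hiso _ e3)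
  intro g hg
  obtain ⟨x, hx, hxw⟩ := hall (P.wp (π g))
  have hr' : π (x⁻¹ * g) ∈ P.Ze hF := by
    rw [map_mul, map_inv]
    exact ⟨mul_mem (inv_mem hx.2) hg, by rw [P.wp_mul hF (inv_mem hx.2) hg, P.wp_inv hF hx.2, hxw, neg_add_cancel]⟩
  obtain ⟨u, w, hcov⟩ := P.exists_bracket hF (by omega) hr'
  obtain ⟨x1, h1, h1w⟩ := hall u
  obtain ⟨x2, h2, h2w⟩ := hall w
  have e : π ⁅x1, x2⁆ = π (x⁻¹ * g) := by
    rw [map_commutatorElement]; exact hcov _ h1.2 _ h2.2 h1w h2w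
  have hbr : Commute ⁅x1, x2⁆ a := by
    have : ⁅x1, x2⁆ ∈ C := by
      rw [commutatorElement_def]; exact mul_mem (mul_mem (mul_mem h1 h2) (inv_mem h1)) (inv_mem h2)
    exact hmem _ this
  have hrest : Commute (⁅x1, x2⁆⁻¹ * (x⁻¹ * g)) a :=
    (ker_commute hc (by rw [map_mul, map_inv, e, inv_mul_cancel]) a).symm
  have := (hmem _ hx).mul_left (hbr.mul_left hrest)
  rw [mul_inv_cancel_left, mul_inv_cancel_left] at this
  exact this.symm

/-- The commutators as an invariant pairing, through a map of the root group. -/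
theorem exists_pairing (hr : 3 ≤ r ∨ (r = 2 ∧ 4 ≤ q)) (hP : CPair ((P.Qe hF).comap π) ((P.Ze hF).comap π))
    {G : Type*} [AddCommGroup G] (ψ : (P.Ze hF).comap π →* Multiplicative G) :
    ∃ γ : (Fin r → F) → (Fin r → F) → G, Inv q r F γ ∧
      (∀ x (hx : x ∈ (P.Qe hF).comap π) y (hy : y ∈ (P.Qe hF).comap π),
        ψ ⟨⁅x, y⁆, hP.br x hx y hy⟩ = Multiplicative.ofAdd (γ (P.wp (π x)) (P.wp (π y)))) ∧
      ∀ (g : Γ) (κ : F), suAct (π g) P.e = κ • P.e → (∀ w, suAct (π g) (P.io w) = P.io w) →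
        (∀ a a' : (P.Ze hF).comap π, (a' : Γ) = g * a * g⁻¹ → ψ a' = ψ a) →
        ∀ u w, γ (κ ^ q • u) (κ ^ q • w) = γ u w := by
  classical
  have hl : ∀ w : Fin r → F, ∃ x ∈ (P.Qe hF).comap π, P.wp (π x) = w := fun w => by
    obtain ⟨x₀, hx₀, hw⟩ := P.exists_wp hF w
    obtain ⟨x, rfl⟩ := hs x₀
    exact ⟨x, hx₀, hw⟩
  choose L hL hLw using hl
  let Bf : (Fin r → F) → (Fin r → F) → (P.Ze hF).comap π := fun u w =>
    ⟨⁅L u, L w⁆, hP.br _ (hL u) _ (hL w)⟩
  let γ : (Fin r → F) → (Fin r → F) → G := fun u w => Multiplicative.toAdd (ψ (Bf u w))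
  have hrel : ∀ {w : Fin r → F} {x : Γ}, x ∈ (P.Qe hF).comap π → P.wp (π x) = w →
      (L w)⁻¹ * x ∈ (P.Ze hF).comap π := fun {w x} hx e => by
    show π _ ∈ P.Ze hF
    rw [map_mul, map_inv]
    exact ⟨mul_mem (inv_mem (hL w)) hx,
      by rw [P.wp_mul hF (inv_mem (hL w)) hx, P.wp_inv hF (hL w), hLw, e, neg_add_cancel]⟩
  have hgen : ∀ x (hx : x ∈ (P.Qe hF).comap π) y (hy : y ∈ (P.Qe hF).comap π),
      (⟨⁅x, y⁆, hP.br x hx y hy⟩ : (P.Ze hF).comap π) = Bf (P.wp (π x)) (P.wp (π y)) := fun x hx y hy =>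
    Subtype.ext (hP.congr (hL _) (hL _) hy (hrel hx rfl) (hrel hy rfl))
  have hconj : ∀ (g : Γ) (u w u' w' : Fin r → F),
      g * L u * g⁻¹ ∈ (P.Qe hF).comap π → g * L w * g⁻¹ ∈ (P.Qe hF).comap π →
      P.wp (π (g * L u * g⁻¹)) = u' → P.wp (π (g * L w * g⁻¹)) = w' →
      (Bf u' w' : Γ) = g * (Bf u w : Γ) * g⁻¹ := fun g u w u' w' hu hw eu ew => by
    show ⁅L u', L w'⁆ = g * ⁅L u, L w⁆ * g⁻¹
    rw [show g * ⁅L u, L w⁆ * g⁻¹ = ⁅g * L u * g⁻¹, g * L w * g⁻¹⁆ by simp only [commutatorElement_def]; group]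
    exact (hP.congr (hL u') (hL w') hw (hrel hu eu) (hrel hw ew)).symm
  refine ⟨γ, ⟨fun x x' y => ?_, fun x y y' => ?_, fun x => ?_, fun v d hv hd x y => ?_⟩,
    fun x hx y hy => ?_, fun g κ he hio hψ u w => ?_⟩
  · show Multiplicative.toAdd (ψ (Bf (x + x') y)) = _
    rw [show Bf (x + x') y = Bf x y * Bf x' y from ?_, map_mul, toAdd_mul]
    refine Subtype.ext ?_
    show ⁅L (x + x'), L y⁆ = ⁅L x, L y⁆ * ⁅L x', L y⁆
    rw [← hP.mul_left (hL x) (hL x') (hL y)]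
    refine (hP.congr (hL (x + x')) (hL y) (hL y) (hrel (mul_mem (hL x) (hL x')) ?_) ?_).symm
    · rw [map_mul, P.wp_mul hF (hL x) (hL x'), hLw, hLw]
    · rw [inv_mul_cancel]; exact one_mem _
  · show Multiplicative.toAdd (ψ (Bf x (y + y'))) = _
    rw [show Bf x (y + y') = Bf x y * Bf x y' from ?_, map_mul, toAdd_mul]
    refine Subtype.ext ?_
    show ⁅L x, L (y + y')⁆ = ⁅L x, L y⁆ * ⁅L x, L y'⁆
    rw [← hP.mul_right (hL x) (hL y) (hL y')]
    refine (hP.congr (hL x) (hL (y + y')) (mul_mem (hL y) (hL y')) ?_ (hrel (mul_mem (hL y) (hL y')) ?_)).symm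
    · rw [inv_mul_cancel]; exact one_mem _
    · rw [map_mul, P.wp_mul hF (hL y) (hL y'), hLw, hLw]
  · show Multiplicative.toAdd (ψ (Bf x x)) = 0
    rw [show Bf x x = 1 from Subtype.ext (commutatorElement_self _), map_one, toAdd_one]
  · obtain ⟨T, hT⟩ := hs (P.L (te hF hv hd))
    have hQ : ∀ z, π (T * L z * T⁻¹) ∈ P.Qe hF ∧
        P.wp (π (T * L z * T⁻¹)) = z + (d * Cfsg.hermForm r F q z v) • v := fun z => by
      obtain ⟨h1, h2⟩ := P.wp_L_conj hF (te hF hv hd) (hL z)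
      rw [map_mul, map_mul, map_inv, hT]
      exact ⟨h1, by rw [h2, hLw, suAct_transEich]⟩
    have e := hconj T x y _ _ (hQ x).1 (hQ y).1 (hQ x).2 (hQ y).2
    rw [(commute_te_lift hF P hc hs hr hv hd hT _ (Bf x y).2).eq, mul_inv_cancel_right] at e
    exact congrArg (fun a => Multiplicative.toAdd (ψ a)) (Subtype.ext e)
  · rw [hgen x hx y hy, ofAdd_toAdd]
  · have hQ : ∀ z, π (g * L z * g⁻¹) ∈ P.Qe hF ∧ P.wp (π (g * L z * g⁻¹)) = κ ^ q • z := fun z => by
      obtain ⟨h1, h2⟩ := P.wp_conj hF (B := id) he hio (hL z)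
      rw [map_mul, map_mul, map_inv]
      exact ⟨h1, by rw [h2, hLw, id]⟩
    have e := hconj g u w _ _ (hQ u).1 (hQ w).1 (hQ u).2 (hQ w).2
    exact congrArg Multiplicative.toAdd (hψ (Bf u w) _ e)

/-- The derived group of the preimage of the radical meets the kernel trivially. -/
theorem bracket_le_pt (hr : 3 ≤ r ∨ (r = 2 ∧ 4 ≤ q)) :
    ∀ z ∈ ⁅(P.Qe hF).comap π, (P.Qe hF).comap π⁆, π z = 1 → z = 1 := by
  classical
  have hP := cpair_pt hF P hc hs hr
  set A := (P.Ze hF).comap π with hA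
  have hab : ∀ a ∈ A, ∀ b ∈ A, Commute a b := fun a ha b hb => hP.cent a ha b (hP.le hb)
  letI : CommGroup A :=
    { (inferInstance : Group A) with mul_comm := fun a b => Subtype.ext (hab _ a.2 _ b.2).eq }
  have H := hermForm_isHerm hF r
  rcases hr with hr | ⟨hr2, hq⟩
  · obtain ⟨γ, I, hγ, -⟩ := exists_pairing hF P hc hs (Or.inl hr) hP (G := Additive A) (MonoidHom.id A)
    obtain ⟨f, hfadd, hf0, hf⟩ := I.exists_factor hF hr
    obtain ⟨v0, v1, h00, h11, h01⟩ := exists_pair hF (by omega : 2 ≤ r)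
    let S : Subgroup Γ :=
      { carrier := {z | ∃ c : F, z = ((Additive.toMul (f c) : A) : Γ)}
        one_mem' := ⟨0, by rw [hf0 0 (zero_pow_q hF)]; rfl⟩
        mul_mem' := by
          rintro _ _ ⟨c, rfl⟩ ⟨c', rfl⟩
          exact ⟨c + c', by rw [hfadd]; rfl⟩
        inv_mem' := by
          rintro _ ⟨c, rfl⟩
          refine ⟨-c, ?_⟩
          have := hfadd c (-c)
          rw [add_neg_cancel, hf0 0 (zero_pow_q hF)] at this
          rw [eq_neg_of_add_eq_zero_right this.symm]; rfl }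
    have hle : ⁅(P.Qe hF).comap π, (P.Qe hF).comap π⁆ ≤ S := by
      rw [Subgroup.commutator_le]
      intro x hx y hy
      refine ⟨Cfsg.hermForm r F q (P.wp (π x)) (P.wp (π y)), ?_⟩
      rw [← hf]
      exact congrArg Subtype.val (hγ x hx y hy)
    intro z hz h1
    obtain ⟨c, rfl⟩ := hle hz
    rw [hf0 c ?_]
    · rfl
    obtain ⟨x₀, hx₀, ex⟩ := P.exists_wp hF (c • v0)
    obtain ⟨y₀, hy₀, ey⟩ := P.exists_wp hF v1
    obtain ⟨x, rfl⟩ := hs x₀
    obtain ⟨y, rfl⟩ := hs y₀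
    have e := congrArg Subtype.val (hγ x hx₀ y hy₀)
    rw [hf, ex, ey, H.smul_left, h01, mul_one] at e
    change ⁅x, y⁆ = ((Additive.toMul (f c) : A) : Γ) at e
    rw [← e, map_commutatorElement] at h1
    obtain ⟨h0, e0⟩ := P.exists_qel_bracket hF hx₀ hy₀ rfl
    have hz0 : (0 : F) + 0 ^ q = -Cfsg.hermForm r F q 0 0 := by rw [zero_pow_q hF, H.zero_left]; simp
    have := (P.qel_inj hF h0 hz0 (e0.symm.trans (h1.trans (P.qel_eq_one hF hz0).symm))).2
    rw [ex, ey, H.smul_left, H.smul_right, h01, pair_symm hF h00 h11 h01, sub_eq_zero, mul_one, mul_one] at this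
    exact this.symm
  · subst hr2
    obtain ⟨θ, hθ⟩ := IsCyclic.exists_generator (α := (fixedField hF)ˣ)
    have hcardK : Nat.card (fixedField hF)ˣ = q - 1 := by rw [Nat.card_units, card_fixedField]
    set k : F := ((θ : fixedField hF) : F) with hkdef
    have hk : k ^ q = k := (θ : fixedField hF).2
    have hk0 : k ≠ 0 := fun e => θ.ne_zero (Subtype.ext e)
    have hk2 : k * k ≠ 1 := by
      intro e
      have h2 : θ ^ 2 = 1 := Units.ext (Subtype.ext (by simpa [sq] using e))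
      have := Nat.le_of_dvd (by norm_num) (orderOf_dvd_of_pow_eq_one h2)
      rw [orderOf_eq_card_of_forall_mem_zpowers hθ, hcardK] at this
      omega
    have hk21 : k * k - 1 ≠ 0 := sub_ne_zero.2 hk2
    obtain ⟨g₀, hge, hgio, -, -⟩ := P.exists_tor hF hk hk0
    obtain ⟨g, rfl⟩ := hs g₀
    have hgA : ∀ a ∈ A, g * a * g⁻¹ ∈ A := fun a ha => conj_mem_Ze hF P (B := id) hge hgio rfl ha
    have hgA' : ∀ a ∈ A, ⁅g, a⁆ ∈ A := fun a ha => by
      rw [commutatorElement_def]; exact mul_mem (hgA a ha) (inv_mem ha)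
    set C := brSub g A hab hgA'
    have hC1 : ∀ w ∈ C, π w = 1 → w = 1 := by
      rintro _ ⟨a, ha, rfl⟩ h1
      obtain ⟨c, hc0, ec⟩ := P.exists_Ze hF (Subgroup.mem_comap.1 ha)
      obtain ⟨h', e⟩ := P.qel_conj hF (B := id) hge hgio hc0
      have h2 : π g * π a * (π g)⁻¹ = π a := by
        rw [commutatorElement_def, map_mul, map_mul, map_mul, map_inv, map_inv] at h1
        exact mul_inv_eq_one.1 h1
      rw [ec, e] at h2
      have h3 := (P.qel_inj hF h' hc0 h2).2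
      rw [pow_succ, hk] at h3
      have hc00 : c = 0 := by
        have : c * (k * k - 1) = 0 := by linear_combination h3
        exact (mul_eq_zero.1 this).resolve_right hk21
      subst hc00
      rw [P.qel_eq_one hF] at ec
      exact commutatorElement_eq_one_iff_commute.2 (ker_commute hc ec g)
    obtain ⟨γ, I, hγ, hscale⟩ := exists_pairing hF P hc hs (Or.inr ⟨rfl, hq⟩) hP
      (G := Additive (A ⧸ C.subgroupOf A)) (QuotientGroup.mk' (C.subgroupOf A))
    have h0 := I.eq_zero_two hF rfl hk hk2 fun x y => by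
      have := hscale g k hge hgio (fun a a' e => ?_) x y
      · rwa [hk] at this
      · refine (QuotientGroup.eq.2 ?_).symm
        show (a : Γ)⁻¹ * (a' : Γ) ∈ C
        rw [e, show g * (a : Γ) * g⁻¹ = ⁅g, (a : Γ)⁆ * a by simp only [commutatorElement_def]; group,
          (hab _ (hgA' a a.2) _ a.2).eq, inv_mul_cancel_left]
        exact ⟨a, a.2, rfl⟩
    intro z hz h1
    refine hC1 z ?_ h1
    refine (Subgroup.commutator_le.2 fun x hx y hy => ?_) hz
    have := hγ x hx y hy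
    rw [h0] at this
    exact (QuotientGroup.eq_one_iff (N := C.subgroupOf A) _).1 this

end Ext

end Cfsg.Agent.SUMult
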