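/-
A complement of the kernel in the preimage of the radical, normalised by the complement group.

* `rad`: the derived group and the commutators with one element; `rad_conj`.
* `rad_inj`, `rad_cover`: for an element without fixed points on the complement.
* `exists_rad`: such a complement invariant under the whole point stabiliser.
* `mem_bracket_L`: the descent to the complement group.
-/
import Cfsg.Agent.Lib.SUMult.PtPairing
import Cfsg.Agent.Lib.Unitary.Generation

set_option autoImplicit false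
set_option linter.unusedSectionVars false
set_option linter.style.haveILetI false

open Matrix
open scoped commutatorElement

namespace Cfsg.Agent.SUMult

open Cfsg.Agent.Unitary Cfsg.Agent.UFus Cfsg.Agent.UnitaryBN

universe u v

section Rad

variable {Γ : Type u} [Group Γ] {M : Type v} [Group M] {π : Γ →* M} (hc : π.ker ≤ Subgroup.center Γ)
  {Q A : Subgroup Γ} (hP : CPair Q A)

/-- The derived group and the commutators with `g`. -/
def rad (Q : Subgroup Γ) (g : Γ) : Subgroup Γ := ⁅Q, Q⁆ ⊔ Subgroup.closure {w | ∃ y ∈ Q, w = ⁅g, y⁆}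

theorem commutator_le_rad (g : Γ) : ⁅Q, Q⁆ ≤ rad Q g := le_sup_left

theorem bracket_mem_rad (g : Γ) {y : Γ} (hy : y ∈ Q) : ⁅g, y⁆ ∈ rad Q g :=
  le_sup_right (a := ⁅Q, Q⁆) (Subgroup.subset_closure ⟨y, hy, rfl⟩)

theorem rad_le {g : Γ} (hg : ∀ y ∈ Q, g * y * g⁻¹ ∈ Q) : rad Q g ≤ Q := by
  refine sup_le (Subgroup.commutator_le.2 fun a ha b hb => ?_) ((Subgroup.closure_le Q).2 ?_)
  · rw [commutatorElement_def]; exact mul_mem (mul_mem (mul_mem ha hb) (inv_mem ha)) (inv_mem hb)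
  · rintro _ ⟨y, hy, rfl⟩
    rw [SetLike.mem_coe, commutatorElement_def]
    exact mul_mem (hg y hy) (inv_mem hy)

include hP in
theorem mem_rad {g : Γ} (hg : ∀ y ∈ Q, g * y * g⁻¹ ∈ Q) {x : Γ} (hx : x ∈ rad Q g) :
    ∃ y ∈ Q, ∃ c ∈ ⁅Q, Q⁆, x = ⁅g, y⁆ * c := by
  have hCA : ⁅Q, Q⁆ ≤ A := Subgroup.commutator_le.2 hP.br
  have hbQ : ∀ y ∈ Q, ⁅g, y⁆ ∈ Q := fun y hy => by
    rw [commutatorElement_def]; exact mul_mem (hg y hy) (inv_mem hy)
  have hcomm : ∀ c ∈ ⁅Q, Q⁆, ∀ y ∈ Q, c * y = y * c := fun c hc y hy => (hP.cent c (hCA hc) y hy).eq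
  let S : Subgroup Γ :=
    { carrier := {x | ∃ y ∈ Q, ∃ c ∈ ⁅Q, Q⁆, x = ⁅g, y⁆ * c}
      one_mem' := ⟨1, one_mem _, 1, one_mem _, by rw [commutatorElement_one_right, mul_one]⟩
      mul_mem' := by
        rintro _ _ ⟨y, hy, c, hc, rfl⟩ ⟨y', hy', c', hc', rfl⟩
        have hd : ⁅y, ⁅g, y'⁆⁆ ∈ ⁅Q, Q⁆ := Subgroup.commutator_mem_commutator hy (hbQ y' hy')
        refine ⟨y * y', mul_mem hy hy', ⁅y, ⁅g, y'⁆⁆⁻¹ * (c * c'), mul_mem (inv_mem hd) (mul_mem hc hc'), ?_⟩
        have e : ⁅g, y * y'⁆ = ⁅g, y⁆ * (⁅y, ⁅g, y'⁆⁆ * ⁅g, y'⁆) := by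
          simp only [commutatorElement_def]; group
        rw [e, hcomm _ hd _ (hbQ y' hy')]
        calc ⁅g, y⁆ * c * (⁅g, y'⁆ * c') = ⁅g, y⁆ * (c * ⁅g, y'⁆) * c' := by group
          _ = ⁅g, y⁆ * (⁅g, y'⁆ * c) * c' := by rw [hcomm c hc _ (hbQ y' hy')]
          _ = _ := by group
      inv_mem' := by
        rintro _ ⟨y, hy, c, hc, rfl⟩
        have hd : ⁅y⁻¹, ⁅g, y⁆⁻¹⁆ ∈ ⁅Q, Q⁆ :=
          Subgroup.commutator_mem_commutator (inv_mem hy) (inv_mem (hbQ y hy))
        refine ⟨y⁻¹, inv_mem hy, ⁅y⁻¹, ⁅g, y⁆⁻¹⁆⁻¹ * c⁻¹, mul_mem (inv_mem hd) (inv_mem hc), ?_⟩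
        have e : ⁅g, y⁻¹⁆ = ⁅y⁻¹, ⁅g, y⁆⁻¹⁆ * ⁅g, y⁆⁻¹ := by simp only [commutatorElement_def]; group
        rw [e, hcomm _ hd _ (inv_mem (hbQ y hy))]
        rw [_root_.mul_inv_rev, show c⁻¹ * ⁅g, y⁆⁻¹ = ⁅g, y⁆⁻¹ * c⁻¹ from hcomm _ (inv_mem hc) _ (inv_mem (hbQ y hy))]
        group }
  have hle : rad Q g ≤ S := by
    refine sup_le (fun c hc => ⟨1, one_mem _, c, hc, by rw [commutatorElement_one_right, one_mul]⟩)
      ((Subgroup.closure_le S).2 ?_)
    rintro _ ⟨y, hy, rfl⟩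
    exact ⟨y, hy, 1, one_mem _, (mul_one _).symm⟩
  exact hle hx

include hc in
theorem rad_conj {g X : Γ} (hX : ∀ y ∈ Q, X * y * X⁻¹ ∈ Q) (hXg : Commute (π X) (π g)) {r : Γ}
    (hr : r ∈ rad Q g) : X * r * X⁻¹ ∈ rad Q g := by
  have h1 : rad Q g ≤ (rad Q g).comap (MulAut.conj X).toMonoidHom := by
    refine sup_le ?_ ((Subgroup.closure_le _).2 ?_)
    · refine Subgroup.commutator_le.2 fun a ha b hb => commutator_le_rad g ?_
      show X * ⁅a, b⁆ * X⁻¹ ∈ _
      rw [show X * ⁅a, b⁆ * X⁻¹ = ⁅X * a * X⁻¹, X * b * X⁻¹⁆ by simp only [commutatorElement_def]; group]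
      exact Subgroup.commutator_mem_commutator (hX a ha) (hX b hb)
    · rintro _ ⟨y, hy, rfl⟩
      show X * ⁅g, y⁆ * X⁻¹ ∈ rad Q g
      rw [show X * ⁅g, y⁆ * X⁻¹ = ⁅X * g * X⁻¹, X * y * X⁻¹⁆ by simp only [commutatorElement_def]; group,
        TwistMult.bracket_congr hc (show π (X * g * X⁻¹) = π g by
          rw [map_mul, map_mul, map_inv, hXg.eq, mul_inv_cancel_right]) (rfl : π (X * y * X⁻¹) = _)]
      exact bracket_mem_rad g (hX y hy)
  exact h1 hr

theorem rad_conj_Q {g : Γ} (hg : ∀ y ∈ Q, g * y * g⁻¹ ∈ Q) {y r : Γ} (hy : y ∈ Q) (hr : r ∈ rad Q g) :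
    y * r * y⁻¹ ∈ rad Q g := by
  rw [show y * r * y⁻¹ = ⁅y, r⁆ * r by simp only [commutatorElement_def]; group]
  exact mul_mem (commutator_le_rad g (Subgroup.commutator_mem_commutator hy (rad_le hg hr))) hr

end Rad

variable {F : Type v} [Field F] [Fintype F] {q n r : ℕ} (hF : Fintype.card F = q ^ 2)
include hF

section Ext

variable {Γ : Type u} [Group Γ] {π : Γ →* Cfsg.SU n F q}
  (P : Pt q n r F) (hc : π.ker ≤ Subgroup.center Γ) (hs : Function.Surjective π)

theorem conj_mem_Qh {g : Γ} {κ : F} {B : (Fin r → F) → (Fin r → F)} (he : suAct (π g) P.e = κ • P.e)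
    (hB : ∀ w, suAct (π g) (P.io w) = P.io (B w)) :
    ∀ y ∈ (P.Qe hF).comap π, g * y * g⁻¹ ∈ (P.Qe hF).comap π := fun y hy => by
  show π _ ∈ P.Qe hF
  rw [map_mul, map_mul, map_inv]
  exact (P.wp_conj hF he hB hy).1

theorem conj_mem_Qh_L {g : Γ} (hg : π g ∈ P.L.range) :
    ∀ y ∈ (P.Qe hF).comap π, g * y * g⁻¹ ∈ (P.Qe hF).comap π := by
  obtain ⟨A, hA⟩ := hg
  exact conj_mem_Qh hF P (κ := 1) (B := suAct A) (by rw [← hA, P.L_e, one_smul])
    (fun w => by rw [← hA, P.L_io])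

variable (hP : CPair ((P.Qe hF).comap π) ((P.Ze hF).comap π))
  (hbr : ∀ z ∈ ⁅(P.Qe hF).comap π, (P.Qe hF).comap π⁆, π z = 1 → z = 1)
include hs hP

theorem exists_commutator_lift (hr : 1 ≤ r) {a : Γ} (ha : a ∈ (P.Ze hF).comap π) :
    ∃ c ∈ ⁅(P.Qe hF).comap π, (P.Qe hF).comap π⁆, π c = π a := by
  obtain ⟨u, w, hcov⟩ := P.exists_bracket hF hr (Subgroup.mem_comap.1 ha)
  obtain ⟨x₀, hx₀, ex⟩ := P.exists_wp hF u
  obtain ⟨y₀, hy₀, ey⟩ := P.exists_wp hF w
  obtain ⟨x, rfl⟩ := hs x₀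
  obtain ⟨y, rfl⟩ := hs y₀
  exact ⟨⁅x, y⁆, Subgroup.commutator_mem_commutator hx₀ hy₀,
    by rw [map_commutatorElement]; exact hcov _ hx₀ _ hy₀ ex ey⟩

variable {g : Γ} {κ : F} {B : (Fin r → F) → (Fin r → F)} (he : suAct (π g) P.e = κ • P.e)
  (hB : ∀ w, suAct (π g) (P.io w) = P.io (B w)) (hfix : ∀ w, κ ^ q • B w = w → w = 0)
include he hB hfix

theorem wp_bracket {y : Γ} (hy : y ∈ (P.Qe hF).comap π) :
    P.wp (π ⁅g, y⁆) = κ ^ q • B (P.wp (π y)) - P.wp (π y) := by
  obtain ⟨h1, h2⟩ := P.wp_conj hF he hB (Subgroup.mem_comap.1 hy)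
  rw [commutatorElement_def, map_mul, map_mul, map_mul, map_inv, map_inv, P.wp_mul hF h1 (inv_mem hy), h2,
    P.wp_inv hF hy, sub_eq_add_neg]

include hc hbr in
/-- The complement meets the kernel trivially. -/
theorem rad_inj (hr : 1 ≤ r) : ∀ x ∈ rad ((P.Qe hF).comap π) g, π x = 1 → x = 1 := by
  intro x hx h1
  have hgQ := conj_mem_Qh hF P he hB
  obtain ⟨y, hy, c, hcC, rfl⟩ := mem_rad hP hgQ hx
  have hcA : π c ∈ P.Ze hF := (Subgroup.commutator_le.2 hP.br) hcC
  have hbQ : π ⁅g, y⁆ ∈ P.Qe hF := by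
    rw [commutatorElement_def, map_mul, map_inv]
    exact mul_mem (hgQ y hy) (inv_mem hy)
  have hw : P.wp (π ⁅g, y⁆) = 0 := by
    have := congrArg P.wp h1
    rwa [map_mul, P.wp_mul hF hbQ hcA.1, hcA.2, add_zero, P.wp_one hF] at this
  rw [wp_bracket hF P hs hP he hB hfix hy, sub_eq_zero] at hw
  have hyA : y ∈ (P.Ze hF).comap π := ⟨hy, hfix _ hw⟩
  obtain ⟨c', hc', e⟩ := exists_commutator_lift hF P hs hP hr hyA
  have hb : ⁅g, y⁆ ∈ ⁅(P.Qe hF).comap π, (P.Qe hF).comap π⁆ := by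
    rw [TwistMult.bracket_congr hc rfl e.symm, commutatorElement_def]
    refine mul_mem ?_ (inv_mem hc')
    have h2 : ⁅(P.Qe hF).comap π, (P.Qe hF).comap π⁆ ≤
        (⁅(P.Qe hF).comap π, (P.Qe hF).comap π⁆).comap (MulAut.conj g).toMonoidHom := by
      refine Subgroup.commutator_le.2 fun a ha b hb => ?_
      show g * ⁅a, b⁆ * g⁻¹ ∈ ⁅(P.Qe hF).comap π, (P.Qe hF).comap π⁆
      rw [show g * ⁅a, b⁆ * g⁻¹ = ⁅g * a * g⁻¹, g * b * g⁻¹⁆ by simp only [commutatorElement_def]; group]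
      exact Subgroup.commutator_mem_commutator (hgQ a ha) (hgQ b hb)
    exact h2 hc'
  exact hbr _ (mul_mem hb hcC) h1

/-- The complement covers the radical. -/
theorem rad_cover (hr : 1 ≤ r) : ∀ x ∈ P.Qe hF, ∃ y ∈ rad ((P.Qe hF).comap π) g, π y = x := by
  have hgQ := conj_mem_Qh hF P he hB
  have hl : ∀ w : Fin r → F, ∃ y ∈ (P.Qe hF).comap π, P.wp (π y) = w := fun w => by
    obtain ⟨x₀, hx₀, hw⟩ := P.exists_wp hF w
    obtain ⟨x, rfl⟩ := hs x₀
    exact ⟨x, hx₀, hw⟩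
  choose L hL hLw using hl
  let D : (Fin r → F) → (Fin r → F) := fun w => κ ^ q • B w - w
  have hBsub : ∀ u w, B (u - w) = B u - B w := fun u w => P.io_inj (by
    rw [← hB, map_sub, suAct_sub, hB, hB, map_sub])
  have hinj : Function.Injective D := fun u w e => by
    refine sub_eq_zero.1 (hfix _ ?_)
    rw [hBsub, smul_sub]
    simp only [D] at e
    linear_combination (norm := module) e
  intro x hx
  obtain ⟨w, hw⟩ := (Finite.injective_iff_surjective.1 hinj) (P.wp x)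
  have hbQ : π ⁅g, L w⁆ ∈ P.Qe hF := by
    rw [commutatorElement_def, map_mul, map_inv]
    exact mul_mem (hgQ _ (hL w)) (inv_mem (hL w))
  obtain ⟨a, ha⟩ := hs ((π ⁅g, L w⁆)⁻¹ * x)
  have haA : a ∈ (P.Ze hF).comap π := by
    show π a ∈ P.Ze hF
    rw [ha]
    refine ⟨mul_mem (inv_mem hbQ) hx, ?_⟩
    rw [P.wp_mul hF (inv_mem hbQ) hx, P.wp_inv hF hbQ, wp_bracket hF P hs hP he hB hfix (hL w), hLw, ← hw]
    exact neg_add_cancel _
  obtain ⟨c, hcC, e⟩ := exists_commutator_lift hF P hs hP hr haA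
  refine ⟨⁅g, L w⁆ * c, mul_mem (bracket_mem_rad g (hL w)) (commutator_le_rad g hcC), ?_⟩
  rw [map_mul, e, ha, mul_inv_cancel_left]

end Ext

section Exists

variable {Γ : Type u} [Group Γ] {π : Γ →* Cfsg.SU n F q}
  (P : Pt q n r F) (hc : π.ker ≤ Subgroup.center Γ) (hs : Function.Surjective π)
  (hP : CPair ((P.Qe hF).comap π) ((P.Ze hF).comap π))
  (hbr : ∀ z ∈ ⁅(P.Qe hF).comap π, (P.Qe hF).comap π⁆, π z = 1 → z = 1)
include hc hs hP hbr

omit hc hs hP hbr in
/-- What the descent needs. -/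
def IsCompl (P : Pt q n r F) (π : Γ →* Cfsg.SU n F q) (R : Subgroup Γ) : Prop :=
  R ≤ (P.Qe hF).comap π ∧ (∀ x ∈ P.Qe hF, ∃ y ∈ R, π y = x) ∧ (∀ x ∈ R, π x = 1 → x = 1) ∧
    ∀ X, π X ∈ P.L.range → ∀ x ∈ R, X * x * X⁻¹ ∈ R

/-- An element commuting with the complement group gives a complement. -/
theorem isCompl_rad (hr : 1 ≤ r) {g : Γ} {κ : F} {B : (Fin r → F) → (Fin r → F)}
    (he : suAct (π g) P.e = κ • P.e) (hB : ∀ w, suAct (π g) (P.io w) = P.io (B w))
    (hfix : ∀ w, κ ^ q • B w = w → w = 0) (hL : ∀ A, Commute (π g) (P.L A)) :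
    IsCompl hF P π (rad ((P.Qe hF).comap π) g) :=
  ⟨rad_le (conj_mem_Qh hF P he hB), rad_cover hF P hs hP he hB hfix hr,
    rad_inj hF P hc hs hP hbr he hB hfix hr, fun X hX x hx => rad_conj hc (conj_mem_Qh_L hF P hX)
      (by obtain ⟨A, e⟩ := hX; rw [← e]; exact (hL A).symm) hx⟩

end Exists

section Two

variable {Γ : Type u} [Group Γ] {π : Γ →* Cfsg.SU n F q}
  (P : Pt q n r F) (hc : π.ker ≤ Subgroup.center Γ) (hs : Function.Surjective π)
  (hP : CPair ((P.Qe hF).comap π) ((P.Ze hF).comap π))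
  (hbr : ∀ z ∈ ⁅(P.Qe hF).comap π, (P.Qe hF).comap π⁆, π z = 1 → z = 1)
include hc hs hP hbr

/-- A complement, for every q. -/
theorem exists_rad (hr : 3 ≤ r ∨ (r = 2 ∧ 4 ≤ q)) (hex : ¬(r = 4 ∧ q = 2))
    (htor : ∀ (d : Fin r → F) (a : F), (∀ i, d i ^ (q + 1) = 1) → a ^ (q + 1) = 1 → (∏ i, d i) * (a * a) = 1 →
      ∃ g : Cfsg.SU n F q, suAct g P.e = a • P.e ∧ suAct g P.f = a • P.f ∧
        ∀ w, suAct g (P.io w) = P.io (d * w)) :
    ∃ R, IsCompl hF P π R := by
  classical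
  have hr1 : 1 ≤ r := by omega
  rcases Nat.lt_or_ge q 3 with hq | hq
  swap
  · obtain ⟨k, hk, hk0, hk1⟩ : ∃ k : F, k ^ q = k ∧ k ≠ 0 ∧ k ≠ 1 := by
      obtain ⟨k, hk⟩ := Finset.exists_mem_notMem_of_card_lt_card
        (s := ({0, 1} : Finset (fixedField hF))) (t := Finset.univ) (by
          rw [Finset.card_univ, ← Nat.card_eq_fintype_card, card_fixedField]
          exact lt_of_le_of_lt Finset.card_le_two (by omega))
      simp only [Finset.mem_insert, Finset.mem_singleton, not_or, ← Subtype.coe_inj] at hk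
      exact ⟨k, k.2, hk.2.1, hk.2.2⟩
    obtain ⟨g₀, hge, hgio, -, hgL⟩ := P.exists_tor hF hk hk0
    obtain ⟨g, rfl⟩ := hs g₀
    refine ⟨_, isCompl_rad hF P hc hs hP hbr hr1 (B := id) hge hgio (fun w e => ?_) hgL⟩
    rw [hk, id] at e
    have : (k - 1) • w = 0 := by rw [sub_smul, e, one_smul, sub_self]
    exact (smul_eq_zero.1 this).resolve_left (sub_ne_zero.2 hk1)
  obtain rfl : q = 2 := by have := two_le_q hF; omega
  have hr3 : 3 ≤ r := by omega
  obtain ⟨ω, hω1, hω3⟩ := exists_mu hF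
  have hω2 : ω ^ 2 ≠ 1 := fun e => hω1 (by rw [pow_succ, e, one_mul] at hω3; exact hω3)
  have hmod : ∀ m : ℕ, ω ^ m = 1 → m % 3 = 0 := fun m hm => by
    rw [pow_eq_pow_mod m hω3] at hm
    have := Nat.mod_lt m (show 2 + 1 > 0 by norm_num)
    obtain h | h | h : m % (2 + 1) = 0 ∨ m % (2 + 1) = 1 ∨ m % (2 + 1) = 2 := by omega
    · exact h
    · rw [h, pow_one] at hm; exact absurd hm hω1
    · rw [h] at hm; exact absurd hm hω2
  by_cases hr4 : r % 3 = 1
  swap
  · obtain ⟨g₀, hge, hgf, hgio⟩ := htor (fun _ => ω) (ω ^ r) (fun _ => hω3)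
      (by rw [← pow_mul, mul_comm, pow_mul, hω3, one_pow])
      (by rw [Finset.prod_const, Finset.card_univ, Fintype.card_fin, ← pow_add, ← pow_add,
            show r + (r + r) = (2 + 1) * r by ring, pow_mul, hω3, one_pow])
    have hd : ∀ w : Fin r → F, (fun _ => ω) * w = ω • w := fun w => rfl
    have hgio' : ∀ w, suAct g₀ (P.io w) = P.io (ω • w) := fun w => by rw [hgio, hd]
    obtain ⟨g, rfl⟩ := hs g₀
    refine ⟨_, isCompl_rad hF P hc hs hP hbr hr1 (B := fun w => ω • w) hge hgio' (fun w e => ?_) fun A => ?_⟩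
    · rw [smul_smul, ← pow_mul, ← pow_succ] at e
      have : (ω ^ (r * 2 + 1) - 1) • w = 0 := by rw [sub_smul, e, one_smul, sub_self]
      refine (smul_eq_zero.1 this).resolve_left (sub_ne_zero.2 fun e' => ?_)
      have := hmod _ e'
      omega
    · refine P.ext_split (fun w => ?_) ?_ ?_
      · rw [suAct_mul, suAct_mul, P.L_io, hgio', hgio', P.L_io, suAct_smul]
      · rw [suAct_mul, suAct_mul, P.L_e, hge, suAct_smul, P.L_e]
      · rw [suAct_mul, suAct_mul, P.L_f, hgf, suAct_smul, P.L_f]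
  have hr7 : 4 ≤ r := by omega
  let dA : Finset (Fin r) → Fin r → F := fun S i => if i ∈ S then ω else ω ^ 2
  have hr5 : 5 ≤ r := by omega
  have hexA : ∀ S : Finset (Fin r), S.card = 5 → ∃ g : Γ, suAct (π g) P.e = (1 : F) • P.e ∧
      suAct (π g) P.f = P.f ∧ ∀ w, suAct (π g) (P.io w) = P.io (dA S * w) := by
    intro S hS
    obtain ⟨g₀, h1, h2, h3⟩ := htor (dA S) 1 (fun i => by
        by_cases hi : i ∈ S
        · simp only [dA, if_pos hi]; exact hω3
        · simp only [dA, if_neg hi]; rw [← pow_mul, mul_comm, pow_mul, hω3, one_pow])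
      (one_pow _) (by
        rw [Finset.prod_ite, Finset.prod_const, Finset.prod_const, mul_one, mul_one, ← pow_mul, ← pow_add,
          Finset.filter_mem_eq_inter, Finset.univ_inter, Finset.filter_notMem_eq_sdiff,
          Finset.card_univ_sdiff, hS, Fintype.card_fin, pow_eq_pow_mod _ hω3,
          show (5 + 2 * (r - 5)) % (2 + 1) = 0 by
            have : 5 ≤ r := by
              have := S.card_le_univ
              rw [hS, Fintype.card_fin] at this; exact this
            omega, pow_zero])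
    obtain ⟨g, rfl⟩ := hs g₀
    exact ⟨g, h1, by rw [h2, one_smul], h3⟩
  choose hA hAe hAf hAio using hexA
  obtain ⟨S₀, -, hS₀⟩ := Finset.exists_subset_card_eq (s := (Finset.univ : Finset (Fin r))) (n := 5)
    (by rw [Finset.card_univ, Fintype.card_fin]; exact hr5)
  set Q := (P.Qe hF).comap π with hQdef
  have hfix : ∀ (S : Finset (Fin r)) w, (1 : F) ^ 2 • (dA S * w) = w → w = 0 := by
    intro S w e
    funext i
    have := congrFun e i
    rw [one_pow, one_smul, Pi.mul_apply] at this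
    have h0 : (dA S i - 1) * w i = 0 := by rw [sub_mul, this, one_mul, sub_self]
    refine (mul_eq_zero.1 h0).resolve_left (sub_ne_zero.2 ?_)
    by_cases hi : i ∈ S
    · simp only [dA, if_pos hi]; exact hω1
    · simp only [dA, if_neg hi]; exact hω2
  have hQn : ∀ S hS, ∀ y ∈ Q, hA S hS * y * (hA S hS)⁻¹ ∈ Q := fun S hS =>
    conj_mem_Qh hF P (hAe S hS) (hAio S hS)
  have hcm : ∀ S hS T hT, Commute (π (hA S hS)) (π (hA T hT)) := fun S hS T hT => by
    refine P.ext_split (fun w => ?_) ?_ ?_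
    · rw [suAct_mul, suAct_mul, hAio, hAio, hAio, hAio, mul_left_comm]
    · rw [suAct_mul, suAct_mul, hAe, suAct_smul, hAe, suAct_smul, hAe]
    · rw [suAct_mul, suAct_mul, hAf, hAf, hAf]
  have hsub : ∀ S hS T hT, rad Q (hA S hS) ≤ rad Q (hA T hT) := fun S hS T hT => by
    refine sup_le (commutator_le_rad _) ((Subgroup.closure_le _).2 ?_)
    rintro _ ⟨y, hy, rfl⟩
    obtain ⟨x, hx, e⟩ := rad_cover hF P hs hP (hAe T hT) (hAio T hT) (hfix T) hr1 _ (Subgroup.mem_comap.1 hy)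
    rw [SetLike.mem_coe, TwistMult.bracket_congr hc rfl e.symm, commutatorElement_def]
    exact mul_mem (rad_conj hc (hQn S hS) (hcm S hS T hT) hx) (inv_mem hx)
  set R := rad Q (hA S₀ hS₀) with hR
  refine ⟨R, rad_le (hQn _ _), rad_cover hF P hs hP (hAe _ _) (hAio _ _) (hfix _) hr1,
    rad_inj hF P hc hs hP hbr (hAe _ _) (hAio _ _) (hfix _) hr1, ?_⟩
  let N : Subgroup (Cfsg.SU r F 2) :=
    { carrier := {A | ∀ X, π X = P.L A → ∀ x ∈ R, X * x * X⁻¹ ∈ R ∧ X⁻¹ * x * X ∈ R}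
      one_mem' := fun X hX x hx => by
        have hk := ker_commute hc (show π X = 1 by rw [hX, map_one])
        rw [show X * x * X⁻¹ = x by rw [← (hk x).eq, mul_inv_cancel_right],
          show X⁻¹ * x * X = x by rw [mul_assoc, (hk x).eq, inv_mul_cancel_left]]
        exact ⟨hx, hx⟩
      mul_mem' := fun {a b} ha hb X hX x hx => by
        obtain ⟨X₁, e₁⟩ := hs (P.L a)
        have e₂ : π (X₁⁻¹ * X) = P.L b := by rw [map_mul, map_inv, e₁, hX, map_mul, inv_mul_cancel_left]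
        refine ⟨?_, ?_⟩
        · rw [show X * x * X⁻¹ = X₁ * (X₁⁻¹ * X * x * (X₁⁻¹ * X)⁻¹) * X₁⁻¹ by group]
          exact (ha X₁ e₁ _ (hb _ e₂ x hx).1).1
        · rw [show X⁻¹ * x * X = (X₁⁻¹ * X)⁻¹ * (X₁⁻¹ * x * X₁) * (X₁⁻¹ * X) by group]
          exact (hb _ e₂ _ (ha X₁ e₁ x hx).2).2
      inv_mem' := fun {a} ha X hX x hx => by
        have := ha X⁻¹ (by rw [map_inv, hX, map_inv, inv_inv]) x hx
        rw [inv_inv] at this
        exact ⟨this.2, this.1⟩ }
  have hsmall : ∀ (v : Fin r → F) (hv : Cfsg.hermForm r F 2 v v = 0) (d : F) (hd : d ^ 2 = -d),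
      (Finset.univ.filter fun i => v i ≠ 0).card ≤ 5 → te hF hv hd ∈ N := by
    intro v hv d hd hcard X hX x hx
    obtain ⟨S, hsupS, -, hS⟩ := Finset.exists_subsuperset_card_eq (Finset.subset_univ _) hcard
      (by rw [Finset.card_univ, Fintype.card_fin]; exact hr5)
    have hdv : dA S * v = ω • v := by
      funext i
      by_cases hi : i ∈ S
      · simp [dA, hi]
      · have : v i = 0 := by_contra fun h => hi (hsupS (by simp [h]))
        simp [this]
    have hform : ∀ w, Cfsg.hermForm r F 2 (dA S * w) v = ω * Cfsg.hermForm r F 2 w v := fun w => by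
      simp only [Cfsg.hermForm, Finset.mul_sum]
      refine Finset.sum_congr rfl fun i _ => ?_
      by_cases hi : i ∈ S
      · simp [dA, hi, mul_assoc]
      · have : v i = 0 := by_contra fun h => hi (hsupS (by simp [h]))
        simp [this]
    have hcomm : Commute (π X) (π (hA S hS)) := by
      rw [hX]
      refine P.ext_split (fun w => ?_) ?_ ?_
      · rw [suAct_mul, suAct_mul, hAio, P.L_io, P.L_io, hAio, suAct_transEich, suAct_transEich]
        congr 1
        rw [mul_add, mul_smul_comm, hdv, hform, smul_smul]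
        congr 2
        ring
      · rw [suAct_mul, suAct_mul, hAe, P.L_e, suAct_smul, P.L_e, hAe]
      · rw [suAct_mul, suAct_mul, hAf, P.L_f, hAf]
    have heq : R = rad Q (hA S hS) := le_antisymm (hsub _ _ _ _) (hsub _ _ _ _)
    have hXQ := conj_mem_Qh_L hF P (g := X) ⟨_, hX.symm⟩
    have hXQ' := conj_mem_Qh_L hF P (g := X⁻¹) (by rw [map_inv]; exact inv_mem ⟨_, hX.symm⟩)
    rw [heq] at hx ⊢
    refine ⟨rad_conj hc hXQ hcomm hx, ?_⟩
    have := rad_conj (X := X⁻¹) hc hXQ' (by rw [map_inv]; exact hcomm.inv_left) hx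
    rwa [inv_inv] at this
  have hq2 : ∀ a : F, a ≠ 0 → a ^ (2 + 1) = 1 := fun a ha => by
    have := FiniteField.pow_card_sub_one_eq_one a ha
    rw [hF] at this
    exact this
  haveI hchar : CharP F 2 := by
    obtain ⟨p, m, hp, hch, hqp, hm⟩ := exists_prime_pow hF
    have : p ∣ 2 := hqp ▸ dvd_pow_self p (by omega)
    obtain rfl := (Nat.prime_dvd_prime_iff_eq hp Nat.prime_two).1 this
    exact hch
  have h20 : (2 : F) = 0 := CharP.cast_eq_zero F 2
  have hgen : ∀ (m : ℕ) (v : Fin r → F) (hv : Cfsg.hermForm r F 2 v v = 0) (d : F) (hd : d ^ 2 = -d),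
      (Finset.univ.filter fun i => v i ≠ 0).card = m → te hF hv hd ∈ N := by
    intro m
    induction m using Nat.strong_induction_on with
    | _ m ih =>
      intro v hv d hd hm
      by_cases hm5 : m ≤ 5
      · exact hsmall v hv d hd (hm.le.trans hm5)
      obtain ⟨T, hT, hTc⟩ := Finset.exists_subset_card_eq
        (s := Finset.univ.filter fun i => v i ≠ 0) (n := 4) (by omega)
      obtain ⟨a, b, c, e, hab, hac, hae, hbc, hbe, hce, rfl⟩ := Finset.card_eq_four.1 hTc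
      have hne : ∀ i ∈ ({a, b, c, e} : Finset (Fin r)), v i ≠ 0 := fun i hi => (Finset.mem_filter.1 (hT hi)).2
      have hω2' : ω ^ 2 + ω + 1 = 0 := by
        have : (ω - 1) * (ω ^ 2 + ω + 1) = 0 := by linear_combination hω3
        exact (mul_eq_zero.1 this).resolve_left (sub_ne_zero.2 hω1)
      let α : Fin r → F := fun i =>
        if i = a then ω else if i = b then 1 else if i = c then ω else if i = e then ω ^ 2 else 0
      let w : Fin r → F := fun i => α i * v i
      have hα : ∀ i ∈ ({a, b, c, e} : Finset (Fin r)), α i ^ (2 + 1) = 1 := by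
        intro i hi
        simp only [Finset.mem_insert, Finset.mem_singleton] at hi
        rcases hi with rfl | rfl | rfl | rfl
        · simp [α, hω3]
        · simp [α, hab.symm]
        · simp [α, hac.symm, hbc.symm, hω3]
        · rw [show α i = ω ^ 2 by simp [α, hae.symm, hbe.symm, hce.symm]]
          rw [← pow_mul, mul_comm, pow_mul, hω3, one_pow]
      have hα0 : ∀ i ∉ ({a, b, c, e} : Finset (Fin r)), α i = 0 := by
        intro i hi
        simp only [Finset.mem_insert, Finset.mem_singleton, not_or] at hi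
        simp [α, hi]
      have hww : Cfsg.hermForm r F 2 w w = 0 := by
        rw [hermForm_self, ← Finset.sum_subset (Finset.subset_univ ({a, b, c, e} : Finset (Fin r)))
          (fun i _ hi => by simp [w, hα0 i hi])]
        rw [Finset.sum_congr rfl (g := fun _ => (1 : F)) fun i hi => by
          simp only [w]; rw [mul_pow, hα i hi, hq2 _ (hne i hi), one_mul]]
        rw [Finset.sum_const, hTc]
        simp only [nsmul_eq_mul, mul_one]
        rw [show ((4 : ℕ) : F) = 2 * 2 by norm_num, h20, mul_zero]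
      have hvw : Cfsg.hermForm r F 2 v w = ω ^ 2 := by
        rw [Cfsg.hermForm, ← Finset.sum_subset (Finset.subset_univ ({a, b, c, e} : Finset (Fin r)))
          (fun i _ hi => by simp [w, hα0 i hi])]
        rw [Finset.sum_congr rfl (g := fun i => α i ^ 2) fun i hi => by
          have h1 := hq2 _ (hne i hi)
          simp only [w]
          linear_combination α i ^ 2 * h1]
        rw [Finset.sum_insert (by simp [hab, hac, hae]), Finset.sum_insert (by simp [hbc, hbe]),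
          Finset.sum_pair hce]
        simp [α, hab.symm, hac.symm, hae.symm, hbc.symm, hbe.symm, hce.symm]
        linear_combination hω2' + ω * hω3 - h20 * 0
      have hd1 : (1 : F) ^ 2 = -1 := by linear_combination h20
      have hwN : te hF hww hd1 ∈ N := hsmall w hww 1 hd1 ((Finset.card_le_card
        (show (Finset.univ.filter fun i => w i ≠ 0) ⊆ ({a, b, c, e} : Finset (Fin r)) from fun i hi =>
          by_contra fun hi' => (Finset.mem_filter.1 hi).2 (by simp [w, hα0 i hi']))).trans (by omega))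
      set v' := suAct (te hF hww hd1) v with hv'def
      have hv'i : ∀ i, v' i = (1 + ω ^ 2 * α i) * v i := fun i => by
        rw [hv'def, suAct_transEich, hvw]
        simp [w]
        ring
      have hz : ∀ i, α i = ω → v' i = 0 := fun i hi => by
        rw [hv'i, hi, ← pow_succ, hω3, show (1 : F) + 1 = 2 by norm_num, h20, zero_mul]
      have hlt : (Finset.univ.filter fun i => v' i ≠ 0).card < m := by
        rw [← hm]
        refine Finset.card_lt_card (Finset.ssubset_iff_of_subset (fun i hi => ?_) |>.2 ⟨a, ?_, ?_⟩)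
        · refine Finset.mem_filter.2 ⟨Finset.mem_univ _, fun h => (Finset.mem_filter.1 hi).2 ?_⟩
          rw [hv'i, h, mul_zero]
        · exact hT (by simp)
        · simp [hz a (by simp [α])]
      have hv' : Cfsg.hermForm r F 2 v' v' = 0 := by rw [hv'def, suAct_herm, hv]
      have h1 := ih _ hlt v' hv' d hd rfl
      have e1 : te hF hv' hd = te hF hww hd1 * te hF hv hd * (te hF hww hd1)⁻¹ := by
        simp only [te, eich_conj]
        exact eich_congr hF _ _ rfl (suAct_zero _).symm rfl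
      have := mul_mem (mul_mem (inv_mem hwN) h1) hwN
      rwa [e1, show (te hF hww hd1)⁻¹ * (te hF hww hd1 * te hF hv hd * (te hF hww hd1)⁻¹) * te hF hww hd1 =
        te hF hv hd by group] at this
  have htop : transvectionGroup r F 2 ≤ N := by
    rw [transvectionGroup, Subgroup.closure_le]
    rintro A ⟨v, c, hv, hA'⟩
    rcases eq_or_ne v 0 with rfl | hv0
    · have : A = 1 := suAct_ext fun x => by
        rw [suAct, hA', transvection_mulVec, smul_zero, add_zero, suAct_one]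
      rw [this]; exact one_mem N
    have hu : IsUnitary 2 (Cfsg.unitaryTransvection r 2 v c) := fun x y => by
      rw [← hA']; exact A.2 x y
    have hd : c ^ 2 = -c := by
      linear_combination (transvection_isometry_iff hF v hv0 hv c).1 hu
    have : A = te hF hv hd := suAct_ext fun x => by
      rw [suAct_transEich, suAct, hA', transvection_mulVec]
    rw [this]
    exact hgen _ v hv c hd rfl
  rw [transvectionGroup_eq_top hF (Or.inl hr7)] at htop
  intro X hX x hx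
  obtain ⟨A, hA'⟩ := hX
  exact (htop (Subgroup.mem_top A) X hA'.symm x hx).1

end Two

section Descend

variable {Γ : Type u} [Group Γ] {π : Γ →* Cfsg.SU n F q}
  (P : Pt q n r F) (hs : Function.Surjective π)

include hs in
/-- The descent to the complement group. -/
theorem mem_bracket_L {R : Subgroup Γ} (hR : IsCompl hF P π R) {z : Γ}
    (hz : z ∈ ⁅(P.J hF).comap π, (P.J hF).comap π⁆) (h1 : π z = 1) :
    z ∈ ⁅P.L.range.comap π, P.L.range.comap π⁆ := by
  obtain ⟨hRle, hRcov, hRinj, hRL⟩ := hR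
  set Lh := P.L.range.comap π
  set D := ⁅Lh, Lh⁆
  have hDL : D ≤ Lh := Subgroup.commutator_le.2 fun a ha b hb => by
    rw [commutatorElement_def]; exact mul_mem (mul_mem (mul_mem ha hb) (inv_mem ha)) (inv_mem hb)
  have hn : ∀ X ∈ Lh, ∀ x ∈ R, X * x * X⁻¹ ∈ R := fun X hX => hRL X hX
  have hJ : ∀ g ∈ (P.J hF).comap π, ∃ x ∈ R, ∃ l ∈ Lh, g = x * l := by
    intro g hg
    obtain ⟨x₀, hx₀, l₀, hl₀, e⟩ := (P.mem_J hF).1 hg
    obtain ⟨x, hx, rfl⟩ := hRcov x₀ hx₀
    refine ⟨x, hx, x⁻¹ * g, ?_, (mul_inv_cancel_left _ _).symm⟩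
    show π _ ∈ P.L.range
    rw [map_mul, map_inv, ← e, inv_mul_cancel_left]
    exact hl₀
  have hle : ⁅(P.J hF).comap π, (P.J hF).comap π⁆ ≤ R ⊔ D := by
    rw [Subgroup.commutator_le]
    intro a ha b hb
    obtain ⟨x, hx, l, hl, rfl⟩ := hJ a ha
    obtain ⟨x', hx', l', hl', rfl⟩ := hJ b hb
    rw [show ⁅x * l, x' * l'⁆ = x * (l * x' * l⁻¹) * ⁅l, l'⁆ * (l' * x⁻¹ * l'⁻¹) * x'⁻¹ by
      simp only [commutatorElement_def]; group]
    refine mul_mem (mul_mem (mul_mem (mul_mem ?_ ?_) ?_) ?_) ?_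
    · exact Subgroup.mem_sup_left hx
    · exact Subgroup.mem_sup_left (hn l hl x' hx')
    · exact Subgroup.mem_sup_right (Subgroup.commutator_mem_commutator hl hl')
    · exact Subgroup.mem_sup_left (hn l' hl' _ (inv_mem hx))
    · exact Subgroup.mem_sup_left (inv_mem hx')
  have hnorm : D ≤ Subgroup.normalizer (R : Set Γ) := by
    intro d hd
    rw [Subgroup.mem_normalizer_iff]
    intro x
    refine ⟨fun hx => hn d (hDL hd) x hx, fun hx => ?_⟩
    have := hn d⁻¹ (inv_mem (hDL hd)) _ hx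
    rwa [show d⁻¹ * (d * x * d⁻¹) * d⁻¹⁻¹ = x by group] at this
  have hz' : z ∈ ((R ⊔ D : Subgroup Γ) : Set Γ) := hle hz
  rw [Subgroup.coe_mul_of_right_le_normalizer_left R D hnorm] at hz'
  obtain ⟨x, hx, d, hd, rfl⟩ := hz'
  have h2 : π x ∈ P.L.range := by
    change π (x * d) = 1 at h1
    rw [map_mul] at h1
    rw [eq_inv_of_mul_eq_one_left h1]
    exact inv_mem (hDL hd)
  have hx1 : x = 1 := hRinj x hx (P.inf_eq_one hF (hRle hx) h2)
  show x * d ∈ D
  rw [hx1, one_mul]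
  exact hd

end Descend

end Cfsg.Agent.SUMult
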