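/-
The cells of SU₃ for every q: uniqueness, the Bruhat relation with explicit entries, counting.

* `Qu`, `isPGroup_Qu`: the unipotent radical as a p-subgroup.
* `big_inj`, `small_inj`, `big_ne`: uniqueness in the two cells; `top_of_cells`.
* `bruhat`, `conj_emb`: the relation of a unipotent element, the torus on the long root SL₂.
-/
import Cfsg.Agent.Lib.SUPresent.ThreeMain
import Cfsg.Agent.Lib.SUMult.Tools

set_option autoImplicit false
set_option linter.unusedSectionVars false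

open scoped MatrixGroups

namespace Cfsg.Agent.SUMult

open Cfsg.Agent.Unitary Cfsg.Agent.RegUnip.SU Cfsg.Agent.RegUnip.SU3 Cfsg.Agent.SUPresent
open Cfsg.Agent.PSL2 (upT)
open Cfsg.Agent.PSL2.Pres (dg wM)

variable {F : Type*} [Field F] [Fintype F] {q : ℕ} {hF : Fintype.card F = q ^ 2}

local notation "σ" => Cfsg.Agent.Unitary.conjHom hF

variable (hF) in
/-- The unipotent radical. -/
def Qu : Subgroup (Cfsg.SU 3 F q) where
  carrier := {g | ∃ a, InQ hF g a}
  one_mem' := ⟨0, inQ_one⟩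
  mul_mem' := by rintro g g' ⟨a, h⟩ ⟨c, h'⟩; exact ⟨_, h.mul h'⟩
  inv_mem' := by rintro g ⟨a, h⟩; exact ⟨_, h.inv⟩

theorem uE_mem {a b : F} (h : b + σ b + a * σ a = 0) : uE hF a b ∈ Qu hF := ⟨a, b, h, rfl⟩

theorem Qu_conj {g : Cfsg.SU 3 F q} (hg : g ∈ Qu hF) (x : Fˣ) : hE hF x * g * (hE hF x)⁻¹ ∈ Qu hF := by
  obtain ⟨a, h⟩ := hg
  exact ⟨_, h.conj x⟩

theorem upT_pow_p {p : ℕ} [CharP F p] (r : fixedField hF) : upT r ^ p = 1 := by
  haveI : CharP (fixedField hF) p := (fixedField hF).subtype.charP Subtype.val_injective p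
  show (PSL2.Pres.upHom (Multiplicative.ofAdd r)) ^ p = 1
  rw [← map_pow, ← ofAdd_nsmul, nsmul_eq_mul, CharP.cast_eq_zero, zero_mul, ofAdd_zero, map_one]

theorem isPGroup_Qu (p : ℕ) [CharP F p] : IsPGroup p (Qu hF) := by
  rintro ⟨g, a, hg⟩
  obtain ⟨δ, hδ, hσ⟩ := exists_skew hF
  have h0 : InQ hF (g ^ p) 0 := by
    have := hg.pow p
    rwa [CharP.cast_eq_zero, zero_mul] at this
  obtain ⟨r, hr⟩ := mem_Z hδ (show σ δ = -δ from hσ) h0
  refine ⟨2, Subtype.ext ?_⟩
  show g ^ p ^ 2 = 1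
  rw [pow_two, pow_mul, hr, ← map_pow, upT_pow_p, map_one]

theorem isP_uE {p : ℕ} [CharP F p] {a b : F} (h : b + σ b + a * σ a = 0) : IsP p (uE hF a b) :=
  IsP.of_mem (isPGroup_Qu p) (uE_mem h)

theorem hE_injective : Function.Injective (hE hF : Fˣ → Cfsg.SU 3 F q) := by
  intro a b e
  have := congrFun (congrFun (congrArg (co hF) e) 0) 0
  rw [co_hE, co_hE] at this
  exact Units.ext (by simpa [dd] using this)

variable {δ : F} (hδ : δ ≠ 0) (hσ : Cfsg.Agent.Unitary.conjHom hF δ = -δ)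

theorem emb_injective : Function.Injective (emb hδ hσ : SL(2, fixedField hF) → Cfsg.SU 3 F q) := by
  intro A B e
  have e' : ∀ i j, Lm hF δ A i j = Lm hF δ B i j := fun i j => by rw [← co_emb hδ hσ, e, co_emb]
  clear e
  refine Subtype.ext (Matrix.ext fun i j => Subtype.ext ?_)
  fin_cases i <;> fin_cases j
  · simpa [Lm] using e' 0 0
  · simpa [Lm, hδ] using e' 0 2
  · simpa [Lm, hδ] using e' 2 0
  · simpa [Lm] using e' 2 2

/-- A torus element normalises the long root SL₂. -/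
theorem conj_emb (z : Fˣ) (A : SL(2, fixedField hF)) :
    ∃ A', hE hF z * emb hδ hσ A * (hE hF z)⁻¹ = emb hδ hσ A' := by
  let n : fixedField hF := ⟨(z : F) * σ z, σ_norm hF _⟩
  have hn : n ≠ 0 := fun e => mul_ne_zero z.ne_zero ((map_ne_zero σ).2 z.ne_zero) (congrArg Subtype.val e)
  obtain ⟨A', hA'⟩ : ∃ A' : SL(2, fixedField hF), A'.1 = !![A.1 0 0, n * A.1 0 1; A.1 1 0 / n, A.1 1 1] := by
    refine ⟨⟨_, ?_⟩, rfl⟩
    have := A.2
    rw [Matrix.det_fin_two] at this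
    rw [Matrix.det_fin_two_of, mul_div_assoc']
    field_simp
    linear_combination this
  refine ⟨A', ?_⟩
  rw [mul_inv_eq_iff_eq_mul]
  refine co_injective (hF := hF) ?_
  rw [co_mul, co_mul, co_emb, co_emb, co_hE]
  have hz := z.ne_zero
  have hσz : σ (z : F) ≠ 0 := (map_ne_zero σ).2 hz
  ext i j
  fin_cases i <;> fin_cases j <;>
    simp [Lm, dd, hA', n, Matrix.mul_apply, Fin.sum_univ_three, -conjHom_apply] <;> field_simp

/-- The big cell over the trivial unipotent elements. -/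
theorem big_eq {a b c e : F} (h : b + σ b + a * σ a = 0) (h' : e + σ e + c * σ c = 0) {z z' : Fˣ}
    (he : uE hF a b * hE hF z * emb hδ hσ wM * uE hF c e = hE hF z' * emb hδ hσ wM) :
    z = z' ∧ a = 0 ∧ b = 0 ∧ c = 0 ∧ e = 0 := by
  have hM := congrArg (co hF) he
  rw [co_mul, co_mul, co_mul, co_mul, co_uE h, co_uE h', co_hE, co_hE, co_emb] at hM
  have hσz : σ (z : F) ≠ 0 := (map_ne_zero σ).2 z.ne_zero
  have hσz' : σ (z' : F) ≠ 0 := (map_ne_zero σ).2 z'.ne_zero
  have e20 := congrFun (congrFun hM 2) 0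
  have e10 := congrFun (congrFun hM 1) 0
  have e00 := congrFun (congrFun hM 0) 0
  have e21 := congrFun (congrFun hM 2) 1
  have e22 := congrFun (congrFun hM 2) 2
  simp [Lm, dd, uu, PSL2.Pres.wM_coe, Matrix.mul_apply, Fin.sum_univ_three, hδ, hσz, hσz',
    -conjHom_apply] at e20 e10 e00 e21 e22
  refine ⟨Units.ext ?_, e10, e00, e21, e22⟩
  exact (σ).injective (by first | exact e20 | exact e20.symm | linear_combination e20 | linear_combination -e20)

theorem big_inj {y1 y2 w1 w2 : Cfsg.SU 3 F q} (h1 : y1 ∈ Qu hF) (h2 : y2 ∈ Qu hF) (k1 : w1 ∈ Qu hF)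
    (k2 : w2 ∈ Qu hF) {z z' : Fˣ}
    (e : y1 * hE hF z * emb hδ hσ wM * y2 = w1 * hE hF z' * emb hδ hσ wM * w2) :
    y1 = w1 ∧ z = z' ∧ y2 = w2 := by
  obtain ⟨a, b, hab, ha⟩ := mul_mem (inv_mem k1) h1
  obtain ⟨c, d, hcd, hc⟩ := mul_mem h2 (inv_mem k2)
  have he : uE hF a b * hE hF z * emb hδ hσ wM * uE hF c d = hE hF z' * emb hδ hσ wM := by
    rw [← ha, ← hc, show w1⁻¹ * y1 * hE hF z * emb hδ hσ wM * (y2 * w2⁻¹) =
      w1⁻¹ * (y1 * hE hF z * emb hδ hσ wM * y2) * w2⁻¹ by group, e]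
    group
  obtain ⟨hz, rfl, rfl, rfl, rfl⟩ := big_eq hδ hσ hab hcd he
  rw [uE_zero] at ha hc
  exact ⟨(inv_mul_eq_one.1 ha).symm, hz, mul_inv_eq_one.1 hc⟩

theorem big_ne {y1 y2 w : Cfsg.SU 3 F q} (h1 : y1 ∈ Qu hF) (h2 : y2 ∈ Qu hF) (k : w ∈ Qu hF) (z z' : Fˣ) :
    y1 * hE hF z * emb hδ hσ wM * y2 ≠ w * hE hF z' := by
  obtain ⟨a, b, h, rfl⟩ := h1
  obtain ⟨c, d, h', rfl⟩ := h2
  obtain ⟨a', b', k', rfl⟩ := k
  intro e
  have hM := congrFun (congrFun (congrArg (co hF) e) 2) 0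
  rw [co_mul, co_mul, co_mul, co_mul, co_uE h, co_uE h', co_uE k', co_hE, co_hE, co_emb] at hM
  simp [Lm, dd, uu, PSL2.Pres.wM_coe, Matrix.mul_apply, Fin.sum_univ_three, hδ,
    (map_ne_zero σ).2 z.ne_zero, -conjHom_apply] at hM

theorem small_inj {y w : Cfsg.SU 3 F q} (h1 : y ∈ Qu hF) (k : w ∈ Qu hF) {z z' : Fˣ}
    (e : y * hE hF z = w * hE hF z') : y = w ∧ z = z' := by
  obtain ⟨a, b, h, ha⟩ := mul_mem (inv_mem k) h1
  have he : uE hF a b * hE hF z = hE hF z' := by rw [← ha, mul_assoc, e, inv_mul_cancel_left]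
  have hM := congrFun (congrFun (congrArg (co hF) he) 0) 0
  rw [co_mul, co_uE h, co_hE, co_hE] at hM
  have hz : z = z' := Units.ext (by simpa [dd, uu, Matrix.mul_apply, Fin.sum_univ_three] using hM)
  subst hz
  exact ⟨mul_right_cancel e, rfl⟩

/-- A subgroup containing the radical, the torus and the Weyl element is everything. -/
theorem top_of_cells {M : Subgroup (Cfsg.SU 3 F q)} (hQ : ∀ y ∈ Qu hF, y ∈ M) (hT : ∀ z, hE hF z ∈ M)
    (ht : emb hδ hσ wM ∈ M) : M = ⊤ := by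
  classical
  haveI : Finite (Qpar F q) := inferInstance
  let u : Qpar F q → Cfsg.SU 3 F q := fun v => uE hF v.1.1 v.1.2
  have hu : ∀ v, u v ∈ Qu hF := fun v => uE_mem v.2
  have huinj : Function.Injective u := fun v v' e => by
    obtain ⟨h1, h2⟩ := uE_inj v.2 v'.2 e
    exact Subtype.ext (Prod.ext h1 h2)
  let f : Qpar F q × Fˣ × Option (Qpar F q) → M := fun x =>
    ⟨u x.1 * hE hF x.2.1 * x.2.2.elim 1 (fun v => emb hδ hσ wM * u v),
      mul_mem (mul_mem (hQ _ (hu _)) (hT _)) (by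
        rcases x.2.2 with _ | v
        · exact one_mem _
        · exact mul_mem ht (hQ _ (hu _)))⟩
  have hf : Function.Injective f := by
    rintro ⟨v, z, o⟩ ⟨v', z', o'⟩ e
    have e' := congrArg Subtype.val e
    rcases o with _ | w <;> rcases o' with _ | w' <;> simp only [f, Option.elim, mul_one, ← mul_assoc] at e'
    · obtain ⟨h1, rfl⟩ := small_inj (hu _) (hu _) e'
      rw [huinj h1]
    · exact absurd e'.symm (big_ne hδ hσ (hu _) (hu _) (hu _) _ _)
    · exact absurd e' (big_ne hδ hσ (hu _) (hu _) (hu _) _ _)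
    · obtain ⟨h1, rfl, h2⟩ := big_inj hδ hσ (hu _) (hu _) (hu _) (hu _) e'
      rw [huinj h1, huinj h2]
  refine Subgroup.eq_top_of_le_card M ?_
  refine le_of_eq_of_le ?_ (Nat.card_le_card_of_injective f hf)
  rw [card_SU3 hF, Nat.card_prod, Nat.card_prod, Finite.card_option, card_Qpar hF,
    Nat.card_units F, Nat.card_eq_fintype_card, hF, mul_assoc]

/-- The Bruhat relation. -/
theorem bruhat {a b : F} (hab : b + σ b + a * σ a = 0) (hb : b ≠ 0) {z : Fˣ} (hz : (z : F) = -δ / σ b) :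
    emb hδ hσ wM * uE hF a b * (emb hδ hσ wM)⁻¹ =
      uE hF (-(δ * a) / b) (-(δ ^ 2) / b) * hE hF z * emb hδ hσ wM * uE hF (-(δ * a) / σ b) (-(δ ^ 2) / b) := by
  have hσb : σ b ≠ 0 := (map_ne_zero σ).2 hb
  have h1 : -(δ ^ 2) / b + σ (-(δ ^ 2) / b) + -(δ * a) / b * σ (-(δ * a) / b) = 0 := by
    simp only [map_div₀, map_neg, map_pow, map_mul, hσ]
    field_simp
    linear_combination (-δ ^ 2) * hab
  have h2 : -(δ ^ 2) / b + σ (-(δ ^ 2) / b) + -(δ * a) / σ b * σ (-(δ * a) / σ b) = 0 := by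
    simp only [map_div₀, map_neg, map_pow, map_mul, hσ, σσ hF]
    field_simp
    linear_combination (-δ ^ 2) * hab
  rw [mul_inv_eq_iff_eq_mul]
  refine co_injective (hF := hF) ?_
  rw [co_mul, co_mul, co_mul, co_mul, co_mul, co_emb, co_uE hab, co_uE h1, co_uE h2, co_hE, hz]
  ext j k
  fin_cases j <;> fin_cases k <;>
    simp [Lm, dd, uu, PSL2.Pres.wM_coe, Matrix.mul_apply, Fin.sum_univ_three, map_div₀, hσ, σσ hF,
      -conjHom_apply] <;> field_simp <;>
    first
      | ring1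
      | linear_combination hab
      | linear_combination -hab
      | linear_combination δ * hab
      | linear_combination -δ * hab
      | linear_combination a * hab
      | linear_combination -a * hab
      | linear_combination σ a * hab
      | linear_combination -σ a * hab
      | (left; ring1)
      | (left; linear_combination (-δ ^ 2) * hab)
      | (left; linear_combination (δ ^ 2) * hab)

end Cfsg.Agent.SUMult
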