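/-
Central extensions of SU₃(q) by p-groups, p the characteristic.

* `Zu`, `cpair_three`: the root group is central in the preimage of the radical.
* `bracket_le_three`: the derived group of that preimage meets the kernel trivially.
* `triv_three`: `Triv 3 F q p`.
-/
import Cfsg.Agent.Lib.SUMult.PtTools
import Cfsg.Agent.Lib.SUMult.ThreeModel

set_option autoImplicit false
set_option linter.unusedSectionVars false
set_option linter.style.haveILetI false

open scoped commutatorElement MatrixGroups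

namespace Cfsg.Agent.SUMult

open Cfsg.Agent.Unitary Cfsg.Agent.RegUnip.SU Cfsg.Agent.RegUnip.SU3 Cfsg.Agent.SUPresent

universe u v

variable {F : Type v} [Field F] [Fintype F] {q : ℕ} {hF : Fintype.card F = q ^ 2}

local notation "σ" => Cfsg.Agent.Unitary.conjHom hF

variable (hF) in
/-- The root group. -/
def Zu : Subgroup (Cfsg.SU 3 F q) where
  carrier := {g | InQ hF g 0}
  one_mem' := inQ_one
  mul_mem' := by
    intro g g' h h'
    have := InQ.mul h h'
    rwa [add_zero] at this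
  inv_mem' := by
    intro g h
    have := InQ.inv h
    rwa [neg_zero] at this

theorem Zu_le : Zu hF ≤ Qu hF := fun _ h => ⟨0, h⟩

theorem inQ_unique {g : Cfsg.SU 3 F q} {a c : F} (h : InQ hF g a) (h' : InQ hF g c) : a = c := by
  obtain ⟨b, hb, rfl⟩ := h
  obtain ⟨e, he, h'⟩ := h'
  exact (uE_inj hb he h').1

theorem exists_inQ (a : F) : ∃ g : Cfsg.SU 3 F q, InQ hF g a := by
  obtain ⟨b, hb⟩ := exists_trace_eq hF (c := -(a * a ^ q)) (by
    rw [neg_pow_q hF, mul_pow, pow_q_pow_q hF, mul_comm])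
  exact ⟨_, b, by rw [conjHom_apply, conjHom_apply]; linear_combination hb, rfl⟩

theorem commute_Zu {g g' : Cfsg.SU 3 F q} (h : g ∈ Zu hF) (h' : g' ∈ Qu hF) : Commute g g' := by
  obtain ⟨b, hb, rfl⟩ := h
  obtain ⟨a, e, he, rfl⟩ := h'
  show _ = _
  rw [uE_mul hb he, uE_mul he hb, map_zero, mul_zero, sub_zero, zero_mul, sub_zero, zero_add, add_zero,
    add_comm]

theorem uE_bracket {a b c e : F} (h : b + σ b + a * σ a = 0) (h' : e + σ e + c * σ c = 0) :
    ⁅uE hF a b, uE hF c e⁆ = uE hF 0 (a * σ c - c * σ a) := by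
  have h0 : a * σ c - c * σ a + σ (a * σ c - c * σ a) + 0 * σ 0 = 0 := by
    rw [map_sub, map_mul, map_mul, σσ hF, σσ hF]; ring
  rw [commutatorElement_def, mul_inv_eq_iff_eq_mul, mul_inv_eq_iff_eq_mul, mul_assoc, uE_mul h h',
    uE_mul h' h, uE_mul h0 (par_mul h' h), zero_add, add_comm c a, map_zero, mul_zero, sub_zero]
  congr 1
  ring

/-- Commutators of elements of the radical cover the root group. -/
theorem exists_bracket {w : Cfsg.SU 3 F q} (hw : w ∈ Zu hF) :
    ∃ a : F, ∀ g g', InQ hF g a → InQ hF g' 1 → ⁅g, g'⁆ = w := by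
  obtain ⟨b, hb, rfl⟩ := hw
  obtain ⟨t, ht⟩ := exists_trace_eq hF (c := (1 : F)) (one_pow q)
  refine ⟨b * t, ?_⟩
  rintro g g' ⟨d, hd, rfl⟩ ⟨e, he, rfl⟩
  have hσb : σ b = -b := by rw [map_zero, mul_zero, add_zero] at hb; linear_combination hb
  rw [uE_bracket hd he, map_one, mul_one, one_mul, map_mul, hσb]
  congr 1
  rw [conjHom_apply]
  linear_combination b * ht

/-- The torus on the root group. -/
theorem conj_Zu {g : Cfsg.SU 3 F q} {b : F} (hb : b + σ b + 0 * σ 0 = 0) (hg : g = uE hF 0 b) (x : Fˣ) :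
    hE hF x * g * (hE hF x)⁻¹ * g⁻¹ = uE hF 0 (((x : F) * σ (x : F) - 1) * b) := by
  subst hg
  have hσb : σ b = -b := by rw [map_zero, mul_zero, add_zero] at hb; linear_combination hb
  have h1 := par_scale hb (x : F) x.ne_zero
  have h2 : σ b + σ (σ b) + -0 * σ (-0) = 0 := by rw [σσ hF, neg_zero]; linear_combination hb
  rw [hE_uE x hb, uE_inv hb, uE_mul h1 h2, mul_zero, neg_zero, add_zero, zero_mul, sub_zero, hσb]
  congr 1
  ring

/-- A field with five elements has one avoiding three conditions. -/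
theorem exists_avoid {K : Type*} [Field K] [Finite K] (h : 5 ≤ Nat.card K) :
    ∃ t : K, t ≠ 0 ∧ t + 1 ≠ 0 ∧ t * t + t + 1 ≠ 0 := by
  classical
  haveI := Fintype.ofFinite K
  by_contra hne
  push Not at hne
  set P : Polynomial K := Polynomial.X * ((Polynomial.X + 1) * (Polynomial.X ^ 2 + Polynomial.X + 1)) with hP
  have hdeg : P.natDegree ≤ 4 := by rw [hP]; compute_degree
  have h0 : P = 0 := Polynomial.eq_zero_of_natDegree_lt_card_of_eval_eq_zero P (ι := K) Function.injective_id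
    (fun t => by
      by_cases h0 : t = 0
      · simp [hP, h0]
      by_cases h1 : t + 1 = 0
      · simp [hP, h1]
      have := hne t h0 h1
      simp [hP, sq, this])
    (by rw [← Nat.card_eq_fintype_card]; omega)
  have hm : P.Monic := by rw [hP]; monicity!
  exact hm.ne_zero h0

section Ext

variable {Γ : Type u} [Group Γ] [Finite Γ] {π : Γ →* Cfsg.SU 3 F q} {p : ℕ} [Fact p.Prime] [CharP F p]
  (hc : π.ker ≤ Subgroup.center Γ) (hs : Function.Surjective π) (hp : IsPGroup p π.ker)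

theorem cpair_of_cent (h : ∀ a ∈ (Zu hF).comap π, ∀ x ∈ (Qu hF).comap π, Commute a x) :
    CPair ((Qu hF).comap π) ((Zu hF).comap π) := by
  refine ⟨Subgroup.comap_mono Zu_le, h, fun x hx y hy => ?_⟩
  obtain ⟨a, ha⟩ := hx
  obtain ⟨c, hc'⟩ := hy
  show InQ hF (π ⁅x, y⁆) 0
  rw [map_commutatorElement]
  exact ha.commutator hc'

include hc hs hp

/-- q ≥ 3: the root group is central. -/
theorem cpair_three (hq : 3 ≤ q) : CPair ((Qu hF).comap π) ((Zu hF).comap π) := by
  refine cpair_of_cent fun v hv => ?_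
  obtain ⟨P⟩ := SUPresent.exists_par hF
  set s : Fˣ := P.θ ^ (q - 1) with hs'
  obtain ⟨g, hg⟩ := hs (hE hF s)
  have hsN : (s : F) * σ (s : F) = 1 := by
    rw [hs', conjHom_apply, Units.val_pow_eq_pow_val, ← pow_succ', ← pow_mul, pow_dvd_iff hF P.hθ]
    refine ⟨1, ?_⟩
    rw [mul_one, show q ^ 2 - 1 = (q + 1) * (q - 1) by simpa using Nat.sq_sub_sq q 1, mul_comm]
  have hsη : eta q (s : F) - 1 ≠ 0 := by
    intro e
    have hσs : σ (s : F) = (s : F)⁻¹ := eq_inv_of_mul_eq_one_right hsN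
    rw [sub_eq_zero, show eta q (s : F) = σ (s : F) * σ (s : F) / (s : F) by rw [eta, conjHom_apply, sq],
      hσs] at e
    have h3 : (s : F) ^ 3 = 1 := by
      field_simp at e
      linear_combination -e
    rw [hs', Units.val_pow_eq_pow_val, ← pow_mul, pow_dvd_iff hF P.hθ,
      show q ^ 2 - 1 = (q - 1) * (q + 1) by rw [mul_comm]; simpa using Nat.sq_sub_sq q 1] at h3
    have := Nat.le_of_dvd (by norm_num) (Nat.dvd_of_mul_dvd_mul_left (by omega : 0 < q - 1) h3)
    omega
  have hgv : ⁅g, v⁆ = 1 := by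
    refine bracket_eq_one_of_pow hc hp (N := q ^ 2 - 1) ?_ ?_ ?_
    · obtain ⟨r, m, hr, hchar, hqr, hm⟩ := exists_prime_pow hF
      obtain rfl : p = r := CharP.eq F ‹CharP F p› hchar
      intro hd
      have h1 : 1 ≤ q ^ 2 := Nat.one_le_pow _ _ (by omega)
      have h2 : p ∣ q ^ 2 := dvd_pow (hqr ▸ dvd_pow_self p (by omega)) two_ne_zero
      have := (Nat.dvd_add_right hd).1 (show p ∣ q ^ 2 - 1 + 1 by rwa [Nat.sub_add_cancel h1])
      exact hr.one_lt.ne' (Nat.dvd_one.1 this)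
    · rw [hg, ← map_pow, ← card_units hF, pow_card_eq_one', map_one]
    · obtain ⟨b, hb, e⟩ := hv
      rw [hg]
      have := conj_Zu hb e s
      rw [hsN, sub_self, zero_mul, uE_zero] at this
      exact mul_inv_eq_iff_eq_mul.1 (mul_inv_eq_one.1 this)
  have hv' : g * v * g⁻¹ = v := by
    rw [(commutatorElement_eq_one_iff_commute.1 hgv).eq, mul_inv_cancel_right]
  set C : Subgroup Γ := Subgroup.centralizer {v} ⊓ (Qu hF).comap π
  have hmem : ∀ x, x ∈ C → Commute x v := fun x hx => Subgroup.mem_centralizer_singleton_iff.1 hx.1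
  have step : ∀ a : F, ∃ x ∈ C, InQ hF (π x) a := by
    intro a
    obtain ⟨x₀, hx₀⟩ := exists_inQ (hF := hF) (a / (eta q (s : F) - 1))
    obtain ⟨x, rfl⟩ := hs x₀
    have hq' : InQ hF (π (x⁻¹ * (g * x * g⁻¹))) a := by
      have := hx₀.inv.mul (hx₀.conj s)
      rw [show -(a / (eta q (s : F) - 1)) + eta q (s : F) * (a / (eta q (s : F) - 1)) = a by
        field_simp; ring] at this
      rwa [map_mul, map_mul, map_mul, map_inv, map_inv, hg]
    refine ⟨x⁻¹ * (g * x * g⁻¹), ⟨Subgroup.mem_centralizer_singleton_iff.2 ?_, _, hq'⟩, hq'⟩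
    have hk : π ⁅x, v⁆ = 1 :=
      (map_eq_one_iff_bracket x v).2 (commute_Zu hv ⟨_, hx₀⟩).symm
    have e : g * x * g⁻¹ * v * (g * x * g⁻¹)⁻¹ = x * v * x⁻¹ := by
      rw [show g * x * g⁻¹ * v * (g * x * g⁻¹)⁻¹ = g * (x * (g⁻¹ * v * g) * x⁻¹) * g⁻¹ by group,
        show g⁻¹ * v * g = v by rw [mul_assoc, ← (commutatorElement_eq_one_iff_commute.1 hgv).eq,
          inv_mul_cancel_left],
        show x * v * x⁻¹ = ⁅x, v⁆ * v by simp only [commutatorElement_def]; group,
        show g * (⁅x, v⁆ * v) * g⁻¹ = g * ⁅x, v⁆ * g⁻¹ * (g * v * g⁻¹) by group, hv',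
        (ker_commute hc hk g).eq, mul_inv_cancel_right]
    calc x⁻¹ * (g * x * g⁻¹) * v
        = x⁻¹ * (g * x * g⁻¹ * v * (g * x * g⁻¹)⁻¹) * (g * x * g⁻¹) := by group
      _ = _ := by rw [e]; group
  intro y hy
  obtain ⟨c, hy⟩ := hy
  obtain ⟨x, hx, hxq⟩ := step c
  have hr : InQ hF (π (x⁻¹ * y)) 0 := by
    rw [map_mul, map_inv]
    have := hxq.inv.mul hy
    rwa [neg_add_cancel] at this
  obtain ⟨a, ha⟩ := exists_bracket (show π (x⁻¹ * y) ∈ Zu hF from hr)
  obtain ⟨x1, h1, h1q⟩ := step a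
  obtain ⟨x2, h2, h2q⟩ := step 1
  have e : π ⁅x1, x2⁆ = π (x⁻¹ * y) := by rw [map_commutatorElement]; exact ha _ _ h1q h2q
  have hbr : Commute ⁅x1, x2⁆ v := by
    have : ⁅x1, x2⁆ ∈ C := by
      rw [commutatorElement_def]; exact mul_mem (mul_mem (mul_mem h1 h2) (inv_mem h1)) (inv_mem h2)
    exact hmem _ this
  have hrest : Commute (⁅x1, x2⁆⁻¹ * (x⁻¹ * y)) v :=
    (ker_commute hc (by rw [map_mul, map_inv, e, inv_mul_cancel]) v).symm
  have := (hmem _ hx).mul_left (hbr.mul_left hrest)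
  rwa [mul_inv_cancel_left, mul_inv_cancel_left, Commute, SemiconjBy, eq_comm] at this

/-- q ≥ 3: the derived group of the preimage of the radical meets the kernel trivially. -/
theorem bracket_le_three (hq : 3 ≤ q) :
    ∀ z ∈ ⁅(Qu hF).comap π, (Qu hF).comap π⁆, π z = 1 → z = 1 := by
  classical
  have hP := cpair_three hc hs hp (hF := hF) hq
  obtain ⟨P⟩ := SUPresent.exists_par hF
  set A := (Zu hF).comap π with hAdef
  have hab : ∀ a ∈ A, ∀ b ∈ A, Commute a b := fun a ha b hb => hP.cent a ha b (hP.le hb)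
  have hconj : ∀ (x : Fˣ) (g : Γ), π g = hE hF x → ∀ a ∈ A, g * a * g⁻¹ ∈ A := by
    intro x g hg a ha
    show InQ hF _ 0
    have := (show InQ hF (π a) 0 from ha).conj x
    rw [mul_zero] at this
    rwa [map_mul, map_mul, map_inv, hg]
  obtain ⟨g, hg⟩ := hs (hE hF P.θ)
  have hgA : ∀ a ∈ A, ⁅g, a⁆ ∈ A := fun a ha => by
    rw [commutatorElement_def]; exact mul_mem (hconj _ g hg a ha) (inv_mem ha)
  have hN : (P.θ : F) * σ (P.θ : F) - 1 ≠ 0 := by
    rw [sub_ne_zero, conjHom_apply, ← pow_succ', Ne, pow_dvd_iff hF P.hθ]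
    intro hd
    have h2 := Nat.le_of_dvd (by omega) hd
    have h3 : 3 * q ≤ q ^ 2 := by rw [sq]; exact Nat.mul_le_mul_right q hq
    omega
  set C := brSub g A hab hgA
  have hCA : C ≤ A := by rintro _ ⟨a, ha, rfl⟩; exact hgA a ha
  have hC1 : ∀ w ∈ C, π w = 1 → w = 1 := by
    rintro _ ⟨a, ha, rfl⟩ h1
    obtain ⟨b, hb, e⟩ := (show InQ hF (π a) 0 from ha)
    rw [commutatorElement_def, map_mul, map_mul, map_mul, map_inv, map_inv, hg, conj_Zu hb e,
      ← uE_zero (hF := hF)] at h1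
    have h0 : ((P.θ : F) * σ (P.θ : F) - 1) * b + σ (((P.θ : F) * σ (P.θ : F) - 1) * b) + 0 * σ 0 = 0 := by
      rw [map_mul, map_sub, map_one, σ_norm hF]; linear_combination ((P.θ : F) * σ (P.θ : F) - 1) * hb
    have hb0 := (mul_eq_zero.1 (uE_inj h0 (by simp [-conjHom_apply]) h1).2).resolve_left hN
    subst hb0
    rw [uE_zero] at e
    exact commutatorElement_eq_one_iff_commute.2 (ker_commute hc e g)
  have hcov : ∀ a ∈ A, ∃ b ∈ A, π a = π ⁅g, b⁆ := by
    intro a ha
    obtain ⟨b, hb, e⟩ := (show InQ hF (π a) 0 from ha)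
    set n : F := (P.θ : F) * σ (P.θ : F) - 1 with hn
    have hb' : b / n + σ (b / n) + 0 * σ 0 = 0 := by
      rw [map_div₀, show σ n = n by rw [hn, map_sub, map_one, σ_norm hF]]
      field_simp
      linear_combination hb
    obtain ⟨a', ha'⟩ := hs (uE hF 0 (b / n))
    refine ⟨a', by show InQ hF _ 0; rw [ha']; exact ⟨_, hb', rfl⟩, ?_⟩
    rw [e, commutatorElement_def, map_mul, map_mul, map_mul, map_inv, map_inv, hg, conj_Zu hb' ha',
      ← hn, mul_div_cancel₀ _ hN]
  have hinv : ∀ (x : Fˣ) (X : Γ), π X = hE hF x → ∀ a ∈ A, ⁅X, a⁆ ∈ C := fun x X hX =>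
    bracket_mem_brSub hc hcov (hconj x X hX) (by rw [hX, hg]; exact (Commute.all x P.θ).map (hE hF))
  haveI : (C.subgroupOf A).Normal := ⟨fun n hn m => by
    have : m * n * m⁻¹ = n := Subtype.ext (by
      show (m : Γ) * n * (m : Γ)⁻¹ = n
      rw [(hab _ m.2 _ n.2).eq, mul_inv_cancel_right])
    rwa [this]⟩
  have hl : ∀ a : F, ∃ x ∈ (Qu hF).comap π, InQ hF (π x) a := fun a => by
    obtain ⟨x₀, hx₀⟩ := exists_inQ (hF := hF) a
    obtain ⟨x, rfl⟩ := hs x₀
    exact ⟨x, ⟨a, hx₀⟩, hx₀⟩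
  choose L hL hLq using hl
  have hrel : ∀ {a : F} {x : Γ}, InQ hF (π x) a → (L a)⁻¹ * x ∈ A := fun {a x} hx => by
    show InQ hF _ 0
    have := (hLq a).inv.mul hx
    rw [neg_add_cancel] at this
    rwa [map_mul, map_inv]
  let β : F → F → A ⧸ C.subgroupOf A := fun a c =>
    QuotientGroup.mk' (C.subgroupOf A) ⟨⁅L a, L c⁆, hP.br _ (hL a) _ (hL c)⟩
  have hbl : ∀ a a' b, β (a + a') b = β a b * β a' b := fun a a' b => by
    show QuotientGroup.mk' _ _ = QuotientGroup.mk' _ _ * QuotientGroup.mk' _ _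
    rw [← map_mul]
    refine congrArg _ (Subtype.ext ?_)
    show ⁅L (a + a'), L b⁆ = ⁅L a, L b⁆ * ⁅L a', L b⁆
    rw [← hP.mul_left (hL a) (hL a') (hL b)]
    refine (hP.congr (hL (a + a')) (hL b) (hL b) (hrel ?_) ?_).symm
    · rw [map_mul]; exact (hLq a).mul (hLq a')
    · rw [inv_mul_cancel]; exact one_mem _
  have hbr : ∀ a b b', β a (b + b') = β a b * β a b' := fun a b b' => by
    show QuotientGroup.mk' _ _ = QuotientGroup.mk' _ _ * QuotientGroup.mk' _ _
    rw [← map_mul]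
    refine congrArg _ (Subtype.ext ?_)
    show ⁅L a, L (b + b')⁆ = ⁅L a, L b⁆ * ⁅L a, L b'⁆
    rw [← hP.mul_right (hL a) (hL b) (hL b')]
    refine (hP.congr (hL a) (hL (b + b')) (mul_mem (hL b) (hL b')) ?_ (hrel ?_)).symm
    · rw [inv_mul_cancel]; exact one_mem _
    · rw [map_mul]; exact (hLq b).mul (hLq b')
  have hbinv : ∀ (x : Fˣ) a b, β (eta q (x : F) * a) (eta q (x : F) * b) = β a b := fun x a b => by
    obtain ⟨X, hX⟩ := hs (hE hF x)
    have hq' : ∀ c, InQ hF (π (X * L c * X⁻¹)) (eta q (x : F) * c) := fun c => by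
      rw [map_mul, map_mul, map_inv, hX]; exact (hLq c).conj x
    refine (QuotientGroup.eq.2 ?_).symm
    show (⁅L a, L b⁆)⁻¹ * ⁅L (eta q (x : F) * a), L (eta q (x : F) * b)⁆ ∈ C
    rw [← hP.congr (hL (eta q (x : F) * a)) (hL (eta q (x : F) * b)) ⟨_, hq' b⟩ (hrel (hq' a)) (hrel (hq' b)),
      show ⁅X * L a * X⁻¹, X * L b * X⁻¹⁆ = ⁅X, ⁅L a, L b⁆⁆ * ⁅L a, L b⁆ by
        simp only [commutatorElement_def]; group]
    have hw := hP.br _ (hL a) _ (hL b)
    have hXw := hinv x X hX _ hw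
    rw [(hab _ (hCA hXw) _ hw).eq, inv_mul_cancel_left]
    exact hXw
  have hzero : ∀ a b, β a b = 1 := by
    by_cases h3 : 3 ∣ q + 1
    · have hq5 : 5 ≤ q := by omega
      obtain ⟨t, t0, t1, t2⟩ : ∃ t : fixedField hF, t ≠ 0 ∧ t + 1 ≠ 0 ∧ t * t + t + 1 ≠ 0 := by
        refine exists_avoid (K := fixedField hF) ?_
        rw [card_fixedField]; exact hq5
      intro a b
      have := TwistMult.pairing_zero_diag (fun r s : fixedField hF => β ((r : F) * a) ((s : F) * b))
        (fun r r' s => by simp only [AddMemClass.coe_add, add_mul]; exact hbl _ _ _)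
        (fun r s s' => by simp only [AddMemClass.coe_add, add_mul]; exact hbr _ _ _)
        (fun c hc' r s => by
          have hc0 : (c : F) ≠ 0 := fun e => hc' (Subtype.ext e)
          have he : eta q ((Units.mk0 (c : F) hc0 : Fˣ) : F) = (c : F) := by
            rw [Units.val_mk0, eta, show (c : F) ^ q = (c : F) from c.2, sq, mul_div_assoc, div_self hc0,
              mul_one]
          simp only [MulMemClass.coe_mul, mul_assoc]
          have := hbinv (Units.mk0 (c : F) hc0) ((r : F) * a) ((s : F) * b)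
          rwa [he] at this) ⟨t, t0, t1, t2⟩ 1 1
      simpa using this
    · refine TwistMult.pairing_zero_diag β hbl hbr (fun c hc' a b => ?_) (exists_avoid ?_)
      · obtain ⟨i, j, hj, rfl⟩ := pow_cover hF P.hθ hc'
        rw [gg, if_neg h3] at hj
        obtain rfl : j = 0 := by omega
        rw [pow_zero, mul_one, show eta q (P.θ : F) ^ i = eta q ((P.θ ^ i : Fˣ) : F) by
          rw [eta, eta, Units.val_pow_eq_pow_val, div_pow, ← pow_mul, ← pow_mul, ← pow_mul, ← pow_mul]
          congr 2; ring]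
        exact hbinv _ a b
      · rw [Nat.card_eq_fintype_card, hF]
        have := Nat.mul_le_mul_right q hq
        rw [sq]; omega
  intro z hz h1
  have hle : ⁅(Qu hF).comap π, (Qu hF).comap π⁆ ≤ C := by
    rw [Subgroup.commutator_le]
    intro x hx y hy
    obtain ⟨a, ha⟩ := id hx
    obtain ⟨b, hb⟩ := id hy
    rw [hP.congr (hL a) (hL b) hy (hrel ha) (hrel hb)]
    have := hzero a b
    exact (QuotientGroup.eq_one_iff (N := C.subgroupOf A) _).1 this
  exact hC1 z (hle hz) h1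

/-- q = 2. -/
theorem bracket_le_two (hq : q = 2) :
    ∀ z ∈ ⁅(Qu hF).comap π, (Qu hF).comap π⁆, π z = 1 → z = 1 := by
  classical
  obtain ⟨P⟩ := SUPresent.exists_par hF
  set ω : F := (P.θ : F) with hω
  have hcard : Fintype.card F = 4 := by rw [hF, hq]; norm_num
  have hω3 : ω ^ 3 = 1 := (pow_dvd_iff hF P.hθ 3).2 (by rw [hq]; norm_num)
  have hω1 : ω ≠ 1 := fun e => by
    have := (pow_dvd_iff hF P.hθ 1).1 (by rw [pow_one]; exact e)
    rw [hq] at this; norm_num at this
  have hω2 : ω * ω + ω + 1 = 0 := by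
    have : (ω - 1) * (ω * ω + ω + 1) = 0 := by linear_combination hω3
    exact (mul_eq_zero.1 this).resolve_left (sub_ne_zero.2 hω1)
  have hchar : CharP F 2 := by
    obtain ⟨r, m, hr, hch, hqr, hm⟩ := exists_prime_pow hF
    have : r ∣ 2 := hq ▸ hqr ▸ dvd_pow_self r (by omega)
    obtain rfl := (Nat.prime_dvd_prime_iff_eq hr Nat.prime_two).1 this
    exact hch
  have h2 : (2 : F) = 0 := CharP.cast_eq_zero F 2
  have huniv : ∀ a : F, a = 0 ∨ a = 1 ∨ a = ω ∨ a = 1 + ω := by
    intro a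
    have hmem : a ∈ ({0, 1, ω, 1 + ω} : Finset F) := by
      have h0 : ω ≠ 0 := P.θ.ne_zero
      have h1 : (1 : F) + ω ≠ 0 := fun e => hω1 (by linear_combination e - h2)
      have h4 : ({0, 1, ω, 1 + ω} : Finset F).card = 4 := by
        rw [Finset.card_insert_of_notMem, Finset.card_insert_of_notMem, Finset.card_pair]
        · exact fun e => one_ne_zero (by linear_combination -e)
        · simp [hω1.symm, h0]
        · simp [h0.symm, h1.symm]
      rw [Finset.eq_univ_of_card _ (h4.trans hcard.symm)]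
      exact Finset.mem_univ a
    simpa using hmem
  obtain ⟨x0, hx0⟩ := exists_inQ (hF := hF) (1 : F)
  obtain ⟨y0, hy0⟩ := exists_inQ (hF := hF) ω
  obtain ⟨x, rfl⟩ := hs x0
  obtain ⟨y, rfl⟩ := hs y0
  set c := ⁅x, y⁆ with hcdef
  have hσω : σ ω = ω * ω := by rw [conjHom_apply, hq, sq]
  have hπc : π c = uE hF 0 1 := by
    obtain ⟨b, hb, ex⟩ := hx0
    obtain ⟨e, he, ey⟩ := hy0
    rw [hcdef, map_commutatorElement, ex, ey, uE_bracket hb he, hσω, map_one]
    congr 1
    linear_combination hω2 - (ω + 1) * h2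
  have h01 : (1 : F) + σ 1 + 0 * σ 0 = 0 := by rw [map_one, map_zero]; linear_combination h2
  have hπc1 : π c ≠ 1 := fun e => by
    rw [hπc, ← uE_zero (hF := hF)] at e
    exact one_ne_zero (uE_inj h01 (by simp [-conjHom_apply]) e).2
  have hpt : ∀ w : Cfsg.SU 3 F q, w ∈ Zu hF → w = 1 ∨ w = π c := by
    rintro w ⟨b, hb, rfl⟩
    have hbb : b * b = b := by
      rw [map_zero, mul_zero, add_zero, conjHom_apply, hq, sq] at hb
      linear_combination hb - b * h2
    rcases eq_or_ne b 0 with rfl | hb0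
    · exact Or.inl uE_zero
    · rw [hπc, mul_left_eq_self₀.1 hbb |>.resolve_right hb0]
      exact Or.inr rfl
  have hsq : ∀ {w : Γ} {a : F}, InQ hF (π w) a → a * σ a = 1 → Commute c w := by
    rintro w a ⟨b, hb, e⟩ ha
    have h2w : π (w * w) = π c := by
      rw [map_mul, e, uE_mul hb hb, hπc, show a + a = 0 by linear_combination a * h2]
      congr 1
      linear_combination (b - 1) * h2 - ha
    have hz : π (c⁻¹ * (w * w)) = 1 := by rw [map_mul, map_inv, h2w, inv_mul_cancel]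
    have h3 : Commute w (w * w * (c⁻¹ * (w * w))⁻¹) :=
      ((Commute.refl w).mul_right (Commute.refl w)).mul_right (ker_commute hc hz w).inv_right
    rw [mul_inv_rev, inv_inv, mul_inv_cancel_left] at h3
    exact h3.symm
  have hgenF : ∀ g, π g ∈ Qu hF → g ∈ Subgroup.closure ({x, y} ∪ ((Zu hF).comap π : Set Γ)) := by
    rintro g ⟨a, ha⟩
    set K := Subgroup.closure ({x, y} ∪ ((Zu hF).comap π : Set Γ))
    have hxK : x ∈ K := Subgroup.subset_closure (Or.inl (Or.inl rfl))
    have hyK : y ∈ K := Subgroup.subset_closure (Or.inl (Or.inr rfl))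
    obtain ⟨w, hw, hwq⟩ : ∃ w ∈ K, InQ hF (π w) a := by
      rcases huniv a with rfl | rfl | rfl | rfl
      · exact ⟨1, one_mem _, by rw [map_one]; exact inQ_one⟩
      · exact ⟨x, hxK, hx0⟩
      · exact ⟨y, hyK, hy0⟩
      · exact ⟨x * y, mul_mem hxK hyK, by rw [map_mul]; exact hx0.mul hy0⟩
    rw [← mul_inv_cancel_left w g]
    refine mul_mem hw (Subgroup.subset_closure (Or.inr ?_))
    show InQ hF _ 0
    have := hwq.inv.mul ha
    rw [neg_add_cancel] at this
    rwa [map_mul, map_inv]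
  have hcent : ∀ g, π g ∈ Qu hF → Commute c g := by
    intro g hg
    have hle : Subgroup.closure ({x, y} ∪ ((Zu hF).comap π : Set Γ)) ≤ Subgroup.centralizer {c} := by
      rw [Subgroup.closure_le]
      intro w hw
      refine Subgroup.mem_centralizer_singleton_iff.2 (Commute.eq ?_).symm
      rcases hw with (rfl | rfl) | hw
      · exact hsq hx0 (by rw [map_one, mul_one])
      · exact hsq hy0 (by rw [hσω]; linear_combination hω3)
      · rcases hpt _ hw with e | e
        · exact ker_commute hc e c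
        · have h3 : Commute c (c * (c⁻¹ * w)) :=
            (Commute.refl c).mul_right (ker_commute hc (by rw [map_mul, map_inv, e, inv_mul_cancel]) c)
          rwa [mul_inv_cancel_left] at h3
    exact (Subgroup.mem_centralizer_singleton_iff.1 (hle (hgenF g hg))).symm
  have hP : CPair ((Qu hF).comap π) ((Zu hF).comap π) := cpair_of_cent fun v hv g hg => by
    rcases hpt _ hv with e | e
    · exact (ker_commute hc e g).symm
    · have h3 : Commute (c * (c⁻¹ * v)) g :=
        (hcent g hg).mul_left (ker_commute hc (by rw [map_mul, map_inv, e, inv_mul_cancel]) g).symm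
      rwa [mul_inv_cancel_left] at h3
  have hxQ : x ∈ (Qu hF).comap π := ⟨_, hx0⟩
  have hyQ : y ∈ (Qu hF).comap π := ⟨_, hy0⟩
  have hc2 : c * c = 1 := by
    rw [hcdef, ← hP.mul_left hxQ hxQ hyQ]
    refine hP.one_of_mem ?_ hyQ
    show InQ hF _ 0
    have := hx0.mul hx0
    rw [show (1 : F) + 1 = 0 by linear_combination h2] at this
    rwa [map_mul]
  have hle : ⁅(Qu hF).comap π, (Qu hF).comap π⁆ ≤ Subgroup.zpowers c := by
    refine hP.br_mem_of_gen (S := {x, y}) ?_ (fun g hg => hgenF g hg) ?_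
    · rintro s (rfl | rfl) <;> assumption
    · have hcm : c ∈ Subgroup.zpowers c := Subgroup.mem_zpowers c
      rintro s (rfl | rfl) t (rfl | rfl)
      · rw [commutatorElement_self]; exact one_mem _
      · exact hcm
      · rw [← commutatorElement_inv]; exact inv_mem hcm
      · rw [commutatorElement_self]; exact one_mem _
  intro z hz h1
  obtain ⟨i, rfl⟩ := hle hz
  rcases Int.even_or_odd i with ⟨j, rfl⟩ | ⟨j, rfl⟩
  · show c ^ (j + j) = 1
    rw [zpow_add, ← (Commute.refl c).mul_zpow, hc2, one_zpow]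
  · refine absurd ?_ hπc1
    have hcj : c ^ (2 * j + 1) = c := by
      rw [zpow_add, zpow_one, two_mul, zpow_add, ← (Commute.refl c).mul_zpow, hc2, one_zpow, one_mul]
    exact hcj ▸ h1

end Ext

/-- Central p-extensions of SU₃(q). -/
theorem triv_three (hF : Fintype.card F = q ^ 2) {p : ℕ} [Fact p.Prime] [CharP F p] :
    Triv.{u} 3 F q p := by
  intro Γ _ _ π hs hc hp z hz h1
  obtain ⟨r, m, hr, hchar, hqr, hm⟩ := exists_prime_pow hF
  obtain rfl : p = r := CharP.eq F ‹CharP F p› hchar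
  have hq2 := two_le_q hF
  have hcardQ : Nat.card (Qu hF) = q ^ 3 := by
    rw [← card_Qpar hF]
    refine (Nat.card_eq_of_bijective
      (fun v : Qpar F q => (⟨uE hF v.1.1 v.1.2, uE_mem v.2⟩ : Qu hF)) ⟨fun v w e => ?_, ?_⟩).symm
    · obtain ⟨e1, e2⟩ := uE_inj v.2 w.2 (congrArg Subtype.val e)
      exact Subtype.ext (Prod.ext e1 e2)
    · rintro ⟨g, a, b, hb, rfl⟩
      exact ⟨⟨(a, b), hb⟩, rfl⟩
  have hidx : ¬p ∣ (Qu hF).index := by
    have hmul := Subgroup.card_mul_index (Qu hF)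
    rw [hcardQ, card_SU3 hF, mul_assoc] at hmul
    rw [Nat.eq_of_mul_eq_mul_left (pow_pos (by omega) 3) hmul]
    intro hd
    rcases hr.dvd_mul.1 hd with h | h
    · have h1' : 1 ≤ q ^ 2 := Nat.one_le_pow _ _ (by omega)
      have h2 : p ∣ q ^ 2 := dvd_pow (hqr ▸ dvd_pow_self p (by omega)) two_ne_zero
      have := (Nat.dvd_add_right h).1 (show p ∣ q ^ 2 - 1 + 1 by rwa [Nat.sub_add_cancel h1'])
      exact hr.one_lt.ne' (Nat.dvd_one.1 this)
    · have h2 : p ∣ q ^ 3 := dvd_pow (hqr ▸ dvd_pow_self p (by omega)) (by norm_num)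
      exact hr.one_lt.ne' (Nat.dvd_one.1 ((Nat.dvd_add_right h2).1 h))
  have hz' := mem_bracket_of_index hs hc hp hidx hz h1
  rcases Nat.lt_or_ge q 3 with hq | hq
  · exact bracket_le_two hc hs hp (by omega) z hz' h1
  · exact bracket_le_three hc hs hp hq z hz' h1

end Cfsg.Agent.SUMult
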