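/-
Central extensions of SU_n(q) by p-groups, p the characteristic.

* `Good`: outside (4,2), (4,3), (6,2).
* `triv_step`: from SU_{n-2} or SU_{n-1} to SU_n.
* `triv_all`: `Triv n F q p` for all good n ≥ 3.
-/
import Cfsg.Agent.Lib.SUMult.PtRad
import Cfsg.Agent.Lib.SUMult.ThreeDefining

set_option autoImplicit false
set_option linter.unusedSectionVars false

open scoped commutatorElement

namespace Cfsg.Agent.SUMult

universe u v

/-- Not one of the exceptional pairs. -/
def Good (n q : ℕ) : Prop := ¬(n = 4 ∧ q = 2) ∧ ¬(n = 4 ∧ q = 3) ∧ ¬(n = 6 ∧ q = 2)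

variable {F : Type v} [Field F] [Fintype F] {q : ℕ} (hF : Fintype.card F = q ^ 2)
  {p : ℕ} [Fact p.Prime] [CharP F p]
include hF

/-- One step of the descent. -/
theorem triv_step {r : ℕ} (hr : 2 ≤ r) (hg : Good (r + 1 + 1) q)
    (ih : ∀ m, 3 ≤ m → m < r + 1 + 1 → Good m q → Triv.{u} m F q p) : Triv.{u} (r + 1 + 1) F q p := by
  intro Γ _ _ π hs hc hp z hz h1
  obtain ⟨P, φ, hφ, hL, hle, htor⟩ := exists_pt (F := F) hF r
  have hq := Unitary.two_le_q hF
  obtain ⟨g4, g43, g6⟩ := hg
  have hr' : 3 ≤ r ∨ (r = 2 ∧ 4 ≤ q) := by omega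
  have hJ := mem_bracket_of_index hs hc hp (P.not_dvd_index hF (p := p) (by omega) rfl) hz h1
  have hP := cpair_pt hF P hc hs hr'
  have hbr := bracket_le_pt hF P hc hs hr'
  obtain ⟨R, hR⟩ := exists_rad hF P hc hs hP hbr hr' (by omega) htor
  have hzL := mem_bracket_L hF P hs hR hJ h1
  by_cases hgood : 3 ≤ r ∧ Good r q
  · exact (ih r hgood.1 (by omega) hgood.2).transport hc hs hp hL hzL h1
  · unfold Good at hgood
    exact (ih (r + 1) (by omega) (by omega) ⟨by omega, by omega, by omega⟩).transport hc hs hp hφ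
      (Subgroup.commutator_mono (Subgroup.comap_mono hle) (Subgroup.comap_mono hle) hzL) h1

/-- Central p-extensions of SU_n. -/
theorem triv_all (n : ℕ) : 3 ≤ n → Good n q → Triv.{u} n F q p := by
  induction n using Nat.strong_induction_on with
  | _ n ih =>
    intro hn hg
    rcases Nat.eq_or_lt_of_le hn with h3 | h3
    · subst h3; exact triv_three hF
    · obtain ⟨r, rfl⟩ : ∃ r, n = r + 1 + 1 := ⟨n - 2, by omega⟩
      exact triv_step hF (by omega) hg fun m hm hlt hgm => ih m hlt hm hgm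

end Cfsg.Agent.SUMult
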