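/-
Central extensions of SU₃(q) with kernel of order prime to q split, for every q.

* `Par.B`: the parameter with a given first coordinate and class.
* `Ctx.cl`, `step`, `inv_rule`, `cl_scale`, `indep`: the classes of the torus parts of the Bruhat relations.
* `Ctx.exists_compl`, `exists_section_SU3`: the splitting and the lift of a homomorphism.
-/
import Cfsg.Agent.Lib.SUMult.ThreeModel
import Cfsg.Agent.Lib.SUMult.SLCoprime

set_option autoImplicit false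
set_option linter.unusedSectionVars false
set_option linter.style.haveILetI false

open scoped MatrixGroups

namespace Cfsg.Agent.SUMult

open Cfsg.Agent.Unitary Cfsg.Agent.RegUnip.SU Cfsg.Agent.RegUnip.SU3 Cfsg.Agent.SUPresent
open Cfsg.Agent.PSL2 (upT)
open Cfsg.Agent.PSL2.Pres (dg wM)

universe u v

variable {F : Type*} [Field F] [Fintype F] {q : ℕ} {hF : Fintype.card F = q ^ 2}

local notation "σ" => Cfsg.Agent.Unitary.conjHom hF

section Field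

variable (P : SUPresent.Par hF)

/-- The norm one elements, as powers. -/
def lam (j : ℕ) : F := (P.θ : F) ^ ((q - 1) * j)

/-- The parameter of a class. -/
def Bp (a : F) (j : ℕ) : F := -(a * σ a) / (1 - lam P j)

theorem lam_add (i j : ℕ) : lam P (i + j) = lam P i * lam P j := by rw [lam, lam, lam, ← pow_add, ← mul_add]

theorem lam_eq_one {j : ℕ} : lam P j = 1 ↔ q + 1 ∣ j := by
  have hq := two_le_q hF
  rw [lam, pow_dvd_iff hF P.hθ, show q ^ 2 - 1 = (q - 1) * (q + 1) by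
    rw [mul_comm]; simpa using Nat.sq_sub_sq q 1]
  exact Nat.mul_dvd_mul_iff_left (by omega)

theorem σ_lam (j : ℕ) : σ (lam P j) * lam P j = 1 := by
  rw [conjHom_apply, lam, ← pow_mul, ← pow_add, pow_dvd_iff hF P.hθ, show q ^ 2 - 1 = (q + 1) * (q - 1) by
    simpa using Nat.sq_sub_sq q 1]
  exact ⟨j, by ring⟩

theorem lam_ne {j : ℕ} (hj : ¬q + 1 ∣ j) : 1 - lam P j ≠ 0 := sub_ne_zero.2 fun e => hj ((lam_eq_one P).1 e.symm)

theorem σ_Bp {a : F} {j : ℕ} (hj : ¬q + 1 ∣ j) : σ (Bp P a j) = -lam P j * Bp P a j := by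
  have h1 := σ_lam P j
  have h2 := lam_ne P hj
  have h3 : lam P j ≠ 0 := pow_ne_zero _ P.θ.ne_zero
  rw [Bp, map_div₀, map_neg, σ_norm hF, map_sub, map_one,
    show σ (lam P j) = (lam P j)⁻¹ from eq_inv_of_mul_eq_one_left h1]
  rw [show 1 - (lam P j)⁻¹ = -(1 - lam P j) / lam P j by field_simp; ring, div_div_eq_mul_div, div_neg]
  ring

theorem par_Bp {a : F} {j : ℕ} (hj : ¬q + 1 ∣ j) : Bp P a j + σ (Bp P a j) + a * σ a = 0 := by
  rw [σ_Bp P hj, Bp]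
  have := lam_ne P hj
  field_simp
  ring

theorem Bp_unique {a b : F} {j : ℕ} (hj : ¬q + 1 ∣ j) (hab : b + σ b + a * σ a = 0) (h : σ b = -lam P j * b) :
    b = Bp P a j := by
  rw [Bp, eq_div_iff (lam_ne P hj)]
  linear_combination hab - h

theorem Bp_ne {a : F} {j : ℕ} (ha : a ≠ 0) (hj : ¬q + 1 ∣ j) : Bp P a j ≠ 0 :=
  div_ne_zero (neg_ne_zero.2 (mul_ne_zero ha ((map_ne_zero σ).2 ha))) (lam_ne P hj)

include P in
theorem par_ne {a b : F} (hab : b + σ b + a * σ a = 0) (ha : a ≠ 0) : b ≠ 0 := fun e => by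
  rw [e, map_zero, zero_add, zero_add] at hab
  exact mul_ne_zero ha ((map_ne_zero σ).2 ha) hab

theorem exists_Bp {a b : F} (ha : a ≠ 0) (hab : b + σ b + a * σ a = 0) :
    ∃ j, 1 ≤ j ∧ j ≤ q ∧ b = Bp P a j := by
  have hq := two_le_q hF
  have hb := par_ne P hab ha
  have hσb : σ b ≠ 0 := (map_ne_zero σ).2 hb
  obtain ⟨m, hm⟩ := PSL2.Pres.exists_pow_eq P.hθ (-σ b / b) (div_ne_zero (neg_ne_zero.2 hσb) hb)
  have h1 : (P.θ : F) ^ (m * (q + 1)) = 1 := by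
    rw [pow_mul, hm, pow_succ, ← conjHom_apply hF, map_div₀, map_neg, σσ hF]
    field_simp
  rw [pow_dvd_iff hF P.hθ, show q ^ 2 - 1 = (q - 1) * (q + 1) by rw [mul_comm]; simpa using Nat.sq_sub_sq q 1] at h1
  obtain ⟨j, rfl⟩ := Nat.dvd_of_mul_dvd_mul_right (by omega) h1
  have hlam : lam P (j % (q + 1)) = lam P j := by
    conv_rhs => rw [← Nat.div_add_mod j (q + 1), lam_add, (lam_eq_one P).2 (dvd_mul_right _ _), one_mul]
  have hne : ¬q + 1 ∣ j % (q + 1) := fun h => by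
    rw [← lam_eq_one P, hlam, lam, hm, div_eq_one_iff_eq hb] at h
    exact mul_ne_zero ha ((map_ne_zero σ).2 ha) (by linear_combination hab + h)
  refine ⟨j % (q + 1), Nat.pos_of_ne_zero fun e => hne (e ▸ dvd_zero _), ?_, Bp_unique P hne hab ?_⟩
  · have := Nat.mod_lt j (show 0 < q + 1 by omega); omega
  · rw [hlam, lam, hm]; field_simp

theorem par_left {a b : F} (hab : b + σ b + a * σ a = 0) (hb : b ≠ 0) :
    -(P.δ ^ 2) / b + σ (-(P.δ ^ 2) / b) + -(P.δ * a) / b * σ (-(P.δ * a) / b) = 0 := by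
  have hσb : σ b ≠ 0 := (map_ne_zero σ).2 hb
  simp only [map_div₀, map_neg, map_pow, map_mul, P.hσ]
  field_simp
  linear_combination (-P.δ ^ 2) * hab

theorem par_right {a b : F} (hab : b + σ b + a * σ a = 0) (hb : b ≠ 0) :
    -(P.δ ^ 2) / b + σ (-(P.δ ^ 2) / b) + -(P.δ * a) / σ b * σ (-(P.δ * a) / σ b) = 0 := by
  have hσb : σ b ≠ 0 := (map_ne_zero σ).2 hb
  simp only [map_div₀, map_neg, map_pow, map_mul, P.hσ, σσ hF]
  field_simp
  linear_combination (-P.δ ^ 2) * hab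

end Field

/-- A function on ℕ with periods 3 and m prime to 3 is constant. -/
theorem const_of_periods {α : Type*} (f : ℕ → α) {m : ℕ} (h3 : ∀ n, f (n + 3) = f n) (hm : ∀ n, f (n + m) = f n)
    (h : ¬3 ∣ m) (n : ℕ) : f n = f 0 := by
  have hk : ∀ k n, f (n + 3 * k) = f n := by
    intro k
    induction k with
    | zero => simp
    | succ k ih => intro n; rw [mul_add, mul_one, ← add_assoc, h3, ih]
  have h1 : ∀ n, f (n + 1) = f n := fun n => by
    rcases (show m % 3 = 1 ∨ m % 3 = 2 by omega) with e | e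
    · rw [← hk (m / 3) (n + 1), show n + 1 + 3 * (m / 3) = n + m by omega, hm]
    · rw [← hm n, ← hm (n + m), show n + m + m = n + 1 + 3 * (2 * (m / 3) + 1) by omega, hk]
  induction n with
  | zero => rfl
  | succ n ih => rw [h1, ih]

variable (hF) in
/-- The data: a central extension and the lift of the long root SL₂. -/
structure Ctx (p : ℕ) (Γ : Type u) [Group Γ] where
  P : SUPresent.Par hF
  π : Γ →* Cfsg.SU 3 F q
  hc : π.ker ≤ Subgroup.center Γ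
  hco : (Nat.card π.ker).Coprime p
  hs : Function.Surjective π
  E : SL(2, fixedField hF) →* Γ
  hE' : ∀ A, π (E A) = emb P.hδ P.hσ A

namespace Ctx

variable {p : ℕ} [Fact p.Prime] [CharP F p] {Γ : Type u} [Group Γ] [Finite Γ] (S : Ctx hF p Γ)

/-- The Weyl element. -/
def t : Γ := S.E wM

/-- The torus of the long root SL₂. -/
def Dd : Subgroup Γ := (S.E.comp dg).range

/-- The preimage of the torus. -/
noncomputable def TT : Subgroup Γ := (hE hF).range.comap S.π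

theorem π_t : S.π S.t = emb S.P.hδ S.P.hσ wM := S.hE' _

theorem Dd_le : S.Dd ≤ S.TT := by
  rintro _ ⟨x, rfl⟩
  exact ⟨_, ((S.hE' (dg x)).trans (emb_dg _ _ x)).symm⟩

theorem E_inj {A B : SL(2, fixedField hF)} (e : S.π (S.E A) = S.π (S.E B)) : A = B :=
  emb_injective S.P.hδ S.P.hσ (by rwa [← S.hE', ← S.hE'])

theorem conj_range {τ : Γ} (hτ : τ ∈ S.TT) (A : SL(2, fixedField hF)) : τ * S.E A * τ⁻¹ ∈ S.E.range := by
  haveI : Fintype (fixedField hF) := Fintype.ofFinite _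
  haveI : CharP (fixedField hF) p := (fixedField hF).subtype.charP Subtype.val_injective p
  obtain ⟨z, hz⟩ := hτ
  suffices hle : ⊤ ≤ S.E.range.comap ((MulAut.conj τ).toMonoidHom.comp S.E) from hle (Subgroup.mem_top A)
  rw [← Linear.closure_slTvSet (ι := Fin 2) (F := fixedField hF), Subgroup.closure_le]
  rintro _ ⟨i, j, hij, c, rfl⟩
  show τ * S.E _ * τ⁻¹ ∈ S.E.range
  obtain ⟨A', hA'⟩ := conj_emb S.P.hδ S.P.hσ z (Matrix.SpecialLinearGroup.transvection hij c)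
  have hx := ((isP_tv (p := p) hij c).map S.E).conj τ
  have e : S.π (τ * S.E (Matrix.SpecialLinearGroup.transvection hij c) * τ⁻¹) = S.π (S.E A') := by
    rw [map_mul, map_mul, map_inv, S.hE', S.hE', ← hz, hA']
  obtain ⟨k, hk⟩ := hx.map S.π
  rw [e, S.hE', ← map_pow, ← map_one (emb S.P.hδ S.P.hσ)] at hk
  have hA : IsP p A' := ⟨k, emb_injective _ _ hk⟩
  exact ⟨A', (isP_eq S.hc S.hco hx (hA.map S.E) e).symm⟩

/-- The Weyl element acts trivially modulo the torus of the long root SL₂. -/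
theorem t_bracket {τ : Γ} (hτ : τ ∈ S.TT) : S.t * τ * S.t⁻¹ * τ⁻¹ ∈ S.Dd := by
  obtain ⟨A, hA⟩ := S.conj_range hτ (wM⁻¹)
  rw [map_inv] at hA
  have e : S.t * τ * S.t⁻¹ * τ⁻¹ = S.E (wM * A) := by rw [map_mul, hA, Ctx.t]; group
  obtain ⟨z, hz⟩ := hτ
  have hn : (⟨(z : F) * σ z, σ_norm hF _⟩ : fixedField hF) ≠ 0 := fun e =>
    mul_ne_zero z.ne_zero ((map_ne_zero σ).2 z.ne_zero) (congrArg Subtype.val e)
  set x : (fixedField hF)ˣ := (Units.mk0 _ hn)⁻¹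
  refine ⟨x, ?_⟩
  rw [MonoidHom.comp_apply, e]
  congr 1
  refine S.E_inj ?_
  rw [← e]
  simp only [x, map_mul, map_inv]
  rw [S.π_t, ← hz, emb_wM_hE, S.hE', emb_dg]
  simp only [← map_pow, ← map_inv, ← map_mul]
  congr 1
  exact Units.ext (by simp [conjHom_apply, mul_comm])

theorem TT_comm {x y : Γ} (hx : x ∈ S.TT) (hy : y ∈ S.TT) : Commute x y := by
  obtain ⟨g, hg⟩ := S.hs (hE hF S.P.θ)
  have key : ∀ {w : Γ}, w ∈ S.TT → ∃ (i : ℤ) (k : Γ), S.π k = 1 ∧ w = g ^ i * k := by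
    rintro w ⟨z, hz⟩
    obtain ⟨i, rfl⟩ := S.P.hθ z
    refine ⟨i, (g ^ i)⁻¹ * w, ?_, by group⟩
    rw [map_mul, map_inv, map_zpow, hg, ← hz]
    show (hE hF S.P.θ ^ i)⁻¹ * hE hF (S.P.θ ^ i) = 1
    rw [map_zpow, inv_mul_cancel]
  obtain ⟨i, k, hk, rfl⟩ := key hx
  obtain ⟨j, l, hl, rfl⟩ := key hy
  exact ((((Commute.refl g).zpow_zpow i j).mul_right (ker_commute S.hc hl _)).mul_left
    (ker_commute S.hc hk _).symm)

theorem t_conj_mem {τ : Γ} (hτ : τ ∈ S.TT) : S.t * τ * S.t⁻¹ ∈ S.TT := by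
  have := mul_mem (S.Dd_le (S.t_bracket hτ)) hτ
  rwa [inv_mul_cancel_right] at this

theorem E_dg_mem (x : (fixedField hF)ˣ) : S.E (dg x) ∈ S.Dd := ⟨x, rfl⟩

theorem t_sq : S.t * S.t ∈ S.Dd := by
  rw [Ctx.t, ← map_mul, PSL2.Pres.wM_sq]
  exact S.E_dg_mem _

/-- The lifts of the unipotent radical. -/
def Qh : Subgroup Γ where
  carrier := {g | IsP p g ∧ S.π g ∈ Qu hF}
  one_mem' := ⟨IsP.one, by rw [map_one]; exact one_mem _⟩
  mul_mem' := by
    rintro g g' ⟨h1, h2⟩ ⟨k1, k2⟩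
    have h3 : S.π (g * g') ∈ Qu hF := by rw [map_mul]; exact mul_mem h2 k2
    refine ⟨?_, h3⟩
    rw [← hat_eq S.hc S.hco S.hs h1 rfl, ← hat_eq S.hc S.hco S.hs k1 rfl,
      ← hat_mul S.hc S.hco S.hs (isPGroup_Qu p) h2 k2]
    exact isP_hat S.hc S.hco S.hs (IsP.of_mem (isPGroup_Qu p) (mul_mem h2 k2))
  inv_mem' := by
    rintro g ⟨h1, h2⟩
    exact ⟨h1.inv, by rw [map_inv]; exact inv_mem h2⟩

theorem hat_mem {a b : F} (h : b + σ b + a * σ a = 0) : hat S.π p (uE hF a b) ∈ S.Qh :=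
  ⟨isP_hat S.hc S.hco S.hs (isP_uE h), by rw [σ_hat S.hc S.hco S.hs (isP_uE h)]; exact uE_mem h⟩

theorem π_hat {a b : F} (h : b + σ b + a * σ a = 0) : S.π (hat S.π p (uE hF a b)) = uE hF a b :=
  σ_hat S.hc S.hco S.hs (isP_uE h)

theorem Qh_eq {y : Γ} (hy : y ∈ S.Qh) {g : Cfsg.SU 3 F q} (e : S.π y = g) : hat S.π p g = y :=
  hat_eq S.hc S.hco S.hs hy.1 e

theorem Qh_conj {y τ : Γ} (hy : y ∈ S.Qh) (hτ : τ ∈ S.TT) : τ * y * τ⁻¹ ∈ S.Qh := by
  obtain ⟨z, hz⟩ := hτ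
  exact ⟨hy.1.conj τ, by rw [map_mul, map_mul, map_inv, ← hz]; exact Qu_conj hy.2 z⟩

theorem upT_mem (r : fixedField hF) : S.E (upT r) ∈ S.Qh := by
  refine ⟨⟨1, by rw [pow_one, ← map_pow, upT_pow_p, map_one]⟩, ?_⟩
  rw [S.hE', emb_upT]
  exact uE_mem (by rw [map_zero, map_mul, S.P.hσ, σ_coe]; ring)

/-- The torus part of a Bruhat relation. -/
noncomputable def tau (a b : F) : Γ :=
  (hat S.π p (uE hF (-(S.P.δ * a) / b) (-(S.P.δ ^ 2) / b)))⁻¹ * (S.t * hat S.π p (uE hF a b) * S.t⁻¹) *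
    (hat S.π p (uE hF (-(S.P.δ * a) / σ b) (-(S.P.δ ^ 2) / b)))⁻¹ * S.t⁻¹

theorem tau_spec (a b : F) : S.t * hat S.π p (uE hF a b) * S.t⁻¹ =
    hat S.π p (uE hF (-(S.P.δ * a) / b) (-(S.P.δ ^ 2) / b)) * S.tau a b * S.t *
      hat S.π p (uE hF (-(S.P.δ * a) / σ b) (-(S.P.δ ^ 2) / b)) := by
  rw [tau]; group

theorem π_tau {a b : F} (hab : b + σ b + a * σ a = 0) (hb : b ≠ 0) {z : Fˣ} (hz : (z : F) = -S.P.δ / σ b) :
    S.π (S.tau a b) = hE hF z := by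
  rw [tau, map_mul, map_mul, map_mul, map_mul, map_mul, map_inv, map_inv, map_inv, S.π_hat hab,
    S.π_hat (par_left S.P hab hb), S.π_hat (par_right S.P hab hb), S.π_t, bruhat S.P.hδ S.P.hσ hab hb hz]
  group

theorem tau_mem {a b : F} (hab : b + σ b + a * σ a = 0) (hb : b ≠ 0) : S.tau a b ∈ S.TT :=
  ⟨Units.mk0 _ (div_ne_zero (neg_ne_zero.2 S.P.hδ) ((map_ne_zero σ).2 hb)), (S.π_tau hab hb rfl).symm⟩

/-- The torus part is determined. -/
theorem tau_eq {a b : F} (hab : b + σ b + a * σ a = 0) (hb : b ≠ 0) {y1 T y2 : Γ} (h1 : y1 ∈ S.Qh)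
    (hT : T ∈ S.TT) (h2 : y2 ∈ S.Qh) (e : S.t * hat S.π p (uE hF a b) * S.t⁻¹ = y1 * T * S.t * y2) :
    S.tau a b = T := by
  obtain ⟨z, hz⟩ := hT
  set w : Fˣ := Units.mk0 _ (div_ne_zero (neg_ne_zero.2 S.P.hδ) ((map_ne_zero σ).2 hb))
  have e' := congrArg S.π e
  rw [map_mul, map_mul, map_inv, S.π_hat hab, S.π_t, bruhat S.P.hδ S.P.hσ hab hb (z := w) rfl, map_mul, map_mul,
    map_mul, ← hz, S.π_t] at e'
  obtain ⟨i1, -, i2⟩ := big_inj S.P.hδ S.P.hσ (uE_mem (par_left S.P hab hb)) (uE_mem (par_right S.P hab hb))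
    h1.2 h2.2 e'
  rw [tau, S.Qh_eq h1 i1.symm, S.Qh_eq h2 i2.symm, e]
  group

/-- The torus of the long root SL₂ inside the preimage of the torus. -/
noncomputable def D0 : Subgroup S.TT := S.Dd.subgroupOf S.TT

instance : S.D0.Normal := ⟨fun n hn g => by
  have : g * n * g⁻¹ = n := by
    rw [show g * n = n * g from Subtype.ext (S.TT_comm g.2 n.2).eq, mul_inv_cancel_right]
  rwa [this]⟩

open Classical in
/-- The class modulo the torus of the long root SL₂. -/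
noncomputable def cls (x : Γ) : S.TT ⧸ S.D0 :=
  if h : x ∈ S.TT then QuotientGroup.mk (⟨x, h⟩ : S.TT) else 1

theorem cls_mul {x y : Γ} (hx : x ∈ S.TT) (hy : y ∈ S.TT) : S.cls (x * y) = S.cls x * S.cls y := by
  rw [cls, cls, cls, dif_pos hx, dif_pos hy, dif_pos (mul_mem hx hy)]
  rfl

theorem cls_inv {x : Γ} (hx : x ∈ S.TT) : S.cls x⁻¹ = (S.cls x)⁻¹ := by
  rw [cls, cls, dif_pos hx, dif_pos (inv_mem hx)]
  rfl

theorem cls_eq_one {x : Γ} (hx : x ∈ S.TT) : S.cls x = 1 ↔ x ∈ S.Dd := by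
  rw [cls, dif_pos hx]
  exact QuotientGroup.eq_one_iff _

theorem cls_t {x : Γ} (hx : x ∈ S.TT) : S.cls (S.t * x * S.t⁻¹) = S.cls x := by
  have h := S.t_bracket hx
  rw [show S.t * x * S.t⁻¹ = S.t * x * S.t⁻¹ * x⁻¹ * x by group, S.cls_mul (S.Dd_le h) hx,
    (S.cls_eq_one (S.Dd_le h)).2 h, one_mul]

/-- The class of a relation. -/
noncomputable def cl (a : F) (j : ℕ) : S.TT ⧸ S.D0 := S.cls (S.tau a (Bp S.P a j))

theorem scale {a b : F} (hab : b + σ b + a * σ a = 0) (hb : b ≠ 0) (s : Fˣ) :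
    S.cls (S.tau (eta q (s : F) * a) ((s : F) * σ s * b)) = S.cls (S.tau a b) := by
  obtain ⟨h, hh⟩ := S.hs (hE hF s)
  have hhT : h ∈ S.TT := ⟨s, hh.symm⟩
  have hh' := S.t_conj_mem hhT
  have hth' := S.t_conj_mem (inv_mem hh')
  have hp := par_scale hab (s : F) s.ne_zero
  have hb' : (s : F) * σ s * b ≠ 0 := mul_ne_zero (mul_ne_zero s.ne_zero ((map_ne_zero σ).2 s.ne_zero)) hb
  have hT : S.t * h * S.t⁻¹ * S.tau a b * (S.t * (S.t * h * S.t⁻¹)⁻¹ * S.t⁻¹) ∈ S.TT :=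
    mul_mem (mul_mem hh' (S.tau_mem hab hb)) hth'
  rw [S.tau_eq hp hb' (S.Qh_conj (S.hat_mem (par_left S.P hab hb)) hh') hT
    (S.Qh_conj (S.hat_mem (par_right S.P hab hb)) hh') ?_]
  · rw [S.cls_mul (mul_mem hh' (S.tau_mem hab hb)) hth', S.cls_mul hh' (S.tau_mem hab hb), S.cls_t (inv_mem hh'),
      S.cls_inv hh']
    have hc : Commute (S.cls (S.t * h * S.t⁻¹)) (S.cls (S.tau a b)) := by
      rw [Commute, SemiconjBy, ← S.cls_mul hh' (S.tau_mem hab hb), ← S.cls_mul (S.tau_mem hab hb) hh',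
        (S.TT_comm hh' (S.tau_mem hab hb)).eq]
    rw [hc.eq, mul_inv_cancel_right]
  · have e := hat_conj S.hc S.hco S.hs h (isP_uE (p := p) hab)
    rw [hh, hE_uE s hab] at e
    rw [← e, show S.t * (h * hat S.π p (uE hF a b) * h⁻¹) * S.t⁻¹ =
      S.t * h * S.t⁻¹ * (S.t * hat S.π p (uE hF a b) * S.t⁻¹) * (S.t * h * S.t⁻¹)⁻¹ by group, S.tau_spec]
    group

theorem cl_scale {a : F} (ha : a ≠ 0) {j : ℕ} (hj : ¬q + 1 ∣ j) (s : Fˣ) :
    S.cl (eta q (s : F) * a) j = S.cl a j := by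
  have hp := par_Bp S.P (a := a) hj
  have e : (s : F) * σ s * Bp S.P a j = Bp S.P (eta q (s : F) * a) j :=
    Bp_unique S.P hj (par_scale hp _ s.ne_zero) (by rw [map_mul, σ_norm hF, σ_Bp S.P hj]; ring)
  rw [cl, cl, ← e, S.scale hp (Bp_ne S.P ha hj)]

theorem cl_fixed {a : F} (ha : a ≠ 0) {j : ℕ} (hj : ¬q + 1 ∣ j) {k : F} (hk : σ k = k) (hk0 : k ≠ 0) :
    S.cl (k * a) j = S.cl a j := by
  have h := S.cl_scale ha hj (Units.mk0 k hk0)
  rw [Units.val_mk0, eta, ← conjHom_apply hF, hk, sq, mul_div_assoc, div_self hk0, mul_one] at h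
  exact h

theorem cl_congr {a : F} {i j : ℕ} (h : lam S.P i = lam S.P j) : S.cl a i = S.cl a j := by
  simp only [cl, Bp, h]

/-- The relation of the inverse. -/
theorem inv_rule {a : F} (ha : a ≠ 0) {j j' : ℕ} (hj : ¬q + 1 ∣ j) (hjj : q + 1 ∣ j + j') :
    S.cl (-a) j' = (S.cl a j)⁻¹ := by
  have hj' : ¬q + 1 ∣ j' := fun h => hj ((Nat.dvd_add_left h).1 hjj)
  have hp := par_Bp S.P (a := a) hj
  have hb := Bp_ne S.P ha hj
  have hlam : lam S.P j * lam S.P j' = 1 := by rw [← lam_add, lam_eq_one]; exact hjj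
  set b := Bp S.P a j with hbdef
  have hσb : σ b = -lam S.P j * b := σ_Bp S.P hj
  have hp' : σ b + σ (σ b) + -a * σ (-a) = 0 := by rw [σσ hF, map_neg]; linear_combination hp
  have e : σ b = Bp S.P (-a) j' := Bp_unique S.P hj' hp' (by rw [σσ hF, hσb]; linear_combination (-b) * hlam)
  rw [cl, ← e, cl, ← hbdef]
  have h1 := S.hat_mem (par_left S.P hp hb)
  have h2 := S.hat_mem (par_right S.P hp hb)
  have hτ := S.tau_mem hp hb
  have htt := S.Dd_le S.t_sq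
  have hti := S.t_conj_mem (inv_mem hτ)
  rw [S.tau_eq hp' ((map_ne_zero σ).2 hb) (inv_mem h2) (mul_mem (inv_mem htt) hti) (inv_mem h1) ?_]
  · rw [S.cls_mul (inv_mem htt) hti, S.cls_inv htt, (S.cls_eq_one htt).2 S.t_sq, S.cls_t (inv_mem hτ),
      S.cls_inv hτ, inv_one, one_mul]
  · rw [show hat S.π p (uE hF (-a) (σ b)) = (hat S.π p (uE hF a b))⁻¹ by
      rw [← hat_inv S.hc S.hco S.hs (isP_uE hp), uE_inv hp], show S.t * (hat S.π p (uE hF a b))⁻¹ * S.t⁻¹ =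
      (S.t * hat S.π p (uE hF a b) * S.t⁻¹)⁻¹ by group, S.tau_spec]
    group

/-- The relation of a product with a long root element. -/
theorem step {a : F} (ha : a ≠ 0) {i j : ℕ} (hi : ¬q + 1 ∣ i) (hj : ¬q + 1 ∣ j) (hij : ¬q + 1 ∣ i + j) :
    S.cl a (i + j) = S.cl a i * S.cl (a * (S.P.θ : F) ^ i) j := by
  have hq := two_le_q hF
  have hab := par_Bp S.P (a := a) hi
  have hab' := par_Bp S.P (a := a) hij
  have hb := Bp_ne S.P ha hi
  have hb' := Bp_ne S.P ha hij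
  have hσb := σ_Bp S.P (a := a) hi
  have hσb' := σ_Bp S.P (a := a) hij
  rw [lam_add] at hσb'
  simp only [cl]
  set b := Bp S.P a i
  set b' := Bp S.P a (i + j)
  have hl : lam S.P i ≠ 0 := pow_ne_zero _ S.P.θ.ne_zero
  have hδ := S.P.hδ
  have hεσ : σ (b' - b) = -(b' - b) := by rw [map_sub]; linear_combination hab' - hab
  have hne : b' - b ≠ 0 := fun e => by
    rw [sub_eq_zero] at e
    rw [e, hσb] at hσb'
    have h1 : lam S.P i * (1 - lam S.P j) * b = 0 := by linear_combination -hσb'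
    exact mul_ne_zero (mul_ne_zero hl (lam_ne S.P hj)) hb h1
  have hr : ((b' - b) / S.P.δ) ^ q = (b' - b) / S.P.δ := by
    show σ ((b' - b) / S.P.δ) = _
    rw [map_div₀, hεσ, S.P.hσ, neg_div_neg_eq]
  have hr0 : (⟨_, hr⟩ : fixedField hF) ≠ 0 := fun e => div_ne_zero hne hδ (congrArg Subtype.val e)
  set r := Units.mk0 (⟨_, hr⟩ : fixedField hF) hr0
  set x0 := hat S.π p (uE hF a b)
  set z1 := S.E (upT (-((r⁻¹ : (fixedField hF)ˣ) : fixedField hF)))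
  have hpar0 : S.P.δ * ((b' - b) / S.P.δ) + σ (S.P.δ * ((b' - b) / S.P.δ)) + 0 * σ 0 = 0 := by
    rw [mul_div_cancel₀ _ hδ, hεσ]; ring
  have hx : hat S.π p (uE hF a b') = x0 * S.E (upT (r : fixedField hF)) := by
    refine S.Qh_eq (mul_mem (S.hat_mem hab) (S.upT_mem _)) ?_
    rw [map_mul, S.π_hat hab, S.hE', emb_upT, show ((r : fixedField hF) : F) = (b' - b) / S.P.δ from rfl,
      uE_mul hab hpar0]
    congr 1
    · ring
    · rw [mul_div_cancel₀ _ hδ]; ring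
  have hrone : S.t * S.E (upT (r : fixedField hF)) * S.t⁻¹ = z1 * S.E (dg r⁻¹) * S.t * z1 := by
    rw [Ctx.t, ← map_inv, ← map_mul, ← map_mul, PSL2.Pres.wM_upT r, map_mul, map_mul, map_mul]
  -- the middle element
  set z : F := -S.P.δ / σ b with hzdef
  set c := a * (S.P.θ : F) ^ i
  have hσbn : σ b ≠ 0 := (map_ne_zero σ).2 hb
  have hz0 : z ≠ 0 := div_ne_zero (neg_ne_zero.2 hδ) hσbn
  have hσz : σ z = lam S.P i * z := by
    rw [hzdef, map_div₀, map_neg, S.P.hσ, σσ hF, hσb]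
    field_simp
  have hθi : (S.P.θ : F) ^ i ≠ 0 := pow_ne_zero _ S.P.θ.ne_zero
  set k := z / (S.P.θ : F) ^ i with hkdef
  have hk0 : k ≠ 0 := div_ne_zero hz0 hθi
  have hk : σ k = k := by
    rw [hkdef, map_div₀, hσz, map_pow, conjHom_apply, ← pow_mul,
      show q * i = (q - 1) * i + i by rw [← Nat.succ_mul, show (q - 1).succ = q by omega], pow_add, ← lam]
    field_simp
  clear_value k
  have hck : c ≠ 0 := mul_ne_zero ha hθi
  set b2 := -(S.P.δ ^ 2) * b' / (b * (b' - b)) with hb2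
  have hz1 : S.P.δ * -(S.P.δ / (b' - b)) + σ (S.P.δ * -(S.P.δ / (b' - b))) + 0 * σ 0 = 0 := by
    rw [map_mul, map_neg, map_div₀, S.P.hσ, hεσ, neg_div_neg_eq]; ring
  have hy2 : S.π (hat S.π p (uE hF (-(S.P.δ * a) / σ b) (-(S.P.δ ^ 2) / b)) * z1) = uE hF (k * c) b2 := by
    rw [map_mul, S.π_hat (par_right S.P hab hb), S.hE', emb_upT,
      show ((-((r⁻¹ : (fixedField hF)ˣ) : fixedField hF) : fixedField hF) : F) = -(S.P.δ / (b' - b)) by
        rw [Units.val_inv_eq_inv_val]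
        show -(((b' - b) / S.P.δ)⁻¹) = _
        rw [inv_div], uE_mul (par_right S.P hab hb) hz1]
    congr 1
    · simp only [c, hkdef, hzdef]; field_simp; ring
    · rw [hb2]; field_simp; ring
  have hpar2 : b2 + σ b2 + k * c * σ (k * c) = 0 := by
    have h := par_mul (par_right S.P hab hb) hz1
    have e1 : -(S.P.δ * a) / σ b + 0 = k * c := by simp only [c, hkdef, hzdef]; field_simp; ring
    have e2 : -(S.P.δ ^ 2) / b + S.P.δ * -(S.P.δ / (b' - b)) - 0 * σ (-(S.P.δ * a) / σ b) = b2 := by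
      rw [hb2]; field_simp; ring
    rwa [e1, e2] at h
  have hσb2 : σ b2 = -lam S.P j * b2 := by
    rw [hb2, map_div₀, map_mul, map_mul, map_neg, map_pow, S.P.hσ, hεσ, hσb, hσb']
    field_simp
  have hb2c : b2 = k * σ k * Bp S.P c j := by
    have : b2 / (k * σ k) = Bp S.P c j := Bp_unique S.P hj (by
      rw [map_div₀, σ_norm hF]
      have h2 : k * σ k ≠ 0 := by rw [hk]; exact mul_ne_zero hk0 hk0
      field_simp
      rw [map_mul] at hpar2
      linear_combination hpar2) (by rw [map_div₀, σ_norm hF, hσb2, mul_div_assoc])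
    rw [← this, hk]; field_simp
  have heta : eta q k = k := by rw [eta, ← conjHom_apply hF, hk, sq, mul_div_assoc, div_self hk0, mul_one]
  have hcl : S.cls (S.tau (k * c) b2) = S.cls (S.tau c (Bp S.P c j)) := by
    have h := S.scale (par_Bp S.P (a := c) hj) (Bp_ne S.P hck hj) (Units.mk0 k hk0)
    rwa [Units.val_mk0, heta, ← hb2c] at h
  have hb2ne : b2 ≠ 0 := by
    rw [hb2c]
    exact mul_ne_zero (mul_ne_zero hk0 ((map_ne_zero σ).2 hk0)) (Bp_ne S.P hck hj)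
  have hmid : hat S.π p (uE hF (k * c) b2) = hat S.π p (uE hF (-(S.P.δ * a) / σ b) (-(S.P.δ ^ 2) / b)) * z1 :=
    S.Qh_eq (mul_mem (S.hat_mem (par_right S.P hab hb)) (S.upT_mem _)) hy2
  have hspec := S.tau_spec (k * c) b2
  rw [hmid] at hspec
  set τ := S.tau a b
  set τ' := S.tau (k * c) b2
  set y1 := hat S.π p (uE hF (-(S.P.δ * a) / b) (-(S.P.δ ^ 2) / b))
  set y2 := hat S.π p (uE hF (-(S.P.δ * a) / σ b) (-(S.P.δ ^ 2) / b))
  set y1' := hat S.π p (uE hF (-(S.P.δ * (k * c)) / b2) (-(S.P.δ ^ 2) / b2))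
  set y2' := hat S.π p (uE hF (-(S.P.δ * (k * c)) / σ b2) (-(S.P.δ ^ 2) / b2))
  have hτ : τ ∈ S.TT := S.tau_mem hab hb
  have hτ' : τ' ∈ S.TT := S.tau_mem hpar2 hb2ne
  set D' := S.t * S.E (dg r⁻¹) * S.t⁻¹ * (S.t * S.t)
  have hD : D' ∈ S.Dd := by
    refine mul_mem ?_ S.t_sq
    rw [Ctx.t, ← map_inv, ← map_mul, ← map_mul, PSL2.Pres.wM_dg, map_inv]
    exact inv_mem (S.E_dg_mem _)
  have hDT := S.Dd_le hD
  have htD := S.t_conj_mem hDT
  have hT : τ * τ' * (S.t * D' * S.t⁻¹) ∈ S.TT := mul_mem (mul_mem hτ hτ') htD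
  rw [S.tau_eq hab' hb' (y1 := y1 * (τ * y1' * τ⁻¹)) (y2 := D'⁻¹ * y2' * D'⁻¹⁻¹ * z1)
    (mul_mem (S.hat_mem (par_left S.P hab hb)) (S.Qh_conj (S.hat_mem (par_left S.P hpar2 hb2ne)) hτ)) hT
    (mul_mem (S.Qh_conj (S.hat_mem (par_right S.P hpar2 hb2ne)) (inv_mem hDT)) (S.upT_mem _)) ?_]
  · rw [S.cls_mul (mul_mem hτ hτ') htD, S.cls_mul hτ hτ', S.cls_t hDT, (S.cls_eq_one hDT).2 hD, mul_one, ← hcl]
  · calc S.t * hat S.π p (uE hF a b') * S.t⁻¹
        = (S.t * x0 * S.t⁻¹) * (S.t * S.E (upT (r : fixedField hF)) * S.t⁻¹) := by rw [hx]; group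
      _ = (y1 * τ * S.t * y2) * (z1 * S.E (dg r⁻¹) * S.t * z1) := by rw [hrone, S.tau_spec]
      _ = y1 * τ * (S.t * (y2 * z1) * S.t⁻¹) * D' * z1 := by simp only [D']; group
      _ = _ := by rw [hspec]; group

theorem cl_period {a : F} (j k : ℕ) : S.cl a (j + (q + 1) * k) = S.cl a j :=
  S.cl_congr (by rw [lam_add, (lam_eq_one S.P).2 (dvd_mul_right _ _), mul_one])

theorem cl_neg {a : F} (ha : a ≠ 0) {j : ℕ} (hj : ¬q + 1 ∣ j) : S.cl (-a) j = S.cl a j := by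
  rw [← neg_one_mul a]
  exact S.cl_fixed ha hj (by rw [map_neg, map_one]) (neg_ne_zero.2 one_ne_zero)

theorem indep_aux {j : ℕ} (hj : ¬q + 1 ∣ j) (h : ¬3 ∣ q + 1 ∨ ¬3 ∣ j) {a : F} (ha : a ≠ 0) :
    S.cl a j = S.cl 1 j := by
  have hq := two_le_q hF
  let f : ℕ → S.TT ⧸ S.D0 := fun n => S.cl ((S.P.θ : F) ^ n) j
  have hθn : ∀ n, (S.P.θ : F) ^ n ≠ 0 := fun n => pow_ne_zero _ S.P.θ.ne_zero
  have h1 : ∀ n, f (n + (q + 1)) = f n := fun n => by
    show S.cl _ j = _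
    rw [pow_add, mul_comm]
    refine S.cl_fixed (hθn n) hj ?_ (hθn _)
    rw [conjHom_apply, pow_q_succ_fixed hF]
  have h2 : ∀ n, f (n + (2 * q - 1)) = f n := fun n => by
    show S.cl _ j = _
    rw [pow_add, mul_comm, ← eta_eq hF _ S.P.θ.ne_zero]
    exact S.cl_scale (hθn n) hj S.P.θ
  have h3 : ∀ n, f (n + 3) = f n := fun n => by
    rw [← h2, show n + 3 + (2 * q - 1) = n + (q + 1) + (q + 1) by omega, h1, h1]
  obtain ⟨n, rfl⟩ := PSL2.Pres.exists_pow_eq S.P.hθ a ha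
  rw [show S.cl ((S.P.θ : F) ^ n) j = f n from rfl, show S.cl 1 j = f 0 by simp [f]]
  rcases h with h | h
  · exact const_of_periods f h3 h1 h n
  by_cases hg : 3 ∣ q + 1
  swap
  · exact const_of_periods f h3 h1 hg n
  have hk : ∀ k m, f (m + 3 * k) = f m := by
    intro k
    induction k with
    | zero => simp
    | succ k ih => intro m; rw [mul_add, mul_one, ← add_assoc, h3, ih]
  suffices hs : ∀ m, f (m + j + j) = f (m + j) by
    refine const_of_periods f h3 (fun m => ?_) h n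
    rw [← hk j (m + j), ← hk j m, show m + j + 3 * j = m + 2 * j + j + j by omega, hs,
      show m + 2 * j + j = m + 3 * j by omega]
  intro m
  have h2j : ¬q + 1 ∣ j + j := fun e => by have := hg.trans e; omega
  have hqj : ¬q + 1 ∣ q * j := fun e => hj ((Nat.dvd_add_left e).1 ⟨j, by ring⟩)
  set b := (S.P.θ : F) ^ m
  have hb : b ≠ 0 := hθn m
  have e1 := S.step hb h2j hqj (fun e => hj ((Nat.dvd_add_left (dvd_mul_right (q + 1) j)).1
    (show q + 1 ∣ j + (q + 1) * j by rwa [show j + (q + 1) * j = j + j + q * j by ring])))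
  rw [show j + j + q * j = j + (q + 1) * j by ring, cl_period, S.step hb hj hj h2j] at e1
  have hb2 : b * (S.P.θ : F) ^ (j + j) ≠ 0 := mul_ne_zero hb (hθn _)
  have e2 := S.inv_rule (neg_ne_zero.2 hb2) hj (j' := q * j) ⟨j, by ring⟩
  rw [neg_neg, S.cl_neg hb2 hj] at e2
  rw [e2, mul_assoc, left_eq_mul, mul_inv_eq_one] at e1
  show S.cl _ j = S.cl _ j
  rw [pow_add _ m j, e1, ← pow_add, ← add_assoc]

theorem not_dvd_one (hF : Fintype.card F = q ^ 2) : ¬q + 1 ∣ 1 := fun h => by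
  have := Nat.le_of_dvd one_pos h
  have := two_le_q hF
  omega

/-- The class does not depend on the first coordinate. -/
theorem indep {j : ℕ} (hj : ¬q + 1 ∣ j) {a : F} (ha : a ≠ 0) : S.cl a j = S.cl 1 j := by
  by_cases h : ¬3 ∣ q + 1 ∨ ¬3 ∣ j
  · exact S.indep_aux hj h ha
  push Not at h
  obtain ⟨k, rfl⟩ : ∃ k, j = k + 1 := ⟨j - 1, by
    rcases Nat.eq_zero_or_pos j with rfl | hp
    · exact absurd (dvd_zero _) hj
    · omega⟩
  have h1 : ¬q + 1 ∣ 1 := not_dvd_one hF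
  have hk : ¬q + 1 ∣ k := fun e => by have := h.1.trans e; omega
  have h3 : ¬3 ∣ k := fun e => by omega
  have h31 : ¬3 ∣ 1 := by omega
  have hθ : ∀ c : F, c ≠ 0 → c * (S.P.θ : F) ^ k ≠ 0 := fun c hc => mul_ne_zero hc (pow_ne_zero _ S.P.θ.ne_zero)
  rw [S.step ha hk h1 hj, S.step one_ne_zero hk h1 hj, S.indep_aux hk (Or.inr h3) ha,
    S.indep_aux h1 (Or.inr h31) (hθ a ha), S.indep_aux h1 (Or.inr h31) (hθ 1 one_ne_zero)]

theorem cl_pow : ∀ j : ℕ, 1 ≤ j → j ≤ q → S.cl 1 j = S.cl 1 1 ^ j := by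
  intro j hj
  induction j, hj using Nat.le_induction with
  | base => intro _; rw [pow_one]
  | succ j hj ih =>
    intro hjq
    have h1 : ¬q + 1 ∣ 1 := not_dvd_one hF
    have hlt : ∀ i, 0 < i → i ≤ q → ¬q + 1 ∣ i := fun i hi hi' e => by have := Nat.le_of_dvd hi e; omega
    rw [S.step one_ne_zero (hlt j hj (by omega)) h1 (hlt _ (by omega) hjq), ih (by omega),
      S.indep h1 (mul_ne_zero one_ne_zero (pow_ne_zero _ S.P.θ.ne_zero)), pow_succ]

theorem cl_order : S.cl 1 1 ^ (q + 1) = 1 := by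
  have hq := two_le_q hF
  have h1 : ¬q + 1 ∣ 1 := not_dvd_one hF
  have hq1 : ¬q + 1 ∣ q := fun e => by have := Nat.le_of_dvd (by omega) e; omega
  have e := S.inv_rule one_ne_zero h1 (j' := q) ⟨1, by ring⟩
  rw [S.indep hq1 (neg_ne_zero.2 one_ne_zero), S.cl_pow q (by omega) le_rfl] at e
  rw [pow_succ, e, inv_mul_cancel]

/-- The torus: classes in the group of the basic one. -/
def T0 : Subgroup Γ where
  carrier := {x | x ∈ S.TT ∧ S.cls x ∈ Subgroup.zpowers (S.cl 1 1)}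
  one_mem' := ⟨one_mem _, by rw [(S.cls_eq_one (one_mem _)).2 (one_mem _)]; exact one_mem _⟩
  mul_mem' := by rintro x y ⟨h1, h2⟩ ⟨k1, k2⟩; exact ⟨mul_mem h1 k1, by rw [S.cls_mul h1 k1]; exact mul_mem h2 k2⟩
  inv_mem' := by rintro x ⟨h1, h2⟩; exact ⟨inv_mem h1, by rw [S.cls_inv h1]; exact inv_mem h2⟩

theorem Dd_le_T0 : S.Dd ≤ S.T0 := fun x hx =>
  ⟨S.Dd_le hx, by rw [(S.cls_eq_one (S.Dd_le hx)).2 hx]; exact one_mem _⟩

theorem T0_t {x : Γ} (hx : x ∈ S.T0) : S.t * x * S.t⁻¹ ∈ S.T0 :=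
  ⟨S.t_conj_mem hx.1, by rw [S.cls_t hx.1]; exact hx.2⟩

theorem tau_mem_T0 {a b : F} (ha : a ≠ 0) (hab : b + σ b + a * σ a = 0) : S.tau a b ∈ S.T0 := by
  obtain ⟨j, hj1, hj2, rfl⟩ := exists_Bp S.P ha hab
  have hj : ¬q + 1 ∣ j := fun e => by have := Nat.le_of_dvd hj1 e; omega
  refine ⟨S.tau_mem hab (Bp_ne S.P ha hj), ?_⟩
  show S.cl a j ∈ _
  rw [S.indep hj ha, S.cl_pow j hj1 hj2]
  exact pow_mem (Subgroup.mem_zpowers _) _

/-- The parameters of the basic class. -/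
theorem exists_z1 : ∃ z : Fˣ, S.π (S.tau 1 (Bp S.P 1 1)) = hE hF z ∧
    z ^ (q - 1) = S.P.θ ^ (q - 1) ∧ S.tau 1 (Bp S.P 1 1) ∈ S.TT := by
  have hq := two_le_q hF
  have h1 : ¬q + 1 ∣ 1 := not_dvd_one hF
  have hb := Bp_ne S.P (one_ne_zero (α := F)) h1
  have hp := par_Bp S.P (a := (1 : F)) h1
  have hz0 : -S.P.δ / σ (Bp S.P 1 1) ≠ 0 := div_ne_zero (neg_ne_zero.2 S.P.hδ) ((map_ne_zero σ).2 hb)
  refine ⟨Units.mk0 _ hz0, S.π_tau hp hb rfl, ?_, S.tau_mem hp hb⟩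
  refine Units.ext ?_
  rw [Units.val_pow_eq_pow_val, Units.val_pow_eq_pow_val, Units.val_mk0]
  refine mul_right_cancel₀ hz0 ?_
  rw [← pow_succ, Nat.sub_add_cancel (by omega : 1 ≤ q), ← conjHom_apply hF, map_div₀, map_neg, S.P.hσ,
    σσ hF, σ_Bp S.P h1, lam, mul_one]
  have h3 : (S.P.θ : F) ^ (q - 1) ≠ 0 := pow_ne_zero _ S.P.θ.ne_zero
  field_simp

theorem T0_ker {x : Γ} (hx : x ∈ S.T0) (h : S.π x = 1) : x = 1 := by
  have hq := two_le_q hF
  obtain ⟨k, hk⟩ := hx.2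
  obtain ⟨z, hz, hzq, hzT⟩ := S.exists_z1
  set τ := S.tau 1 (Bp S.P 1 1)
  have hk' : (S.cls τ) ^ k = S.cls x := hk
  -- x is τ ^ k times a torus element of the long root SL₂
  have hτk : τ ^ k ∈ S.TT := zpow_mem hzT k
  have hcz : S.cls (τ ^ k) = S.cls τ ^ k := by
    rw [cls, cls, dif_pos hτk, dif_pos hzT, ← QuotientGroup.mk_zpow]
    rfl
  have hd : x * (τ ^ k)⁻¹ ∈ S.Dd := by
    rw [← S.cls_eq_one (mul_mem hx.1 (inv_mem hτk)), S.cls_mul hx.1 (inv_mem hτk), S.cls_inv hτk, hcz, hk',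
      mul_inv_cancel]
  obtain ⟨n, hn⟩ := hd
  have e : hE hF (Units.map (fixedField hF).subtype.toMonoidHom n * z ^ k) = 1 := by
    rw [map_mul, map_zpow, ← hz, ← map_zpow, ← emb_dg S.P.hδ S.P.hσ, ← S.hE', ← map_mul]
    show S.π ((S.E.comp dg) n * τ ^ k) = 1
    rw [hn, inv_mul_cancel_right, h]
  have e2 := congrArg (· ^ (q - 1)) (hE_injective (e.trans (map_one _).symm))
  have hnq : (Units.map (fixedField hF).subtype.toMonoidHom n) ^ (q - 1) = 1 := by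
    refine Units.ext ?_
    rw [Units.val_pow_eq_pow_val, Units.val_one]
    exact (fixed_iff hF (fun e => n.ne_zero (Subtype.ext e))).1 n.1.2
  rw [one_pow, mul_pow, hnq, one_mul, ← zpow_natCast, ← zpow_mul, mul_comm, zpow_mul, zpow_natCast, hzq,
    ← zpow_natCast, ← zpow_mul, ← orderOf_dvd_iff_zpow_eq_one, orderOf_eq_card_of_forall_mem_zpowers S.P.hθ,
    card_units hF, show q ^ 2 - 1 = (q - 1) * (q + 1) by rw [mul_comm]; simpa using Nat.sq_sub_sq q 1,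
    Nat.cast_mul] at e2
  have hdvd : ((q + 1 : ℕ) : ℤ) ∣ k := Int.dvd_of_mul_dvd_mul_left (by omega) e2
  have hx1 : x ∈ S.Dd := by
    rw [← S.cls_eq_one hx.1, ← hk']
    obtain ⟨l, rfl⟩ := hdvd
    rw [zpow_mul, zpow_natCast]
    show (S.cl 1 1 ^ (q + 1)) ^ l = 1
    rw [S.cl_order, one_zpow]
  obtain ⟨m, rfl⟩ := hx1
  show S.E (dg m) = 1
  have e3 : dg m = 1 := S.E_inj (by rw [map_one S.E, map_one]; exact h)
  rw [e3, map_one]

theorem T0_surj (w : Fˣ) : ∃ x ∈ S.T0, S.π x = hE hF w := by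
  obtain ⟨z, hz, hzq, hzT⟩ := S.exists_z1
  set τ := S.tau 1 (Bp S.P 1 1)
  have hτ : τ ∈ S.T0 := ⟨hzT, Subgroup.mem_zpowers (S.cl 1 1)⟩
  suffices hle : ∀ w, w ∈ ((S.T0.map S.π).comap (hE hF)) from hle w
  intro w
  obtain ⟨i, rfl⟩ := S.P.hθ w
  refine zpow_mem ?_ i
  have h1 : ((S.P.θ * z⁻¹ : Fˣ) : F) ^ q = ((S.P.θ * z⁻¹ : Fˣ) : F) := by
    refine (fixed_iff hF (Units.ne_zero _)).2 ?_
    rw [← Units.val_pow_eq_pow_val, mul_pow, inv_pow, hzq, mul_inv_cancel, Units.val_one]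
  have hne : (⟨_, h1⟩ : fixedField hF) ≠ 0 := fun e => (S.P.θ * z⁻¹).ne_zero (congrArg Subtype.val e)
  refine ⟨S.E (dg (Units.mk0 _ hne)) * τ, mul_mem (S.Dd_le_T0 (S.E_dg_mem _)) hτ, ?_⟩
  rw [map_mul, S.hE', emb_dg, hz, ← map_mul]
  congr 1
  refine Units.ext ?_
  show ((S.P.θ * z⁻¹ : Fˣ) : F) * (z : F) = _
  rw [← Units.val_mul, inv_mul_cancel_right]

/-- The small cell. -/
def X0 : Set Γ := {g | ∃ y ∈ S.Qh, ∃ τ ∈ S.T0, g = y * τ}

/-- The big cell. -/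
def X1 : Set Γ := {g | ∃ y ∈ S.Qh, ∃ τ ∈ S.T0, ∃ y' ∈ S.Qh, g = y * τ * S.t * y'}

theorem X1_right {g : Γ} (hg : g ∈ S.X1) {y τ : Γ} (hy : y ∈ S.Qh) (hτ : τ ∈ S.T0) : g * y * τ ∈ S.X1 := by
  obtain ⟨y0, hy0, τ0, hτ0, y', hy', rfl⟩ := hg
  refine ⟨y0, hy0, τ0 * (S.t * τ * S.t⁻¹), mul_mem hτ0 (S.T0_t hτ), τ⁻¹ * (y' * y) * τ, ?_, by group⟩
  have := S.Qh_conj (mul_mem hy' hy) (inv_mem hτ.1)
  rwa [inv_inv] at this

theorem left_mul {g y τ : Γ} (hy : y ∈ S.Qh) (hτ : τ ∈ S.T0) (hg : g ∈ S.X0 ∪ S.X1) :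
    y * τ * g ∈ S.X0 ∪ S.X1 := by
  rcases hg with ⟨y', hy', τ', hτ', rfl⟩ | ⟨y0, hy0, τ0, hτ0, y', hy', rfl⟩
  · exact Or.inl ⟨y * (τ * y' * τ⁻¹), mul_mem hy (S.Qh_conj hy' hτ.1), τ * τ', mul_mem hτ hτ', by group⟩
  · exact Or.inr ⟨y * (τ * y0 * τ⁻¹), mul_mem hy (S.Qh_conj hy0 hτ.1), τ * τ0, mul_mem hτ hτ0, y', hy', by group⟩

theorem t_Qh {y : Γ} (hy : y ∈ S.Qh) : y = 1 ∨ S.t * y * S.t⁻¹ ∈ S.X1 := by
  obtain ⟨a, b, hab, e⟩ := hy.2
  have ey := S.Qh_eq hy e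
  by_cases ha : a = 0
  · subst ha
    obtain ⟨r, hr⟩ := mem_Z S.P.hδ S.P.hσ (show InQ hF (uE hF 0 b) 0 from ⟨b, hab, rfl⟩)
    have ey2 : y = S.E (upT r) := by
      rw [← ey]
      exact S.Qh_eq (S.upT_mem r) (by rw [S.hE', hr])
    by_cases hr0 : r = 0
    · left
      rw [ey2, hr0, show upT (0 : fixedField hF) = 1 from map_one (PSL2.Pres.upHom (F := fixedField hF)), map_one]
    · right
      refine ⟨S.E (upT (-((Units.mk0 r hr0)⁻¹ : (fixedField hF)ˣ))), S.upT_mem _, S.E (dg (Units.mk0 r hr0)⁻¹),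
        S.Dd_le_T0 (S.E_dg_mem _), _, S.upT_mem (-((Units.mk0 r hr0)⁻¹ : (fixedField hF)ˣ)), ?_⟩
      rw [ey2, Ctx.t, ← map_inv, ← map_mul, ← map_mul, show upT r = upT ((Units.mk0 r hr0 : (fixedField hF)ˣ) : fixedField hF)
        from rfl, PSL2.Pres.wM_upT, map_mul, map_mul, map_mul]
  · right
    have hb := par_ne S.P hab ha
    rw [← ey]
    exact ⟨_, S.hat_mem (par_left S.P hab hb), _, S.tau_mem_T0 ha hab, _, S.hat_mem (par_right S.P hab hb),
      S.tau_spec a b⟩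

theorem t_mul {g : Γ} (hg : g ∈ S.X0 ∪ S.X1) : S.t * g ∈ S.X0 ∪ S.X1 := by
  have hsq : S.t * S.t ∈ S.T0 := S.Dd_le_T0 S.t_sq
  rcases hg with ⟨y, hy, τ, hτ, rfl⟩ | ⟨y, hy, τ, hτ, y', hy', rfl⟩
  · refine Or.inr ⟨1, one_mem _, S.t * τ * S.t⁻¹, S.T0_t hτ, τ⁻¹ * y * τ, ?_, by group⟩
    have := S.Qh_conj hy (inv_mem hτ.1)
    rwa [inv_inv] at this
  · have hT := mul_mem (S.T0_t hτ) hsq
    rcases S.t_Qh hy with rfl | h
    · exact Or.inl ⟨_, S.Qh_conj hy' hT.1, _, hT, by group⟩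
    · refine Or.inr ?_
      have := S.X1_right (S.X1_right h (one_mem _) hT) hy' (one_mem _)
      convert this using 1
      group

/-- A complement of the kernel. -/
theorem exists_compl : ∃ K : Subgroup Γ, K.map S.π = ⊤ ∧ ∀ x ∈ K, S.π x = 1 → x = 1 := by
  refine ⟨Subgroup.closure ((S.Qh : Set Γ) ∪ (S.T0 : Set Γ) ∪ {S.t}), ?_, fun x hx h => ?_⟩
  · refine top_of_cells S.P.hδ S.P.hσ (fun y hy => ?_) (fun z => ?_) ⟨_, Subgroup.subset_closure (Or.inr rfl), S.π_t⟩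
    · obtain ⟨a, b, hab, rfl⟩ := hy
      exact ⟨_, Subgroup.subset_closure (Or.inl (Or.inl (S.hat_mem hab))), S.π_hat hab⟩
    · obtain ⟨x, hx, e⟩ := S.T0_surj z
      exact ⟨x, Subgroup.subset_closure (Or.inl (Or.inr hx)), e⟩
  have hmem : x ∈ S.X0 ∪ S.X1 := by
    clear h
    induction hx using Subgroup.closure_induction_left with
    | one => exact Or.inl ⟨1, one_mem _, 1, one_mem _, by group⟩
    | mul_left a ha b _ hb =>
      rcases ha with (ha | ha) | rfl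
      · simpa using S.left_mul ha (one_mem _) hb
      · simpa using S.left_mul (one_mem _) ha hb
      · exact S.t_mul hb
    | inv_mul_cancel a ha b _ hb =>
      rcases ha with (ha | ha) | rfl
      · simpa using S.left_mul (inv_mem ha) (one_mem _) hb
      · simpa using S.left_mul (one_mem _) (inv_mem ha) hb
      · have := S.left_mul (one_mem _) (inv_mem (S.Dd_le_T0 S.t_sq)) (S.t_mul hb)
        rwa [show (1 : Γ) * (S.t * S.t)⁻¹ * (S.t * b) = S.t⁻¹ * b by group] at this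
  rcases hmem with ⟨y, hy, τ, hτ, rfl⟩ | ⟨y, hy, τ, hτ, y', hy', rfl⟩
  · obtain ⟨z, hz⟩ := hτ.1
    rw [map_mul, ← hz] at h
    obtain ⟨e1, rfl⟩ := small_inj (w := 1) (z' := 1) hy.2 (one_mem _) (by rw [h, map_one, mul_one])
    have h1 : y = 1 := isP_eq S.hc S.hco hy.1 IsP.one (by rw [e1, map_one])
    rw [h1, one_mul]
    exact S.T0_ker hτ (by rw [← hz, map_one])
  · obtain ⟨z, hz⟩ := hτ.1
    rw [map_mul, map_mul, map_mul, ← hz, S.π_t] at h
    exact absurd (by rw [h, map_one, mul_one]) (big_ne S.P.hδ S.P.hσ hy.2 hy'.2 (one_mem _) z 1)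

end Ctx

section Main

variable {p : ℕ} [Fact p.Prime] [CharP F p]

/-- Homomorphisms from SU₃(q) lift to central extensions with kernel of order prime to p. -/
theorem exists_section_SU3 (hF : Fintype.card F = q ^ 2) {Γ : Type u} {M : Type v} [Group Γ] [Group M] {π : Γ →* M}
    (hc : π.ker ≤ Subgroup.center Γ) (hco : (Nat.card π.ker).Coprime p) (hs : Function.Surjective π) [Finite Γ]
    (φ : Cfsg.SU 3 F q →* M) : ∃ ψ : Cfsg.SU 3 F q →* Γ, ∀ a, π (ψ a) = φ a := by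
  classical
  haveI : Fintype (fixedField hF) := Fintype.ofFinite _
  haveI : CharP (fixedField hF) p := (fixedField hF).subtype.charP Subtype.val_injective p
  let L : Subgroup (Cfsg.SU 3 F q × Γ) :=
    (φ.comp (MonoidHom.fst _ Γ)).eqLocus (π.comp (MonoidHom.snd _ Γ))
  haveI : Finite L := inferInstance
  let ρ : L →* Cfsg.SU 3 F q := (MonoidHom.fst _ Γ).comp L.subtype
  have hρ : Function.Surjective ρ := fun a => by
    obtain ⟨g, hg⟩ := hs (φ a)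
    exact ⟨⟨(a, g), hg.symm⟩, rfl⟩
  have hker : ∀ x : L, ρ x = 1 → π (x : Cfsg.SU 3 F q × Γ).2 = 1 := fun x hx => by
    rw [show π (x : Cfsg.SU 3 F q × Γ).2 = φ (ρ x) from x.2.symm, hx, map_one]
  have hρc : ρ.ker ≤ Subgroup.center L := fun x hx => Subgroup.mem_center_iff.2 fun y => by
    have h1 : (x : Cfsg.SU 3 F q × Γ).1 = 1 := hx
    refine Subtype.ext (Prod.ext ?_ (Subgroup.mem_center_iff.1 (hc (hker x hx)) _))
    show (y : Cfsg.SU 3 F q × Γ).1 * (x : Cfsg.SU 3 F q × Γ).1 = (x : Cfsg.SU 3 F q × Γ).1 * (y : Cfsg.SU 3 F q × Γ).1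
    rw [h1, mul_one, one_mul]
  let ι : ρ.ker →* π.ker :=
    (((MonoidHom.snd _ Γ).comp L.subtype).comp ρ.ker.subtype).codRestrict π.ker fun x => hker _ x.2
  have hι : Function.Injective ι := fun x y e => by
    refine Subtype.ext (Subtype.ext (Prod.ext ((x.2 : _ = (1 : Cfsg.SU 3 F q)).trans y.2.symm) ?_))
    exact congrArg Subtype.val e
  have hρco : (Nat.card ρ.ker).Coprime p := hco.coprime_dvd_left (Subgroup.card_dvd_of_injective ι hι)
  obtain ⟨P⟩ := SUPresent.exists_par hF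
  obtain ⟨E, hE⟩ := exists_section_two hρc hρco hρ (emb P.hδ P.hσ)
  let S : Ctx hF p L := ⟨P, ρ, hρc, hρco, hρ, E, hE⟩
  obtain ⟨K, hK1, hK2⟩ := S.exists_compl
  let f : K →* Cfsg.SU 3 F q := ρ.comp K.subtype
  have hf : Function.Bijective f := by
    refine ⟨(injective_iff_map_eq_one f).2 fun x hx => Subtype.ext (hK2 _ x.2 hx), fun g => ?_⟩
    obtain ⟨x, hx, e⟩ := hK1.ge (Subgroup.mem_top g)
    exact ⟨⟨x, hx⟩, e⟩
  let e := MulEquiv.ofBijective f hf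
  refine ⟨((MonoidHom.snd _ Γ).comp (L.subtype.comp K.subtype)).comp e.symm.toMonoidHom, fun a => ?_⟩
  show π ((e.symm a : L) : Cfsg.SU 3 F q × Γ).2 = φ a
  have h1 : ρ (e.symm a : L) = a := e.apply_symm_apply a
  conv_rhs => rw [← h1]
  exact (e.symm a : L).2.symm

end Main

end Cfsg.Agent.SUMult
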