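/-
The Schur multiplier of SU_n(q) is trivial outside the exceptions; that of PSU_n(q).

* `coprime_all`: perfect extensions with kernel of order prime to p are trivial.
* `exists_quotient`: splitting off one part of the kernel.
* `hasCyclic_SU`, `multiplier_PSU`.
-/
import Cfsg.Agent.Lib.SUMult.Defining
import Cfsg.Agent.Lib.SUMult.Coprime
import Cfsg.Agent.Lib.SUMult.ThreeCoprime
import Cfsg.Agent.Lib.SUPresent.Center
import Cfsg.Agent.Lib.Unitary.Commutator
import Cfsg.Agent.Lib.Unitary.Center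
import Cfsg.Agent.Lib.SLTwoMult.Basic

set_option autoImplicit false
set_option linter.unusedSectionVars false
set_option linter.style.haveILetI false

open scoped commutatorElement

namespace Cfsg.Agent.SUMult

open Cfsg.Agent.Unitary Cfsg.Agent.UFus

universe u v

variable {F : Type v} [Field F] [Fintype F] {q : ℕ} (hF : Fintype.card F = q ^ 2)
  {p : ℕ} [Fact p.Prime] [CharP F p]
include hF

/-- Perfect central extensions with kernel of order prime to p. -/
theorem coprime_all {n : ℕ} (hn : 3 ≤ n) {Γ : Type u} [Group Γ] [Finite Γ] {π : Γ →* Cfsg.SU n F q}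
    (hc : π.ker ≤ Subgroup.center Γ) (hco : (Nat.card π.ker).Coprime p) (hs : Function.Surjective π)
    (hperf : commutator Γ = ⊤) : Function.Injective π := by
  rcases Nat.eq_or_lt_of_le hn with h3 | h3
  · subst h3
    obtain ⟨ψ, hψ⟩ := exists_section_SU3 hF hc hco hs (MonoidHom.id (Cfsg.SU 3 F q))
    have htop : ψ.range = ⊤ :=
      TwistMult.eq_top_of_map hc hperf fun g => ⟨ψ (π g), ⟨π g, rfl⟩, (hψ (π g)).symm⟩
    intro a b e
    obtain ⟨x, rfl⟩ := htop.ge (Subgroup.mem_top a)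
    obtain ⟨y, rfl⟩ := htop.ge (Subgroup.mem_top b)
    rw [hψ, hψ] at e
    exact congrArg ψ e
  · obtain ⟨Φ⟩ := UFus.exists_frame hF n
    rcases Φ.hu with h0 | h1
    · exact coprime_even hF Φ hc hco hs hperf (by omega) h0
    · exact coprime_odd hF Φ hc hco hs hperf (by omega) h1 fun φ => exists_section_SU3 hF hc hco hs φ

omit hF [Fact p.Prime] [CharP F p] in
/-- The quotient by the powers of a central kernel. -/
theorem exists_quotient {n : ℕ} {Γ : Type u} [Group Γ] [Finite Γ] {π : Γ →* Cfsg.SU n F q}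
    (hc : π.ker ≤ Subgroup.center Γ) (hs : Function.Surjective π) (hperf : commutator Γ = ⊤) (e : ℕ) :
    ∃ (Δ : Type u) (_ : Group Δ) (_ : Finite Δ) (f : Γ →* Δ) (π' : Δ →* Cfsg.SU n F q),
      π'.ker ≤ Subgroup.center Δ ∧ Function.Surjective π' ∧ commutator Δ = ⊤ ∧
      (∀ x, π' (f x) = π x) ∧ (∀ y ∈ π'.ker, y ^ e = 1) ∧
      ∀ x, f x = 1 → ∃ w, π w = 1 ∧ x = w ^ e := by
  let K : Subgroup Γ :=
    { carrier := {x | ∃ w, π w = 1 ∧ x = w ^ e}
      one_mem' := ⟨1, map_one π, (one_pow e).symm⟩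
      mul_mem' := by
        rintro _ _ ⟨w, hw, rfl⟩ ⟨w', hw', rfl⟩
        exact ⟨w * w', by rw [map_mul, hw, hw', one_mul], ((ker_commute hc hw' w).mul_pow e).symm⟩
      inv_mem' := by
        rintro _ ⟨w, hw, rfl⟩
        exact ⟨w⁻¹, by rw [map_inv, hw, inv_one], (inv_pow w e).symm⟩ }
  have hK : K ≤ π.ker := by
    rintro _ ⟨w, hw, rfl⟩
    rw [MonoidHom.mem_ker, map_pow, hw, one_pow]
  haveI : K.Normal := ⟨fun x hx g => by
    rw [(ker_commute hc (hK hx) g).eq, mul_inv_cancel_right]; exact hx⟩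
  let f : Γ →* Γ ⧸ K := QuotientGroup.mk' K
  have hf : Function.Surjective f := QuotientGroup.mk'_surjective K
  refine ⟨Γ ⧸ K, inferInstance, inferInstance, f, QuotientGroup.lift K π hK, ?_, ?_, ?_, fun x => rfl, ?_,
    fun x hx => (QuotientGroup.eq_one_iff x).1 hx⟩
  · intro y hy
    obtain ⟨x, rfl⟩ := hf y
    refine Subgroup.mem_center_iff.2 fun g => ?_
    obtain ⟨g, rfl⟩ := hf g
    rw [← map_mul, ← map_mul, (ker_commute hc hy g).eq]
  · intro a
    obtain ⟨x, rfl⟩ := hs a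
    exact ⟨f x, rfl⟩
  · have h := Subgroup.map_commutator (⊤ : Subgroup Γ) ⊤ f
    rw [Subgroup.map_top_of_surjective f hf, ← commutator_def, ← commutator_def, hperf,
      Subgroup.map_top_of_surjective f hf] at h
    exact h.symm
  · intro y hy
    obtain ⟨x, rfl⟩ := hf y
    rw [← map_pow]
    exact (QuotientGroup.eq_one_iff _).2 ⟨x, hy, rfl⟩

omit [Fact p.Prime] [CharP F p] in
/-- The Schur multiplier of SU_n is trivial. -/
theorem hasCyclic_SU {n : ℕ} (hn : 3 ≤ n) (h32 : ¬(n = 3 ∧ q = 2)) (hg : Good n q) :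
    Cfsg.HasCyclicSchurMultiplier (Cfsg.SU n F q) 1 := by
  obtain ⟨p, m, hpp, hchar, hqp, hm⟩ := exists_prime_pow hF
  haveI := Fact.mk hpp
  have hq := Unitary.two_le_q hF
  have hSperf := commutator_SU_eq_top (n := n) hF (by omega)
  refine SLTwoMult.hasCyclicSchurMultiplier_one fun Γ _ _ σ hσ r hr z hz hzr => ?_
  obtain ⟨hs, hc, hd⟩ := hσ
  have hperf : commutator Γ = ⊤ := by
    have h := Subgroup.map_commutator (⊤ : Subgroup Γ) ⊤ σ
    rw [Subgroup.map_top_of_surjective σ hs, ← commutator_def, ← commutator_def, hSperf] at h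
    refine eq_top_iff.2 fun g _ => ?_
    obtain ⟨c, hc', e⟩ := h.ge (Subgroup.mem_top (σ g))
    rw [← mul_inv_cancel_left c g]
    exact mul_mem hc' (hd (show σ (c⁻¹ * g) = 1 by rw [map_mul, map_inv, e, inv_mul_cancel]))
  have hcard0 : Nat.card σ.ker ≠ 0 := Nat.card_pos.ne'
  obtain ⟨a, N, hN, hcard⟩ := Nat.exists_eq_pow_mul_and_not_dvd hcard0 p (Fact.out (p := p.Prime)).one_lt.ne'
  have hord : ∀ w, σ w = 1 → w ^ (p ^ a * N) = 1 := fun w hw => by
    rw [← hcard]
    exact congrArg Subtype.val (pow_card_eq_one' (x := (⟨w, hw⟩ : σ.ker)))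
  have hpN : (p ^ a).Coprime N :=
    Nat.Coprime.pow_left a ((Fact.out (p := p.Prime)).coprime_iff_not_dvd.2 hN)
  by_cases hrp : r = p
  · subst hrp
    obtain ⟨Δ, _, _, f, π, hc', hs', hperf', hfπ, hexp, hker⟩ := exists_quotient hc hs hperf (r ^ a)
    have hp : IsPGroup r π.ker := fun ⟨y, hy⟩ => ⟨a, Subtype.ext (hexp y hy)⟩
    have h1 : f z = 1 := triv_all hF n hn hg Δ π hs' hc' hp (f z) (hperf'.ge (Subgroup.mem_top _))
      ((hfπ z).trans hz)
    obtain ⟨w, hw, rfl⟩ := hker z h1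
    have hN' : (w ^ r ^ a) ^ N = 1 := by rw [← pow_mul]; exact hord w hw
    have h := pow_gcd_eq_one.2 ⟨hzr, hN'⟩
    rwa [(hr.coprime_iff_not_dvd.2 hN), pow_one] at h
  · obtain ⟨Δ, _, _, f, π, hc', hs', hperf', hfπ, hexp, hker⟩ := exists_quotient hc hs hperf N
    have hco : (Nat.card π.ker).Coprime p := by
      rw [Nat.coprime_comm, (Fact.out (p := p.Prime)).coprime_iff_not_dvd]
      intro hd'
      obtain ⟨⟨y, hy⟩, hy'⟩ := exists_prime_orderOf_dvd_card' p hd'
      refine hN ?_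
      rw [← hy', ← Subgroup.orderOf_coe]
      exact orderOf_dvd_of_pow_eq_one (hexp y hy)
    have h1 : f z = 1 := coprime_all hF hn hc' hco hs' hperf' (by rw [hfπ, map_one]; exact hz)
    obtain ⟨w, hw, rfl⟩ := hker z h1
    have hN' : (w ^ N) ^ p ^ a = 1 := by rw [← pow_mul, mul_comm]; exact hord w hw
    have hrc : r.Coprime (p ^ a) := ((Nat.coprime_primes hr Fact.out).2 hrp).pow_right a
    have h := pow_gcd_eq_one.2 ⟨hzr, hN'⟩
    rwa [hrc, pow_one] at h

omit [Fact p.Prime] [CharP F p] in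
/-- The Schur multiplier of PSU_n. -/
theorem multiplier_PSU {n : ℕ} (hn : 3 ≤ n) (h32 : ¬(n = 3 ∧ q = 2))
    (hexc : (n, q) ∉ ({(4, 2), (4, 3), (6, 2)} : Set (ℕ × ℕ))) :
    Cfsg.HasCyclicSchurMultiplier (Cfsg.PSU n F q) (Nat.gcd n (q + 1)) := by
  have hg : Good n q := by
    simp only [Set.mem_insert_iff, Set.mem_singleton_iff, Prod.mk.injEq, not_or] at hexc
    exact hexc
  have hq := Unitary.two_le_q hF
  exact hasCyclic_quotient_center (commutator_SU_eq_top hF (by omega)) (hasCyclic_SU hF hn h32 hg)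
    (SUPresent.isCyclic_center hF (by omega)) (card_center_SU hF (by omega))

end Cfsg.Agent.SUMult
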