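/-
Alternating biadditive pairings on a hermitian space invariant under the transvections.

* `exists_pair`, `split_pair`, `iso_sum`: hyperbolic pairs; every vector is a sum of isotropic vectors.
* `exists_aniso`: an anisotropic vector orthogonal to a given one.
* `Inv`: the hypotheses; `Inv.exists_factor` (dimension ≥ 3), `Inv.eq_zero_two` (dimension 2).
-/
import Cfsg.Agent.Lib.Unitary.Witt

set_option autoImplicit false
set_option linter.unusedSectionVars false

namespace Cfsg.Agent.SUMult

open Cfsg.Agent.Unitary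

universe v

variable {F : Type v} [Field F] [Fintype F] {q r : ℕ} (hF : Fintype.card F = q ^ 2)
include hF

local notation "hh" => Cfsg.hermForm r F q

theorem exists_mu : ∃ μ : F, μ ≠ 1 ∧ μ ^ (q + 1) = 1 := by
  classical
  have h1 := card_norm_one hF
  have : Nontrivial {x : F // x ^ (q + 1) = 1} := by
    rw [← Finite.one_lt_card_iff_nontrivial, h1]
    have := two_le_q hF
    omega
  obtain ⟨⟨x, hx⟩, hne⟩ := exists_ne (⟨1, one_pow _⟩ : {x : F // x ^ (q + 1) = 1})
  exact ⟨x, fun e => hne (Subtype.ext e), hx⟩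

theorem exists_pair (hr : 2 ≤ r) : ∃ v0 v1 : Fin r → F, hh v0 v0 = 0 ∧ hh v1 v1 = 0 ∧ hh v0 v1 = 1 := by
  have H := hermForm_isHerm hF r
  obtain ⟨ε, hε⟩ := exists_eps hF
  obtain ⟨a, ha⟩ := exists_trace_eq hF (c := (-1 : F)) (by rw [neg_pow_q hF, one_pow])
  have hij : (⟨0, by omega⟩ : Fin r) ≠ ⟨1, by omega⟩ := fun e => absurd (congrArg Fin.val e) (by simp)
  set s0 : Fin r → F := Pi.single ⟨0, by omega⟩ 1
  set s1 : Fin r → F := Pi.single ⟨1, by omega⟩ 1
  have h00 : hh s0 s0 = 1 := (single_orthonormal hF r).1 _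
  have h11 : hh s1 s1 = 1 := (single_orthonormal hF r).1 _
  have h01 : hh s0 s1 = 0 := (single_orthonormal hF r).2 hij
  have h10 : hh s1 s0 = 0 := (single_orthonormal hF r).2 hij.symm
  have hε' : ε ^ q * ε = -1 := by rw [← pow_succ, hε]
  refine ⟨s0 + ε • s1, s0 + a • (s0 + ε • s1), ?_, ?_, ?_⟩
  · simp only [H.add_left, H.add_right hF, H.smul_left, H.smul_right, h00, h11, h01, h10]
    linear_combination hε'
  · simp only [H.add_left, H.add_right hF, H.smul_left, H.smul_right, h00, h11, h01, h10]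
    linear_combination ha + (a * a ^ q) * hε'
  · simp only [H.add_left, H.add_right hF, H.smul_left, H.smul_right, h00, h11, h01, h10]
    linear_combination (a ^ q) * hε'

variable {v0 v1 : Fin r → F} (h00 : Cfsg.hermForm r F q v0 v0 = 0) (h11 : Cfsg.hermForm r F q v1 v1 = 0)
  (h01 : Cfsg.hermForm r F q v0 v1 = 1)
include h00 h11 h01

theorem pair_symm : hh v1 v0 = 1 := by rw [(hermForm_isHerm hF r).conj_symm v0 v1, h01, one_pow]

theorem split_pair (x : Fin r → F) :
    ∃ (z : Fin r → F) (a b : F), x = a • v0 + b • v1 + z ∧ hh z v0 = 0 ∧ hh z v1 = 0 := by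
  have H := hermForm_isHerm hF r
  refine ⟨x - (hh x v1 • v0 + hh x v0 • v1), hh x v1, hh x v0, by abel, ?_, ?_⟩
  · rw [H.sub_left, H.add_left, H.smul_left, H.smul_left, h00, pair_symm hF h00 h11 h01]; ring
  · rw [H.sub_left, H.add_left, H.smul_left, H.smul_left, h11, h01]; ring

/-- Every vector is a sum of three isotropic vectors. -/
theorem iso_sum (x : Fin r → F) :
    ∃ x1 x2 x3, x = x1 + x2 + x3 ∧ hh x1 x1 = 0 ∧ hh x2 x2 = 0 ∧ hh x3 x3 = 0 := by
  have H := hermForm_isHerm hF r
  obtain ⟨z, a, b, rfl, hz0, hz1⟩ := split_pair hF h00 h11 h01 x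
  obtain ⟨t, ht⟩ := exists_trace_eq hF (c := -hh z z) (by rw [neg_pow_q hF, H.self_fixed])
  refine ⟨(a - 1) • v0, (b - t) • v1, v0 + t • v1 + z, by module, ?_, ?_, ?_⟩
  · rw [H.smul_left, H.smul_right, h00]; ring
  · rw [H.smul_left, H.smul_right, h11]; ring
  · simp only [H.add_left, H.add_right hF, H.smul_left, H.smul_right, h00, h11, h01, pair_symm hF h00 h11 h01,
      hz0, hz1, (H.eq_zero_symm hF).1 hz0, (H.eq_zero_symm hF).1 hz1]
    linear_combination ht

omit h00 h11 h01

/-- If every vector splits along two, some anisotropic vector is orthogonal to both. -/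
theorem exists_aniso_of_split (hr : 3 ≤ r) {a b : Fin r → F}
    (hs : ∀ z : Fin r → F, ∃ (z' : Fin r → F) (c d : F), z = z' + c • a + d • b ∧ hh z' a = 0 ∧ hh z' b = 0) :
    ∃ u, hh u a = 0 ∧ hh u b = 0 ∧ hh u u ≠ 0 := by
  classical
  have H := hermForm_isHerm hF r
  by_contra hne
  push Not at hne
  let N : Submodule F (Fin r → F) :=
    { carrier := {z | hh z a = 0 ∧ hh z b = 0}
      add_mem' := fun {x y} hx hy => ⟨by rw [H.add_left, hx.1, hy.1, add_zero],
        by rw [H.add_left, hx.2, hy.2, add_zero]⟩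
      zero_mem' := ⟨H.zero_left _, H.zero_left _⟩
      smul_mem' := fun c x hx => ⟨by rw [H.smul_left, hx.1, mul_zero], by rw [H.smul_left, hx.2, mul_zero]⟩ }
  have hN : ∀ x y : N, hh x.1 y.1 = 0 :=
    (H.comap N.subtype).eq_zero_of_isotropic hF fun x => hne x.1 x.2.1 x.2.2
  have h0 : ∀ z, hh z a = 0 → hh z b = 0 → z = 0 := fun z hza hzb =>
    hermForm_nondeg hF r z fun y => by
      obtain ⟨y', c, d, rfl, hya, hyb⟩ := hs y
      rw [H.add_right hF, H.add_right hF, H.smul_right, H.smul_right, hza, hzb,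
        hN ⟨z, hza, hzb⟩ ⟨y', hya, hyb⟩]
      ring
  have htop : (⊤ : Submodule F (Fin r → F)) ≤ Submodule.span F (Set.range ![a, b]) := fun z _ => by
    obtain ⟨z', c, d, rfl, hza, hzb⟩ := hs z
    rw [h0 z' hza hzb, zero_add]
    exact add_mem (Submodule.smul_mem _ _ (Submodule.subset_span ⟨0, rfl⟩))
      (Submodule.smul_mem _ _ (Submodule.subset_span ⟨1, rfl⟩))
  have h1 := Submodule.finrank_mono htop
  have h2 := finrank_range_le_card (R := F) ![a, b]
  rw [finrank_top, Module.finrank_fin_fun] at h1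
  rw [Fintype.card_fin] at h2
  unfold Set.finrank at h2
  omega

/-- An anisotropic vector orthogonal to an isotropic one. -/
theorem exists_aniso (hr : 3 ≤ r) {v : Fin r → F} (hv : v ≠ 0) (hv0 : hh v v = 0) :
    ∃ u, hh u v = 0 ∧ hh u u ≠ 0 := by
  have H := hermForm_isHerm hF r
  obtain ⟨w, hw⟩ : ∃ w, hh w v = 1 := by
    obtain ⟨y, hy⟩ := not_forall.1 (mt (hermForm_nondeg hF r v) hv)
    refine ⟨(hh y v)⁻¹ • y, ?_⟩
    rw [H.smul_left, inv_mul_cancel₀ (fun e => hy ((H.eq_zero_symm hF).1 e))]
  have hw' : hh v w = 1 := by rw [H.conj_symm w v, hw, one_pow]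
  obtain ⟨u, h1, -, h3⟩ := exists_aniso_of_split hF hr (a := v) (b := w) fun z =>
    ⟨z - ((hh z w - hh z v * hh w w) • v + hh z v • w), hh z w - hh z v * hh w w, hh z v, by abel,
      by rw [H.sub_left, H.add_left, H.smul_left, H.smul_left, hv0, hw]; ring,
      by rw [H.sub_left, H.add_left, H.smul_left, H.smul_left, hw']; ring⟩
  exact ⟨u, h1, h3⟩

omit hF in
/-- An alternating biadditive pairing invariant under the transvections. -/
structure Inv (q r : ℕ) (F : Type v) [Field F] {G : Type*} [AddCommGroup G]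
    (γ : (Fin r → F) → (Fin r → F) → G) : Prop where
  add_left : ∀ x x' y, γ (x + x') y = γ x y + γ x' y
  add_right : ∀ x y y', γ x (y + y') = γ x y + γ x y'
  alt : ∀ x, γ x x = 0
  inv : ∀ (v : Fin r → F) (d : F), Cfsg.hermForm r F q v v = 0 → d ^ q = -d → ∀ x y,
    γ (x + (d * Cfsg.hermForm r F q x v) • v) (y + (d * Cfsg.hermForm r F q y v) • v) = γ x y

namespace Inv

variable {G : Type*} [AddCommGroup G] {γ : (Fin r → F) → (Fin r → F) → G} (I : Inv q r F γ)
include I

omit hF in
theorem anti (x y : Fin r → F) : γ x y = -γ y x := by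
  have := I.alt (x + y)
  rw [I.add_left, I.add_right, I.add_right, I.alt, I.alt, zero_add, add_zero] at this
  exact eq_neg_of_add_eq_zero_left this

omit hF in
theorem zero_left (y : Fin r → F) : γ 0 y = 0 := by
  have := I.add_left 0 0 y
  rwa [add_zero, left_eq_add] at this

omit hF in
theorem zero_right (x : Fin r → F) : γ x 0 = 0 := by rw [I.anti, I.zero_left, neg_zero]

omit hF in
theorem sub_left (x x' y : Fin r → F) : γ (x - x') y = γ x y - γ x' y := by
  rw [eq_sub_iff_add_eq, ← I.add_left, sub_add_cancel]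

omit hF in
theorem sub_right (x y y' : Fin r → F) : γ x (y - y') = γ x y - γ x y' := by
  rw [eq_sub_iff_add_eq, ← I.add_right, sub_add_cancel]

omit hF in
/-- The key identity. -/
theorem key {v : Fin r → F} (hv : hh v v = 0) {d : F} (hd : d ^ q = -d) (x y : Fin r → F) :
    γ x ((d * hh y v) • v) + γ ((d * hh x v) • v) y + γ ((d * hh x v) • v) ((d * hh y v) • v) = 0 := by
  have := I.inv v d hv hd x y
  rw [I.add_left, I.add_right, I.add_right, add_assoc, add_eq_left] at this
  rw [← this]; abel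

/-- Orthogonal to an isotropic vector. -/
theorem iso_zero {v x : Fin r → F} (hv : hh v v = 0) (hx : hh x v = 0) (b : F) : γ x (b • v) = 0 := by
  have H := hermForm_isHerm hF r
  rcases eq_or_ne v 0 with rfl | hv0
  · rw [smul_zero, I.zero_right]
  obtain ⟨d, hd0, hd⟩ := exists_skew hF
  obtain ⟨y, hy⟩ := not_forall.1 (mt (hermForm_nondeg hF r v) hv0)
  have hy' : hh y v ≠ 0 := fun e => hy ((H.eq_zero_symm hF).1 e)
  have := I.key hv hd x ((b / (d * hh y v)) • y)
  rwa [hx, mul_zero, zero_smul, I.zero_left, I.zero_left, add_zero, add_zero, H.smul_left, mul_left_comm,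
    div_mul_cancel₀ _ (mul_ne_zero hd0 hy')] at this

/-- Orthogonal pairs, dimension at least three. -/
theorem orth_zero (hr : 3 ≤ r) {x y : Fin r → F} (hxy : hh x y = 0) : γ x y = 0 := by
  have H := hermForm_isHerm hF r
  have hyx := (H.eq_zero_symm hF).1 hxy
  by_cases hy : hh y y = 0
  · simpa using I.iso_zero hF hy hxy 1
  by_cases hx : hh x x = 0
  · rw [I.anti, neg_eq_zero]; simpa using I.iso_zero hF hx hyx 1
  obtain ⟨u, hux, huy, huu⟩ := exists_aniso_of_split hF hr (a := x) (b := y) fun z =>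
    ⟨z - ((hh z x / hh x x) • x + (hh z y / hh y y) • y), hh z x / hh x x, hh z y / hh y y, by abel,
      by rw [H.sub_left, H.add_left, H.smul_left, H.smul_left, hyx, div_mul_cancel₀ _ hx]; ring,
      by rw [H.sub_left, H.add_left, H.smul_left, H.smul_left, hxy, div_mul_cancel₀ _ hy]; ring⟩
  obtain ⟨t, ht⟩ := exists_norm_eq hF (c := -hh y y / hh u u)
    (by rw [div_pow, neg_pow_q hF, H.self_fixed, H.self_fixed])
  obtain ⟨μ, hμ1, hμ⟩ := exists_mu hF
  have hyu := (H.eq_zero_symm hF).1 huy
  have hxu := (H.eq_zero_symm hF).1 hux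
  have iso : ∀ s : F, s ^ (q + 1) = t ^ (q + 1) → ∀ b : F, γ x (b • (y + s • u)) = 0 := fun s hs b => by
    refine I.iso_zero hF ?_ ?_ b
    · simp only [H.add_left, H.add_right hF, H.smul_left, H.smul_right, hyu, huy]
      rw [ht] at hs
      field_simp at hs
      linear_combination hs
    · rw [H.add_right hF, H.smul_right, hxy, hxu]; ring
  have h1 := iso t rfl (1 - 1 / (1 - μ))
  have h2 := iso (μ * t) (by rw [mul_pow, hμ, one_mul]) (1 / (1 - μ))
  have hμ' : 1 - μ ≠ 0 := sub_ne_zero.2 (Ne.symm hμ1)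
  have e : y = (1 - 1 / (1 - μ)) • (y + t • u) + (1 / (1 - μ)) • (y + (μ * t) • u) := by
    match_scalars <;> field_simp <;> ring
  rw [e, I.add_right, h1, h2, add_zero]

/-- Dimension at least three: the pairing factors through the form. -/
theorem exists_factor (hr : 3 ≤ r) : ∃ f : F → G,
    (∀ c c', f (c + c') = f c + f c') ∧ (∀ c, c ^ q = c → f c = 0) ∧ ∀ x y, γ x y = f (hh x y) := by
  classical
  have H := hermForm_isHerm hF r
  obtain ⟨v0, v1, h00, h11, h01⟩ := exists_pair hF (by omega : 2 ≤ r)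
  have hL : ∀ x x' y, hh x y = hh x' y → γ x y = γ x' y := fun x x' y e => by
    rw [← sub_eq_zero, ← I.sub_left]
    exact I.orth_zero hF hr (by rw [H.sub_left, e, sub_self])
  have hR : ∀ x y y', hh x y = hh x y' → γ x y = γ x y' := fun x y y' e => by
    rw [← sub_eq_zero, ← I.sub_right]
    exact I.orth_zero hF hr (by rw [H.sub_right hF, e, sub_self])
  have main : ∀ x y, (∀ a : F, y ≠ a • v1) → γ x y = γ (hh x y • v0) v1 := by
    intro x y hy
    obtain ⟨u, hu1, huy⟩ : ∃ u, hh u v1 = 0 ∧ hh u y = 1 := by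
      by_contra hne
      push Not at hne
      refine hy (hh y v0) (sub_eq_zero.1 (hermForm_nondeg hF r _ fun z => ?_))
      have h0 : hh (z - hh z v1 • v0) y = 0 := by
        by_contra h
        refine hne ((hh (z - hh z v1 • v0) y)⁻¹ • (z - hh z v1 • v0)) ?_ ?_
        · simp only [H.smul_left, H.sub_left, h01]; ring
        · rw [H.smul_left, inv_mul_cancel₀ h]
      rw [H.sub_left, H.smul_left, sub_eq_zero] at h0
      rw [H.conj_symm z, H.sub_right hF, H.smul_right, h0, H.conj_symm v0 y, pow_q_pow_q hF]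
      rw [show hh z v1 * hh v0 y - hh v0 y * hh z v1 = 0 by ring, zero_pow_q hF]
    set c := hh x y
    set x' := c • v0 + (c - c * hh v0 y) • u with hx'
    have e1 : hh x' y = c := by rw [hx', H.add_left, H.smul_left, H.smul_left, huy]; ring
    have e2 : hh x' v1 = c := by rw [hx', H.add_left, H.smul_left, H.smul_left, hu1, h01]; ring
    rw [hL x x' y e1.symm, hR x' y v1 (e1.trans e2.symm)]
    exact hL _ _ _ (by rw [e2, H.smul_left, h01, mul_one])
  have all : ∀ x y, γ x y = γ (hh x y • v0) v1 := by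
    intro x y
    by_cases hy : ∀ a : F, y ≠ a • v1
    · exact main x y hy
    push Not at hy
    obtain ⟨a, rfl⟩ := hy
    obtain ⟨u, hxu, hu⟩ : ∃ u, hh x u = 0 ∧ ∀ b : F, u ≠ b • v1 := by
      by_contra hne
      push Not at hne
      let φ : (Fin r → F) →ₗ[F] F :=
        { toFun := fun z => hh z x
          map_add' := fun z z' => H.add_left z z' x
          map_smul' := fun c z => H.smul_left c z x }
      have hle : LinearMap.ker φ ≤ Submodule.span F {v1} := fun z hz => by
        obtain ⟨b, rfl⟩ := hne z ((H.eq_zero_symm hF).1 hz)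
        exact Submodule.smul_mem _ _ (Submodule.mem_span_singleton_self _)
      have h1 := Submodule.finrank_mono hle
      have h2 := φ.finrank_range_add_finrank_ker
      have h3 := Submodule.finrank_le (LinearMap.range φ)
      have h4 : Module.finrank F (Submodule.span F {v1}) ≤ 1 :=
        (finrank_span_le_card (R := F) ({v1} : Set (Fin r → F))).trans (by simp)
      rw [Module.finrank_fin_fun] at h2
      rw [Module.finrank_self] at h3
      omega
    have e : hh x (a • v1 + u) = hh x (a • v1) := by rw [H.add_right hF, hxu, add_zero]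
    rw [hR x (a • v1) (a • v1 + u) e.symm, ← e]
    refine main x _ fun b hb => hu (b - a) ?_
    rw [sub_smul, ← hb, add_sub_cancel_left]
  refine ⟨fun c => γ (c • v0) v1, fun c c' => ?_, fun c hc => ?_, all⟩
  · show γ ((c + c') • v0) v1 = _
    rw [add_smul, I.add_left]
  · obtain ⟨a, ha⟩ := exists_trace_eq hF (c := c) hc
    have h := all (a • v0 + v1) (a • v0 + v1)
    rw [I.alt, show hh (a • v0 + v1) (a • v0 + v1) = c by
      simp only [H.add_left, H.add_right hF, H.smul_left, H.smul_right, h00, h11, h01, pair_symm hF h00 h11 h01]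
      linear_combination ha] at h
    exact h.symm

/-- Dimension two: no pairing survives a scalar of square not one. -/
theorem eq_zero_two (hr : r = 2) {k : F} (hk : k ^ q = k) (hk2 : k * k ≠ 1)
    (hinv : ∀ x y, γ (k • x) (k • y) = γ x y) : ∀ x y, γ x y = 0 := by
  classical
  subst hr
  have H := hermForm_isHerm hF 2
  obtain ⟨v0, v1, h00, h11, h01⟩ := exists_pair hF (r := 2) le_rfl
  have h10' := pair_symm hF h00 h11 h01
  let φ : F → F → G := fun a b => γ (a • v0) (b • v1)
  have z00 : ∀ a b : F, γ (a • v0) (b • v0) = 0 := fun a b =>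
    I.iso_zero hF h00 (by rw [H.smul_left, h00, mul_zero]) b
  have z11 : ∀ a b : F, γ (a • v1) (b • v1) = 0 := fun a b =>
    I.iso_zero hF h11 (by rw [H.smul_left, h11, mul_zero]) b
  have k0 : ∀ (d : F), d ^ q = -d → ∀ a b, φ (d * a) b = φ (d * b) a := fun d hd a b => by
    have := I.key (v := v0) h00 hd (a • v1) (b • v1)
    rw [H.smul_left, H.smul_left, h10', mul_one, mul_one, z00, add_zero, I.anti] at this
    exact (neg_add_eq_zero.1 this).symm
  have k1 : ∀ (d : F), d ^ q = -d → ∀ a b, φ a (d * b) = φ b (d * a) := fun d hd a b => by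
    have := I.key (v := v1) h11 hd (a • v0) (b • v0)
    rw [H.smul_left, H.smul_left, h01, mul_one, mul_one, z11, add_zero, I.anti ((d * a) • v1)] at this
    exact sub_eq_zero.1 (by rw [sub_eq_add_neg]; exact this)
  have ks : ∀ s : F, s ^ q = s → ∀ a b, φ (s * a) b = φ a (s * b) := fun s hs a b => by
    obtain ⟨d, hd0, hd⟩ := exists_skew hF
    have hsd : (s / d) ^ q = -(s / d) := by rw [div_pow, hs, hd, div_neg]
    calc φ (s * a) b = φ (d * (s / d * a)) b := by rw [← mul_assoc, mul_div_cancel₀ _ hd0]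
      _ = φ (d * b) (s / d * a) := k0 d hd _ _
      _ = φ a (s / d * (d * b)) := k1 _ hsd _ _
      _ = _ := by rw [← mul_assoc, div_mul_cancel₀ _ hd0]
  have hφ : ∀ a b, φ a b = 0 := by
    intro a b
    have hK : ∀ a b, φ (k * a) (k * b) = φ a b := fun a b => by
      have := hinv (a • v0) (b • v1)
      rwa [smul_smul, smul_smul] at this
    have hd : k * k - 1 ≠ 0 := sub_ne_zero.2 hk2
    set a' := a / (k * k - 1)
    have h2 : φ (k * (k * a')) b = φ a' b := by rw [ks k hk, hK]
    have : φ (k * (k * a') - a') b = 0 := by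
      show γ ((k * (k * a') - a') • v0) (b • v1) = 0
      rw [sub_smul, I.sub_left]
      exact sub_eq_zero.2 h2
    rwa [show k * (k * a') - a' = a by
      show k * (k * (a / (k * k - 1))) - a / (k * k - 1) = a
      rw [← mul_div_assoc, ← mul_div_assoc, ← sub_div, div_eq_iff hd]
      ring] at this
  intro x y
  have hz : ∀ z, Cfsg.hermForm 2 F q z v0 = 0 → Cfsg.hermForm 2 F q z v1 = 0 → z = 0 := by
    intro z hz0 hz1
    let L : (Fin 2 → F) →ₗ[F] (Fin 2 → F) :=
      { toFun := fun z => ![Cfsg.hermForm 2 F q z v1, Cfsg.hermForm 2 F q z v0]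
        map_add' := fun z z' => by
          funext i; fin_cases i <;> simp [H.add_left]
        map_smul' := fun c z => by
          funext i; fin_cases i <;> simp [H.smul_left] }
    have hsur : Function.Surjective L := fun w => ⟨w 0 • v0 + w 1 • v1, by
      funext i; fin_cases i <;> simp [L, H.add_left, H.smul_left, h00, h11, h01, h10']⟩
    refine (LinearMap.injective_iff_surjective.2 hsur) ?_
    funext i; fin_cases i <;> simp [L, hz0, hz1, H.zero_left]
  obtain ⟨z, a, b, rfl, hz0, hz1⟩ := split_pair hF h00 h11 h01 x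
  obtain ⟨z', a', b', rfl, hz0', hz1'⟩ := split_pair hF h00 h11 h01 y
  rw [hz z hz0 hz1, hz z' hz0' hz1', add_zero, add_zero, I.add_left, I.add_right, I.add_right, z00, z11,
    show γ (a • v0) (b' • v1) = 0 from hφ a b', I.anti (b • v1), show γ (a' • v0) (b • v1) = 0 from hφ a' b]
  simp

end Inv

end Cfsg.Agent.SUMult
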